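import Cfsg.Agent.Lib.J4Five60.Reduce

/-!
# Assembly of the local structure at five
-/

set_option autoImplicit false

namespace Cfsg.Agent.Lib.J4Five60

open Cfsg Cfsg.Agent.Lib.J4Type19

attribute [local instance] m22_finite

variable {G : Type*} [Group G] {z : G} {P : Subgroup G}

/-- The local structure at five from the separate parts. -/
theorem five_structure [Finite G] (D : HData z P) {F : MFacts M22t} (FF : FiveFacts F)
    (hcov : Covering D) (hmain : ∃ g, g * z * g⁻¹ ∈ cC z P ∧ g * z * g⁻¹ ≠ z)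
    (hlocal : ∀ q : ↥(cC z P), D.π q = FF.q → q ^ 5 = 1 →
      (∃ g ∈ Subgroup.centralizer (Subgroup.zpowers (q : G) : Set G), g * z * g⁻¹ ∈ cE z ∧ g * z * g⁻¹ ≠ z) →
      Nonempty (EndHyp (Subgroup.zpowers (q : G)) z))
    (hend : ∀ Q : Subgroup G, EndHyp Q z → FiveStructure Q)
    (Q : Subgroup G) (hQ : Nat.card ↥Q = 5) (hQz : Q ≤ cH z) : FiveStructure Q := by
  obtain ⟨c₀, hc₀⟩ := D.πsurj FF.q
  obtain ⟨q, hqdef⟩ : ∃ q, q = c₀ ^ 6 := ⟨_, rfl⟩
  have hq : D.π q = FF.q := by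
    rw [hqdef, map_pow, hc₀, show (6 : ℕ) = 5 + 1 from rfl, pow_succ, FF.q5, one_mul]
  have q5 : q ^ 5 = 1 := by
    have h := D.toJMod.ker_pow (c₀ ^ 5) (show D.π (c₀ ^ 5) = 1 by rw [map_pow, hc₀, FF.q5])
    rw [hqdef, ← pow_mul, mul_comm, pow_mul]
    exact h
  have q1 : (q : G) ≠ 1 := fun h => FF.q1 (by rw [← hq, show q = 1 from Subtype.ext h, map_one])
  obtain ⟨h⟩ := endHyp_of D q.2.1 (congrArg Subtype.val q5) q1
    (hlocal q hq q5 (exists_fused D FF hq q5 hcov hmain)) Q hQ hQz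
  exact hend Q h

end Cfsg.Agent.Lib.J4Five60
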