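import Cfsg.Agent.Lib.J4Five60.Fused

/-!
# A conjugate of `z` in `E` lies over the commutator space of an involution of M22
-/

set_option autoImplicit false

namespace Cfsg.Agent.Lib.J4Five60

open Cfsg Cfsg.Agent.Lib.J4Type19 Cfsg.Agent.Lib.J4Fusion14

attribute [local instance] m22_finite

variable {G : Type*} [Group G] {z : G} {P : Subgroup G}

/-- An element of exponent four acting trivially on M22 lies in `E`. -/
theorem mem_cE_of_phi [Finite G] (D : HData z P) {h : G} (hh : h ∈ cH z) (h4 : h ^ 4 = 1)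
    (hφ : D.φ ⟨h, hh⟩ = 1) : h ∈ cE z := by
  obtain ⟨e, he, q, hq, heq⟩ := (D.φ_eq _).1 hφ
  replace heq : h = e * q := heq
  subst heq
  have hqH : q ∈ cH z := by
    rw [show q = e⁻¹ * (e * q) by group]
    exact mul_mem (inv_mem (cE_le z he)) hh
  have hq3 : q ^ 3 = 1 := by
    rcases (D.mem_P q).1 hq with rfl | rfl | rfl
    · simp
    · exact D.p3
    · rw [← pow_two, ← pow_mul, show 2 * 3 = 3 * 2 from rfl, pow_mul, D.p3, one_pow]
  obtain ⟨e1, he1⟩ : ∃ e1, e1 = e * (q * e * q⁻¹) := ⟨_, rfl⟩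
  have he1' : e1 ∈ cE z := he1 ▸ mul_mem he (cE_conj hqH he)
  have hq4 : q ∈ cE z := by
    have e4 : (e * q) ^ 4 = e1 * (q * q * e1 * (q * q)⁻¹) * q ^ 4 := by
      rw [he1]; simp only [pow_succ, pow_zero, one_mul]; group
    rw [h4, show q ^ 4 = q by rw [pow_succ, hq3, one_mul]] at e4
    rw [show q = (e1 * (q * q * e1 * (q * q)⁻¹))⁻¹ by
      rw [eq_inv_iff_mul_eq_one, ← mul_eq_one_comm]; exact e4.symm]
    exact inv_mem (mul_mem he1' (cE_conj (mul_mem hqH hqH) he1'))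
  have hqP : q ∈ Subgroup.centralizer (P : Set G) := by
    refine Subgroup.mem_centralizer_iff.2 fun x hx => ?_
    rcases (D.mem_P x).1 hx with rfl | rfl | rfl <;>
      rcases (D.mem_P q).1 hq with rfl | rfl | rfl <;> simp [mul_assoc]
  rcases mem_zpowers_z D.hJ ((centE D.hJ).le ⟨hq4, hqP⟩) with h' | h'
  · rw [h', mul_one]; exact he
  · exact mul_mem he (by rw [h']; exact z_mem D.hJ)

/-- A 2-subgroup of the automorphism group of M22 has order at most `2 ^ 8`. -/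
theorem card_two_le (R : Subgroup (MulAut M22t)) (hR : IsPGroup 2 R) : Nat.card ↥R ≤ 2 ^ 8 := by
  have h1 : Nat.card ↥(Inn M22t) = 443520 := by
    rw [← Nat.card_congr (MonoidHom.ofInjective (f := (MulAut.conj : M22t →* MulAut M22t)) m22_conj_injective).toEquiv,
      m22_card]
  have hA : Nat.card (MulAut M22t) = 887040 := by
    rw [← Subgroup.card_mul_index (Inn M22t), h1,
      show (Inn M22t).index = 2 from Compute.Mathieu.card_out_M22]
  have : Fact (Nat.Prime 2) := ⟨Nat.prime_two⟩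
  have : Finite (MulAut M22t) := Nat.finite_of_card_ne_zero (by rw [hA]; norm_num)
  obtain ⟨n, hn⟩ := hR.exists_card_eq
  have hd : Nat.card ↥R ∣ 887040 := hA ▸ R.card_subgroup_dvd_card
  rw [hn] at hd ⊢
  refine Nat.pow_le_pow_right (by norm_num) ?_
  by_contra h
  push Not at h
  exact absurd ((pow_dvd_pow 2 (show 9 ≤ n by omega)).trans hd) (by norm_num)

/-- The centralizer in `E` of `s`, as the preimage of a hyperplane. -/
theorem commute_of_perp [Finite G] (D : HData z P) {a b : ↥(cE z)} (h : form D.hJ (mk a) (mk b) = 0) :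
    Commute (a : G) (b : G) := congrArg Subtype.val (pair_eq_zero.1 h).eq

/-- Every conjugate of `z` in `E` other than `z` lies over the commutator space of some involution. -/
theorem conj_mem_rng [Finite G] (D : HData z P) {k : G} (hk : k * z * k⁻¹ ∈ cE z) (hne : k * z * k⁻¹ ≠ z) :
    ∃ c : ↥(cC z P), D.π c * D.π c = 1 ∧ D.π c ≠ 1 ∧ c ^ 4 = 1 ∧
      mk (⟨k * z * k⁻¹, hk⟩ : ↥(cE z)) ∈ JMod.rng (V := cV z) c := by
  classical
  have := D.toJMod.finiteV
  have hzc : ∀ x ∈ cH z, x * z = z * x := fun x hx => Subgroup.mem_centralizer_singleton_iff.1 hx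
  have hkz : k⁻¹ * z * k ∈ cH z :=
    Subgroup.mem_centralizer_singleton_iff.2 (conj_mem_cH.1 (cE_le z hk)).eq.symm
  have hswap : ∀ {l : G}, l * z * l⁻¹ ≠ z → l⁻¹ * z * l ≠ z := by
    intro l hl h
    apply hl
    calc l * z * l⁻¹ = l * (l⁻¹ * z * l) * l⁻¹ := by rw [h]
      _ = z := by group
  have hσH : ∀ {l : G}, ∀ x ∈ cE z, Commute x (l * z * l⁻¹) → l⁻¹ * x * l ∈ cH z := by
    intro l x _ hx
    refine Subgroup.mem_centralizer_singleton_iff.2 ?_
    calc l⁻¹ * x * l * z = l⁻¹ * (x * (l * z * l⁻¹)) * l := by group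
      _ = l⁻¹ * (l * z * l⁻¹ * x) * l := by rw [hx.eq]
      _ = z * (l⁻¹ * x * l) := by group
  -- the general set-up for a conjugate `l z l⁻¹` in `E`
  have setup : ∀ l : G, ∀ hl : l * z * l⁻¹ ∈ cE z, l * z * l⁻¹ ≠ z →
      ∃ (Cs : Subgroup G) (θ : ↥Cs →* MulAut M22t), Nat.card ↥Cs = 2 ^ 12 ∧
        (∀ x, x ∈ Cs ↔ x ∈ cE z ∧ Commute x (l * z * l⁻¹)) ∧
        (∀ (x : ↥Cs) (h : l⁻¹ * (x : G) * l ∈ cH z), θ x = D.φ ⟨_, h⟩) ∧
        (∀ x : ↥Cs, θ x = 1 ↔ l⁻¹ * (x : G) * l ∈ cE z) ∧ IsPGroup 2 ↥Cs := by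
    intro l hl hlne
    obtain ⟨v, hv⟩ : ∃ v, v = mk (⟨l * z * l⁻¹, hl⟩ : ↥(cE z)) := ⟨_, rfl⟩
    have hv0 : v ≠ 0 := by
      rw [hv, Ne, mk_eq_zero D.hJ]
      rintro (h | h)
      · exact z_ne D.hJ (by simpa using h)
      · exact hlne h
    obtain ⟨S, hS⟩ : ∃ S, S = AddSubgroup.zmultiples v := ⟨_, rfl⟩
    have hScard : Nat.card ↥S = 2 := by
      rw [hS, Nat.card_zmultiples, addOrderOf_eq_prime (p := 2) (by rw [two_nsmul, cV_two D.hJ]) hv0]
    have hperp : Nat.card ↥(perpOf D.toJMod.β S) = 2 ^ 11 :=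
      D.toJMod.card_perp_of (a := 1) (b := 11) rfl (by rw [hScard]; norm_num)
    obtain ⟨Cs, hCs⟩ : ∃ Cs, Cs = (pre (perpOf D.toJMod.β S)).map (cE z).subtype := ⟨_, rfl⟩
    have hmem : ∀ x, x ∈ Cs ↔ x ∈ cE z ∧ Commute x (l * z * l⁻¹) := by
      intro x
      rw [hCs]
      constructor
      · rintro ⟨e, he, rfl⟩
        refine ⟨e.2, commute_of_perp D (b := ⟨_, hl⟩) (he _ ?_)⟩
        rw [hS, hv]; exact AddSubgroup.mem_zmultiples _
      · rintro ⟨hx, hc⟩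
        refine ⟨⟨x, hx⟩, ?_, rfl⟩
        intro s hs
        rw [hS, AddSubgroup.mem_zmultiples_iff] at hs
        obtain ⟨n, rfl⟩ := hs
        have h0 : form D.hJ (mk (⟨x, hx⟩ : ↥(cE z))) v = 0 := by
          rw [hv]; exact pair_eq_zero.2 (Subtype.ext hc.eq)
        show form D.hJ _ (n • v) = 0
        rw [map_zsmul, h0, smul_zero]
    have hcard : Nat.card ↥Cs = 2 ^ 12 := by
      rw [hCs, Nat.card_congr (Subgroup.equivMapOfInjective _ _ (Subgroup.subtype_injective _)).symm.toEquiv,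
        card_pre D.hJ, hperp]
      norm_num
    let ρ : ↥Cs →* ↥(cH z) :=
      { toFun := fun x => ⟨l⁻¹ * (x : G) * l, hσH x ((hmem x).1 x.2).1 ((hmem x).1 x.2).2⟩
        map_one' := Subtype.ext (by simp)
        map_mul' := fun a b => Subtype.ext (by simp [mul_assoc]) }
    refine ⟨Cs, D.φ.comp ρ, hcard, hmem, fun x h => rfl, fun x => ⟨fun h => ?_, fun h => D.φ_cE h⟩,
      IsPGroup.of_card (n := 12) hcard⟩
    refine mem_cE_of_phi D (ρ x).2 ?_ h
    obtain ⟨hxE, -⟩ := (hmem x).1 x.2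
    show (l⁻¹ * (x : G) * l) ^ 4 = 1
    rw [show l⁻¹ * (x : G) * l = l⁻¹ * (x : G) * l⁻¹⁻¹ by rw [inv_inv], conj_pow,
      show (4 : ℕ) = 2 * 2 from rfl, pow_mul, pow_two (x : G)]
    rcases sq_or D.hJ ⟨(x : G), hxE⟩ with e | e <;> rw [e]
    · group
    · rw [pow_two, z_sq D.hJ]; group
  -- step one: `z` lies in the conjugate of `E`
  have hsE : k⁻¹ * z * k ∈ cE z := by
    by_contra hno
    obtain ⟨Cs, θ, hcard, hmem, hθ, hker, hp2⟩ := setup k hk hne
    have hR := card_two_le θ.range (hp2.of_surjective θ.rangeRestrict θ.rangeRestrict_surjective)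
    have h := θ.ker.card_mul_index
    rw [Subgroup.index_ker, hcard] at h
    have hsmall : Nat.card ↥θ.ker ≤ 4 := by
      have hin : ∀ x : ↥θ.ker, ∀ y ∈ Cs, Commute ((x : ↥Cs) : G) y := by
        intro x y hy
        obtain ⟨hxE, hxc⟩ := (hmem _).1 (x : ↥Cs).2
        obtain ⟨hyE, hyc⟩ := (hmem _).1 hy
        rcases comm_or D.hJ ⟨_, hxE⟩ ⟨y, hyE⟩ with e | e
        · exact mul_inv_eq_iff_eq_mul.1 (mul_inv_eq_one.1 e)
        · exfalso
          apply hno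
          have hxE' := (hker _).1 x.2
          have hyH := hσH y hyE hyc
          have : k⁻¹ * z * k = (k⁻¹ * ((x : ↥Cs) : G) * k) *
              ((k⁻¹ * y * k) * (k⁻¹ * ((x : ↥Cs) : G) * k)⁻¹ * (k⁻¹ * y * k)⁻¹) := by
            calc k⁻¹ * z * k = k⁻¹ * (((x : ↥Cs) : G) * y * ((x : ↥Cs) : G)⁻¹ * y⁻¹) * k := by
                  rw [show ((x : ↥Cs) : G) * y * ((x : ↥Cs) : G)⁻¹ * y⁻¹ = z from e]
              _ = _ := by group
          rw [this]
          exact mul_mem hxE' (cE_conj hyH (inv_mem hxE'))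
      obtain ⟨v, hv⟩ : ∃ v, v = mk (⟨k * z * k⁻¹, hk⟩ : ↥(cE z)) := ⟨_, rfl⟩
      obtain ⟨S, hS⟩ : ∃ S, S = AddSubgroup.zmultiples v := ⟨_, rfl⟩
      have hS2 : Nat.card ↥S ≤ 2 := by
        rw [hS, Nat.card_zmultiples]
        exact Nat.le_of_dvd (by norm_num) (addOrderOf_dvd_of_nsmul_eq_zero (by rw [two_nsmul, cV_two D.hJ]))
      have hback : ∀ x : ↥θ.ker, mk (⟨((x : ↥Cs) : G), ((hmem _).1 (x : ↥Cs).2).1⟩ : ↥(cE z)) ∈ S := by
        intro x
        have hpp : perpOf D.toJMod.β (perpOf D.toJMod.β S) = S := by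
          have hle : S ≤ perpOf D.toJMod.β (perpOf D.toJMod.β S) := fun w hw s hs => by
            rw [D.toJMod.symm]; exact hs w hw
          refine (D.toJMod.eq_of_card hle ?_).symm
          · have h1 := D.toJMod.perp S
            have h2 := D.toJMod.perp (perpOf D.toJMod.β S)
            refine le_of_eq (Nat.eq_of_mul_eq_mul_left (Nat.card_pos (α := ↥(perpOf D.toJMod.β S))) ?_)
            rw [h2, mul_comm, h1]
        rw [← hpp]
        intro s hs
        obtain ⟨e, rfl⟩ := mk_surjective s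
        refine pair_eq_zero.2 (Subtype.ext (hin x e ((hmem _).2 ⟨e.2, ?_⟩)).eq)
        refine commute_of_perp D (b := ⟨_, hk⟩) (hs _ ?_)
        rw [hS, hv]; exact AddSubgroup.mem_zmultiples _
      let em : ↥θ.ker → ↥(pre S) := fun x => ⟨⟨((x : ↥Cs) : G), ((hmem _).1 (x : ↥Cs).2).1⟩, hback x⟩
      have hemi : Function.Injective em := fun a b hab =>
        Subtype.ext (Subtype.ext (congrArg (fun t : ↥(pre S) => ((t : ↥(cE z)) : G)) hab))
      refine (Nat.card_le_card_of_injective em hemi).trans ?_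
      rw [card_pre D.hJ]; omega
    nlinarith
  -- step two
  obtain ⟨l, hl⟩ : ∃ l, l = k⁻¹ := ⟨_, rfl⟩
  have hlE : l * z * l⁻¹ ∈ cE z := by rw [hl, inv_inv]; exact hsE
  have hlne : l * z * l⁻¹ ≠ z := by rw [hl, inv_inv]; exact hswap hne
  obtain ⟨Cs, θ, hcard, hmem, hθ, hker, hp2⟩ := setup l hlE hlne
  have hR := card_two_le θ.range (hp2.of_surjective θ.rangeRestrict θ.rangeRestrict_surjective)
  have hI := θ.ker.card_mul_index
  rw [Subgroup.index_ker, hcard] at hI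
  obtain ⟨W, hW⟩ : ∃ W, W = (Inn M22t).comap θ := ⟨_, rfl⟩
  have hWc : 2 ^ 11 ≤ Nat.card ↥W := by
    have h := W.card_mul_index
    rw [hcard] at h
    have hidx : W.index ≤ 2 := by
      rw [hW, Subgroup.index_comap]
      have hn : (Inn M22t).Normal := inferInstance
      refine Nat.le_of_dvd (by norm_num) ?_
      have hd := Subgroup.relIndex_dvd_index_of_normal (H := Inn M22t) θ.range
      rwa [show (Inn M22t).index = 2 from Compute.Mathieu.card_out_M22] at hd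
    nlinarith
  -- some inner element does not centralize the kernel
  obtain ⟨x, hxW, y, hy, hxy⟩ : ∃ x ∈ W, ∃ y ∈ θ.ker, ¬ Commute (x : G) ((y : ↥Cs) : G) := by
    by_contra hcon
    push Not at hcon
    let emb : ∀ H : Subgroup ↥Cs, ↥H →* ↥(cE z) := fun H =>
      { toFun := fun a => ⟨((a : ↥Cs) : G), ((hmem _).1 (a : ↥Cs).2).1⟩
        map_one' := rfl
        map_mul' := fun a b => rfl }
    have hinj : ∀ H, Function.Injective (emb H) := fun H a b hab =>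
      Subtype.ext (Subtype.ext (congrArg (fun t : ↥(cE z) => (t : G)) hab))
    have hle : ∀ H : Subgroup ↥Cs, ∀ S : AddSubgroup (cV z), (∀ a : ↥H, mk (emb H a) ∈ S) →
        Nat.card ↥H ≤ 2 * Nat.card ↥S := by
      intro H S hS
      rw [← card_pre D.hJ]
      exact Nat.card_le_card_of_injective (fun a => (⟨emb H a, hS a⟩ : ↥(pre S)))
        (fun a b hab => hinj H (congrArg Subtype.val hab))
    let mkH : ↥W →* Multiplicative (cV z) :=
      { toFun := fun a => Multiplicative.ofAdd (mk (emb W a))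
        map_one' := congrArg Multiplicative.ofAdd mk_one
        map_mul' := fun a b => congrArg Multiplicative.ofAdd (mk_mul (emb W a) (emb W b)) }
    let Wb : AddSubgroup (cV z) := mkH.range.toAddSubgroup'
    have hWb : Nat.card ↥W ≤ 2 * Nat.card ↥Wb := hle W Wb fun a => ⟨a, rfl⟩
    have hKb : ∀ a : ↥θ.ker, mk (emb θ.ker a) ∈ perpOf D.toJMod.β Wb := by
      rintro a w ⟨b, hb⟩
      rw [show w = mk (emb W b) from hb.symm]
      exact pair_eq_zero.2 (Subtype.ext (hcon b b.2 a a.2).eq.symm)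
    have hK := hle _ _ hKb
    have hperp := D.toJMod.perp Wb
    have hWb2 : 2 ^ 10 ≤ Nat.card ↥Wb := by omega
    have : Nat.card ↥(perpOf D.toJMod.β Wb) ≤ 4 := by nlinarith
    nlinarith
  obtain ⟨hxE, hxc⟩ := (hmem _).1 x.2
  obtain ⟨hyE, -⟩ := (hmem _).1 y.2
  have hyE' := (hker y).1 hy
  have hxH := hσH _ hxE hxc
  obtain ⟨d, hd⟩ : ∃ d, d = l⁻¹ * (x : G) * l := ⟨_, rfl⟩
  obtain ⟨j, hj⟩ : ∃ j, j = l⁻¹ * (y : G) * l := ⟨_, rfl⟩
  rw [← hd] at hxH
  rw [← hj] at hyE'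
  have hdj : d * j * d⁻¹ * j⁻¹ = k * z * k⁻¹ := by
    rcases comm_or D.hJ ⟨(x : G), hxE⟩ ⟨(y : G), hyE⟩ with e | e
    · exact absurd (mul_inv_eq_iff_eq_mul.1 (mul_inv_eq_one.1 e)) hxy
    · rw [hd, hj, hl, inv_inv]
      calc k * (x : G) * k⁻¹ * (k * (y : G) * k⁻¹) * (k * (x : G) * k⁻¹)⁻¹ * (k * (y : G) * k⁻¹)⁻¹
          = k * ((x : G) * (y : G) * (x : G)⁻¹ * (y : G)⁻¹) * k⁻¹ := by group
        _ = k * z * k⁻¹ := by rw [show (x : G) * (y : G) * (x : G)⁻¹ * (y : G)⁻¹ = z from e]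
  have hd4 : d ^ 4 = 1 := by
    rw [hd, show l⁻¹ * (x : G) * l = l⁻¹ * (x : G) * l⁻¹⁻¹ by rw [inv_inv], conj_pow,
      show (4 : ℕ) = 2 * 2 from rfl, pow_mul, pow_two (x : G)]
    rcases sq_or D.hJ ⟨(x : G), hxE⟩ with e | e <;> rw [e]
    · group
    · rw [pow_two, z_sq D.hJ]; group
  have hd2 : d * d ∈ cE z := by
    rw [hd, show l⁻¹ * (x : G) * l * (l⁻¹ * (x : G) * l) = l⁻¹ * ((x : G) * (x : G)) * l by group]
    rcases sq_or D.hJ ⟨(x : G), hxE⟩ with e | e <;> rw [e]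
    · simp
    · rw [hl, inv_inv]; exact hk
  have hdi : D.Inner14 d := by
    have h := hxW
    rw [hW, Subgroup.mem_comap, hθ x (hd ▸ hxH)] at h
    have := (D.inner14_iff _).2 h
    rw [hd]; exact this
  obtain ⟨e, he, c, hc, hdc⟩ := hdi
  obtain ⟨cc, hcc⟩ : ∃ cc : ↥(cC z P), (cc : G) = c := ⟨⟨c, hc⟩, rfl⟩
  have hφd : D.φ ⟨d, hxH⟩ = MulAut.conj (D.π cc) := D.φ_inner he cc (by rw [hcc]; exact hdc)
  have hπ : D.π cc ≠ 1 := by
    intro h1
    rw [h1, map_one] at hφd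
    have hdE := mem_cE_of_phi D hxH hd4 hφd
    rcases comm_or D.hJ ⟨d, hdE⟩ ⟨j, hyE'⟩ with e' | e'
    · rw [show d * j * d⁻¹ * j⁻¹ = 1 from e'] at hdj
      exact z_ne D.hJ (by simpa using hdj.symm)
    · exact hne (hdj.symm.trans e')
  have hπ2 : D.π cc * D.π cc = 1 := by
    apply m22_conj_injective
    rw [map_mul, ← hφd, map_one, ← map_mul]
    exact D.φ_cE hd2
  have hc4 : cc ^ 4 = 1 := by
    have h6 := D.toJMod.ker_pow (cc * cc) (by rw [map_mul]; exact hπ2)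
    have h4' : (cc : G) ^ 4 ∈ cE z := by
      obtain ⟨e1, he1⟩ : ∃ e1, e1 = e * (c * e * c⁻¹) := ⟨_, rfl⟩
      have he1' : e1 ∈ cE z := he1 ▸ mul_mem he (cE_conj hc.1 he)
      have e4 : (e * c) ^ 4 = e1 * (c * c * e1 * (c * c)⁻¹) * c ^ 4 := by
        rw [he1]; simp only [pow_succ, pow_zero, one_mul]; group
      rw [← hdc, hd4] at e4
      rw [hcc, show c ^ 4 = (e1 * (c * c * e1 * (c * c)⁻¹))⁻¹ by
        rw [eq_inv_iff_mul_eq_one, ← mul_eq_one_comm]; exact e4.symm]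
      exact inv_mem (mul_mem he1' (cE_conj (mul_mem hc.1 hc.1) he1'))
    have h42 : (cc ^ 4) ^ 2 = 1 := by
      apply Subtype.ext
      rcases mem_zpowers_z D.hJ ((centE D.hJ).le ⟨h4', pow_mem cc.2.2 4⟩) with e' | e'
      · simp [e']
      · simp [e', pow_two, z_sq D.hJ]
    have h12 : cc ^ 12 = 1 := by rwa [← pow_two, ← pow_mul] at h6
    have h8 : cc ^ 8 = 1 := by rwa [← pow_mul] at h42
    rw [← h12, show (12 : ℕ) = 8 + 4 from rfl, pow_add, h8, one_mul]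
  refine ⟨cc, hπ2, hπ, hc4, ⟨mk ⟨j, hyE'⟩, ?_⟩⟩
  show cc • mk (⟨j, hyE'⟩ : ↥(cE z)) + mk ⟨j, hyE'⟩ = mk ⟨k * z * k⁻¹, hk⟩
  have h1 : mk (cEAut d hxH ⟨j, hyE'⟩) = cc • mk (⟨j, hyE'⟩ : ↥(cE z)) := by
    rw [smul_mk, ← D.mk_conj_cE he (cEAut (cc : G) cc.2.1 ⟨j, hyE'⟩)]
    congr 1
    apply Subtype.ext
    show d * j * d⁻¹ = e * ((cc : G) * j * (cc : G)⁻¹) * e⁻¹
    rw [hcc, hdc]; group
  have hdjE : (⟨k * z * k⁻¹, hk⟩ : ↥(cE z)) = cEAut d hxH ⟨j, hyE'⟩ * (⟨j, hyE'⟩ : ↥(cE z))⁻¹ :=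
    Subtype.ext hdj.symm
  rw [hdjE, mk_mul, mk_inv D, h1]

end Cfsg.Agent.Lib.J4Five60
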