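import Cfsg.Agent.Lib.J4Five60.CvBase

/-!
# The facts about M22 used to cover the fixed space of `U0` by elements of order five
-/

set_option autoImplicit false

namespace Cfsg.Agent.Lib.J4Five60

open Cfsg.Agent.Lib.Compute Cfsg.Agent.Lib.Compute.Mathieu Cfsg.Agent.Lib.J4Type19
open Cfsg.Agent.Lib.Fusion (memCode memCode_iff)

/-- `K` contains a conjugate of the distinguished commuting pair of elements of order three. -/
def HasPair {M : Type*} [Group M] (F : MFacts M) (K : Subgroup M) : Prop :=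
  ∃ m : M, m * F.a * m⁻¹ ∈ K ∧ m * (F.y * F.a * F.y⁻¹) * m⁻¹ ∈ K

/-- The facts. -/
structure CvFacts {M : Type*} [Group M] (F : MFacts M) : Type _ where
  q : M
  g : M
  h : M
  u : M
  q5 : q ^ 5 = 1
  q1 : q ≠ 1
  nq : ∀ x ∈ F.U0, q * x * q⁻¹ ∈ F.U0
  ng : ∀ x ∈ F.U0, g * x * g⁻¹ ∈ F.U0
  u0 : u ∈ F.U0
  u1 : u ≠ 1
  nu : ∀ x ∈ F.U0, h * u * h⁻¹ * x * (h * u * h⁻¹)⁻¹ ∈ F.U0
  five : ∃ r ∈ F.U0 ⊔ F.U0.map (MulAut.conj h).toMonoidHom, r ^ 5 = 1 ∧ r ≠ 1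
  gen0 : HasPair F (F.U0 ⊔ Subgroup.closure {q, g * q * g⁻¹})
  genq : HasPair F (F.U0 ⊔ F.U0.map (MulAut.conj h).toMonoidHom ⊔ Subgroup.zpowers q)
  gens : ∀ i < 5, HasPair F (F.U0 ⊔ F.U0.map (MulAut.conj h).toMonoidHom ⊔
    Subgroup.zpowers (q ^ i * g * q * (q ^ i * g)⁻¹))

local notation "en" => m22Enc

theorem cv_lift {p : ℕ × ℕ} (h : p ∈ cvLits) : ∃ x : MG, en x = p.1 ∧ en x⁻¹ = p.2 :=
  m22_lift (List.all_eq_true.1 cvLits_ok _ h)

theorem cv_enc_conj {x y : MG} {p : ℕ × ℕ} {c : ℕ} (h1 : en x = p.1) (h2 : en x⁻¹ = p.2) (hy : en y = c) :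
    en (x * y * x⁻¹) = cvConj p c := by
  rw [enc_mul, enc_mul, h1, h2, hy]; rfl

theorem cv_val {K : Subgroup MG} (L : List ℕ) (hL : ∀ c ∈ L, ∃ k ∈ K, en k = c) :
    ∀ w : List ℕ, ∃ k ∈ K, en k = cvVal L w := by
  intro w
  induction w with
  | nil => exact ⟨1, one_mem _, m22Enc_one⟩
  | cons j w ih =>
    obtain ⟨k, hk, hke⟩ := ih
    obtain ⟨g, hg, hge⟩ : ∃ g ∈ K, en g = L.getD j c1 := by
      by_cases hj : j < L.length
      · rw [List.getD_eq_getElem _ _ hj]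
        exact hL _ (List.getElem_mem hj)
      · rw [List.getD_eq_default _ _ (not_lt.1 hj)]
        exact ⟨1, one_mem _, m22Enc_one⟩
    exact ⟨g * k, mul_mem hg hk, by rw [enc_mul, hge, hke]; rfl⟩

theorem cv_mem {K : Subgroup MG} (L : List ℕ) (hL : ∀ c ∈ L, ∃ k ∈ K, en k = c) {x : MG} (w : List ℕ)
    (h : en x = cvVal L w) : x ∈ K := by
  obtain ⟨k, hk, hke⟩ := cv_val L hL w
  rwa [m22Enc_inj (h.trans hke.symm)]

theorem exists_cvFacts_gen : ∃ F : MFacts MG, Nonempty (CvFacts F) := by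
  obtain ⟨F, hU, ha, hb⟩ := exists_mFacts_data
  refine ⟨F, ?_⟩
  obtain ⟨q, hq, hq'⟩ := cv_lift (p := CvData.q) (by simp [cvLits])
  obtain ⟨g, hg, hg'⟩ := cv_lift (p := CvData.g) (by simp [cvLits])
  obtain ⟨h, hh, hh'⟩ := cv_lift (p := CvData.h) (by simp [cvLits])
  have hn := cvNorm_ok
  simp only [Bool.and_eq_true, memCode_iff, List.all_eq_true] at hn
  obtain ⟨⟨⟨⟨⟨⟨hnq, hng⟩, hnu⟩, huu⟩, hu0⟩, hu1⟩, hb0⟩ := hn
  have hcode : ∀ c ∈ Data.u0.map Prod.fst, ∃ x ∈ F.U0, en x = c := fun c hc => by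
    obtain ⟨p, hp, rfl⟩ := List.mem_map.1 hc
    obtain ⟨x, hx, -⟩ := lift_lit (p := p) (by simp [litList, hp])
    exact ⟨x, (hU _).2 (hx ▸ hc), hx⟩
  obtain ⟨u, huU, hu⟩ := hcode _ hu0
  have hu' : en u⁻¹ = CvData.u.2 := by
    rw [inv_eq_of_mul_eq_one_right (F.sq0 u huU), hu]
    exact Nat.eq_of_beq_eq_true huu
  set U1 := F.U0.map (MulAut.conj h).toMonoidHom with hU1
  have hbase : ∀ c ∈ cvBase, ∃ k ∈ F.U0 ⊔ U1, en k = c := by
    intro c hc
    rcases List.mem_append.1 hc with hc | hc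
    · obtain ⟨p, hp, rfl⟩ := List.mem_map.1 hc
      obtain ⟨x, hx, hxe⟩ := hcode _ (hb0 p hp)
      exact ⟨x, Subgroup.mem_sup_left hx, hxe⟩
    · obtain ⟨d, hd, rfl⟩ := List.mem_map.1 hc
      obtain ⟨p, hp, rfl⟩ := List.mem_map.1 hd
      obtain ⟨x, hx, hxe⟩ := hcode _ (hb0 p hp)
      exact ⟨h * x * h⁻¹, Subgroup.mem_sup_right ⟨x, hx, rfl⟩, cv_enc_conj hh hh' hxe⟩
  have helem : ∀ i : ℕ, en (q ^ i * g * q * (q ^ i * g)⁻¹) = cvElem i := by
    intro i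
    induction i with
    | zero =>
      rw [pow_zero, one_mul]
      exact cv_enc_conj hg hg' hq
    | succ i ih =>
      rw [show q ^ (i + 1) * g * q * (q ^ (i + 1) * g)⁻¹ = q * (q ^ i * g * q * (q ^ i * g)⁻¹) * q⁻¹ by
        rw [pow_succ']; group]
      exact cv_enc_conj hq hq' ih
  have hfive := cvFive_ok
  simp only [Bool.and_eq_true] at hfive
  obtain ⟨⟨hq5, hq1⟩, hr1, hr5⟩ := hfive
  have hpow : ∀ x : MG, x ^ 5 = x * (x * (x * (x * x))) := fun x => by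
    simp [pow_succ, mul_assoc]
  have hw := cvWords_ok
  simp only [cvWordsOK, Bool.and_eq_true, List.all_eq_true, List.mem_range] at hw
  obtain ⟨hlen, hw⟩ := hw
  have hext : ∀ i < 6, ∀ e : MG, en e = cvExtra i → HasPair F (F.U0 ⊔ U1 ⊔ Subgroup.zpowers e) := by
    intro i hi e he
    obtain ⟨h1, h2⟩ := hw i hi
    have hi' : i < CvData.res.length := by rw [Nat.eq_of_beq_eq_true hlen]; exact hi
    rw [List.getD_eq_getElem _ _ hi'] at h1 h2
    obtain ⟨m, hm, hm'⟩ := cv_lift (p := CvData.res[i].1) (by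
      rw [cvLits, List.mem_append]
      exact Or.inr (List.mem_map_of_mem (List.getElem_mem hi')))
    have hL : ∀ c ∈ cvBase ++ [cvExtra i], ∃ k ∈ F.U0 ⊔ U1 ⊔ Subgroup.zpowers e, en k = c := by
      intro c hc
      rcases List.mem_append.1 hc with hc | hc
      · obtain ⟨k, hk, hke⟩ := hbase c hc
        exact ⟨k, Subgroup.mem_sup_left hk, hke⟩
      · exact ⟨e, Subgroup.mem_sup_right (Subgroup.mem_zpowers e), by rw [he, List.mem_singleton.1 hc]⟩
    exact ⟨m, cv_mem _ hL _ ((cv_enc_conj hm hm' ha).trans (Nat.eq_of_beq_eq_true h1).symm),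
      cv_mem _ hL _ ((cv_enc_conj hm hm' hb).trans (Nat.eq_of_beq_eq_true h2).symm)⟩
  refine ⟨{ q := q, g := g, h := h, u := u, q5 := ?_, q1 := ?_, nq := ?_, ng := ?_, u0 := huU
            u1 := ?_, nu := ?_, five := ?_, gen0 := ?_, genq := ?_, gens := ?_ }⟩
  · apply m22Enc_inj
    rw [hpow, enc_mul, enc_mul, enc_mul, enc_mul, hq, m22Enc_one]
    exact Nat.eq_of_beq_eq_true hq5
  · exact ne_of_not_beq (by rw [hq, m22Enc_one]; exact hq1)
  · exact fun x hx => (hU _).2 (norm_of hq hq' hnq ((hU _).1 hx))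
  · exact fun x hx => (hU _).2 (norm_of hg hg' hng ((hU _).1 hx))
  · exact ne_of_not_beq (by rw [hu, m22Enc_one]; exact hu1)
  · intro x hx
    have e1 := cv_enc_conj hh hh' hu
    have e2 : en (h * u * h⁻¹)⁻¹ = cvConj CvData.h CvData.u.2 := by
      rw [show (h * u * h⁻¹)⁻¹ = h * u⁻¹ * h⁻¹ by group]
      exact cv_enc_conj hh hh' hu'
    refine (hU _).2 ?_
    simp only [normOK, List.all_eq_true, memCode_iff] at hnu
    have h3 := hnu _ ((hU _).1 hx)
    rw [← e1, ← e2, ← enc_mul, ← enc_mul] at h3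
    exact h3
  · obtain ⟨r, hr, hre⟩ := cv_val cvBase hbase CvData.five
    refine ⟨r, hr, m22Enc_inj ?_, ne_of_not_beq (by rw [hre, m22Enc_one]; exact hr1)⟩
    rw [hpow, enc_mul, enc_mul, enc_mul, enc_mul, hre, m22Enc_one]
    exact Nat.eq_of_beq_eq_true hr5
  · have hz := cvZero_ok
    simp only [cvZeroOK, Bool.and_eq_true] at hz
    have hL : ∀ c ∈ CvData.b0.map Prod.fst ++ [CvData.q.1, cvConj CvData.g CvData.q.1],
        ∃ k ∈ F.U0 ⊔ Subgroup.closure {q, g * q * g⁻¹}, en k = c := by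
      intro c hc
      rcases List.mem_append.1 hc with hc | hc
      · obtain ⟨p, hp, rfl⟩ := List.mem_map.1 hc
        obtain ⟨x, hx, hxe⟩ := hcode _ (hb0 p hp)
        exact ⟨x, Subgroup.mem_sup_left hx, hxe⟩
      · rcases (List.mem_cons.1 hc).imp_right List.mem_singleton.1 with rfl | rfl
        · exact ⟨q, Subgroup.mem_sup_right (Subgroup.subset_closure (by simp)), hq⟩
        · exact ⟨g * q * g⁻¹, Subgroup.mem_sup_right (Subgroup.subset_closure (by simp)),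
            cv_enc_conj hg hg' hq⟩
    exact ⟨1, cv_mem _ hL CvData.w0.1 (by
        rw [one_mul, inv_one, mul_one, ha]; exact (Nat.eq_of_beq_eq_true hz.1).symm),
      cv_mem _ hL CvData.w0.2 (by
        rw [one_mul, inv_one, mul_one, hb]; exact (Nat.eq_of_beq_eq_true hz.2).symm)⟩
  · exact hext 0 (by norm_num) q hq
  · exact fun i hi => hext (i + 1) (by omega) _ (helem i)

/-- The facts for M22. -/
theorem exists_cvFacts : ∃ F : MFacts ↥Cfsg.Spor.M22, Nonempty (CvFacts F) := by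
  rw [Fusion.Mathieu.eq_m22]
  exact exists_cvFacts_gen

end Cfsg.Agent.Lib.J4Five60
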