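import Cfsg.Agent.Lib.J4Type19.Planes2
import Cfsg.Agent.Lib.J4Five60.CvFacts

/-!
# Every vector fixed by `U0` is fixed by an element of order five
-/

set_option autoImplicit false

namespace Cfsg.Agent.Lib.J4Five60

open Cfsg.Agent.Lib.J4Type19

variable {C V M : Type*} [Group C] [AddCommGroup V] [DistribMulAction C V] [Group M]
variable (J : JMod C V M) {F : MFacts M}

/-- The images of the elements fixing `v`. -/
def cvFx (v : V) : Subgroup M := (MulAction.stabilizer C v).map J.π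

/-- The preimage of the normalizer of `U0`. -/
def cvK (F : MFacts M) : Subgroup C := (Subgroup.normalizer (F.U0 : Set M)).comap J.π

theorem cv_smul_zero {v : V} {n : ℕ} (hn : n % 3 ≠ 0) (h : J.ω ^ n • v = v) : v = 0 := by
  apply J.ωfix
  rcases (by omega : n % 3 = 1 ∨ n % 3 = 2) with e | e
  · rwa [J.ωpow_congr (m := 1) (by omega), pow_one] at h
  · have h2 : J.ω ^ n • J.ω ^ n • v = v := by rw [h, h]
    rwa [J.ωpow_add, J.ωpow_congr (m := 1) (by omega), pow_one] at h2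

theorem cv_a_scalar {v : V} {a x : C} (h : J.π x = J.π a) (hx : x • v = v) : ∃ j : ℕ, a • v = J.ω ^ j • v := by
  have hk : J.π (x⁻¹ * a) = 1 := by rw [map_mul, map_inv, h, inv_mul_cancel]
  obtain ⟨j, hj⟩ := J.ker_act _ hk
  refine ⟨j, ?_⟩
  rw [show a = x * (x⁻¹ * a) by group, mul_smul, hj, ← J.ωpow_comm, hx]

variable (L : Lifts J F)
include L

/-- No nonzero vector is an eigenvector of both lifts. -/
theorem cv_no_eigen {v : V} {i j : ℕ} (ha : L.a • v = J.ω ^ j • v)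
    (hb : (L.y * L.a * L.y⁻¹) • v = J.ω ^ i • v) : v = 0 := by
  refine cv_smul_zero J L.e_ne (MulAction.injective (J.ω ^ (i + j)) ?_)
  show J.ω ^ (i + j) • J.ω ^ L.e • v = J.ω ^ (i + j) • v
  have h1 : L.a • (L.y * L.a * L.y⁻¹) • v = J.ω ^ (i + j) • v := by
    rw [hb, ← J.ωpow_comm, ha, J.ωpow_add]
  rw [← mul_smul L.a, L.comm, mul_smul, mul_smul (L.y * L.a * L.y⁻¹) L.a, ha, ← J.ωpow_comm, hb,
    J.ωpow_add, J.ωpow_add] at h1
  rw [J.ωpow_add]
  rw [show i + j + L.e = L.e + j + i by omega]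
  exact h1

/-- The images fixing a nonzero vector contain no conjugate of the pair. -/
theorem cv_no_pair {v : V} (hv : v ≠ 0) {K : Subgroup M} (hK : K ≤ cvFx J v) (hp : HasPair F K) : False := by
  obtain ⟨m, hma, hmb⟩ := hp
  obtain ⟨g, rfl⟩ := J.surj m
  obtain ⟨x, hx, hxa⟩ := hK hma
  obtain ⟨y, hy, hyb⟩ := hK hmb
  have hx' : x • v = v := hx
  have hy' : y • v = v := hy
  obtain ⟨j, hj⟩ := cv_a_scalar J (v := g⁻¹ • v) (a := L.a) (x := g⁻¹ * x * g)
    (by rw [map_mul, map_mul, map_inv, hxa, L.πa]; group)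
    (by rw [mul_smul, mul_smul, smul_inv_smul, hx'])
  obtain ⟨i, hi⟩ := cv_a_scalar J (v := g⁻¹ • v) (a := L.y * L.a * L.y⁻¹) (x := g⁻¹ * y * g)
    (by rw [map_mul, map_mul, map_inv, hyb, map_mul, map_mul, map_inv, L.πa, L.πy]; group)
    (by rw [mul_smul, mul_smul, smul_inv_smul, hy'])
  refine hv ?_
  have h := cv_no_eigen J L hj hi
  rw [← smul_inv_smul g v, h, smul_zero]

omit L

theorem cv_mem_K {k : C} : k ∈ cvK J F ↔ J.π k ∈ Subgroup.normalizer (F.U0 : Set M) := Iff.rfl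

include J in
theorem cv_mem_norm [Finite M] {m : M} (h : ∀ x ∈ F.U0, m * x * m⁻¹ ∈ F.U0) :
    m ∈ Subgroup.normalizer (F.U0 : Set M) := by
  refine Subgroup.mem_normalizer_iff.2 fun x => ⟨h x, fun hx => ?_⟩
  have := J.norm_inv h _ hx
  rwa [show m⁻¹ * (m * x * m⁻¹) * m = x by group] at this

theorem cv_K_fix [Finite M] {k : C} (hk : k ∈ cvK J F) {v : V} (hv : v ∈ J.fix F.U0) : k • v ∈ J.fix F.U0 :=
  J.fix_invariant (fun x hx => (Subgroup.mem_normalizer_iff.1 hk x).1 hx) hv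

theorem cv_U0_le {v : V} (hv : v ∈ J.fix F.U0) : F.U0 ≤ cvFx J v := fun x hx => by
  obtain ⟨c, hc, h4⟩ := J.exists_two_lift (F.sq0 x hx)
  exact ⟨c, hv c (hc.symm ▸ hx) h4, hc⟩

theorem cv_mem_Fx {v : V} {c : C} (h : c • v = v) : J.π c ∈ cvFx J v := ⟨c, h, rfl⟩

/-- A lift of order dividing five. -/
theorem cv_five_lift {c : C} {q : M} (hc : J.π c = q) (hq : q ^ 5 = 1) :
    (c ^ 6) ^ 5 = 1 ∧ J.π (c ^ 6) = q := by
  constructor
  · rw [← pow_mul, show 6 * 5 = 5 * 6 from rfl, pow_mul]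
    exact J.ker_pow _ (by rw [map_pow, hc, hq])
  · rw [map_pow, hc, show (6 : ℕ) = 5 + 1 from rfl, pow_succ, hq, one_mul]

/-- Orbits of a 3-group without small orbits. -/
theorem cv_nine_dvd {H X : Type*} [Group H] [Finite H] [MulAction H X] [Finite X] (hH : IsPGroup 3 H)
    (h : ∀ x : X, 3 < Nat.card (MulAction.orbit H x)) : 9 ∣ Nat.card X := by
  classical
  have : Fact (Nat.Prime 3) := ⟨Nat.prime_three⟩
  have := Fintype.ofFinite (MulAction.orbitRel.Quotient H X)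
  rw [Nat.card_congr (MulAction.selfEquivSigmaOrbits H X), Nat.card_sigma]
  refine Finset.dvd_sum fun ω _ => ?_
  obtain ⟨n, hn⟩ := hH.card_orbit (Quotient.out ω)
  have h3 := h (Quotient.out ω)
  rw [hn] at h3 ⊢
  rcases n with _ | _ | n
  · norm_num at h3
  · norm_num at h3
  · exact ⟨3 ^ n, by rw [pow_succ, pow_succ]; ring⟩

section

variable [Finite C] [Finite M]

include L

/-- The orbits of the preimage of the normalizer on nonzero fixed vectors have order divisible by 9. -/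
theorem cv_orbit_nine {v : V} (hv0 : v ≠ 0) : 9 ∣ Nat.card ↥(MulAction.orbit (cvK J F) v) := by
  classical
  have : Finite V := J.finiteV
  have : Fact (Nat.Prime 3) := ⟨Nat.prime_three⟩
  obtain ⟨b, hb⟩ : ∃ b, b = L.y * L.a * L.y⁻¹ := ⟨_, rfl⟩
  have h3 : ∀ x : C, x ^ 3 = 1 → IsPGroup 3 ↥(Subgroup.zpowers x) := fun x hx => by
    rcases (Nat.dvd_prime Nat.prime_three).1 (orderOf_dvd_of_pow_eq_one hx) with h | h
    · exact IsPGroup.of_card (n := 0) (by rw [Nat.card_zpowers, h, pow_zero])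
    · exact IsPGroup.of_card (n := 1) (by rw [Nat.card_zpowers, h, pow_one])
  have hb3 : b ^ 3 = 1 := by rw [hb, conj_pow, L.a3, mul_one, mul_inv_cancel]
  set A := Subgroup.zpowers J.ω ⊔ Subgroup.zpowers L.a with hA
  have hωc : ∀ x : C, x * J.ω * x⁻¹ = J.ω := fun x => by
    rw [← (J.ker_comm _ J.πω x).eq, mul_inv_cancel_right]
  have hAp : IsPGroup 3 ↥A := by
    refine (h3 _ J.ω3).to_sup_of_normal_left' (h3 _ L.a3) fun x _ => ?_
    refine Subgroup.mem_normalizer_iff.2 fun w => ?_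
    have e : ∀ n : ℤ, x * J.ω ^ n * x⁻¹ = J.ω ^ n := fun n => by rw [← conj_zpow, hωc]
    refine ⟨?_, fun hw => ?_⟩
    · rintro ⟨n, rfl⟩
      exact ⟨n, (e n).symm⟩
    · obtain ⟨n, hn⟩ := hw
      refine ⟨n, ?_⟩
      show J.ω ^ n = w
      have hn' : J.ω ^ n = x * w * x⁻¹ := hn
      calc J.ω ^ n = x⁻¹ * (x * J.ω ^ n * x⁻¹) * x := by group
        _ = x⁻¹ * J.ω ^ n * x := by rw [e]
        _ = w := by rw [hn']; group
  have hbA : ∀ x ∈ A, b * x * b⁻¹ ∈ A := by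
    have hle : A ≤ A.comap (MulAut.conj b).toMonoidHom := by
      refine sup_le ((Subgroup.zpowers_le).2 ?_) ((Subgroup.zpowers_le).2 ?_)
      · show b * J.ω * b⁻¹ ∈ A
        rw [hωc]
        exact Subgroup.mem_sup_left (Subgroup.mem_zpowers _)
      · show b * L.a * b⁻¹ ∈ A
        have hc : L.a * b = J.ω ^ L.e * (b * L.a) := hb ▸ L.comm
        rw [show b * L.a = (J.ω ^ L.e)⁻¹ * (L.a * b) by rw [hc]; group, mul_assoc, mul_inv_cancel_right]
        exact mul_mem (inv_mem (pow_mem (Subgroup.mem_sup_left (Subgroup.mem_zpowers _)) _))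
          (Subgroup.mem_sup_right (Subgroup.mem_zpowers _))
    exact fun x hx => hle hx
  have hbN : b ∈ Subgroup.normalizer (A : Set C) := by
    refine Subgroup.mem_normalizer_iff.2 fun x => ⟨hbA x, fun hx => ?_⟩
    have h2 := hbA _ (hbA _ hx)
    rwa [show b * (b * (b * x * b⁻¹) * b⁻¹) * b⁻¹ = b ^ 3 * x * (b ^ 3)⁻¹ by
      simp [pow_succ, mul_assoc], hb3, one_mul, inv_one, mul_one] at h2
  set H := A ⊔ Subgroup.zpowers b with hH
  have hHp : IsPGroup 3 ↥H := hAp.to_sup_of_normal_left' (h3 _ hb3) ((Subgroup.zpowers_le).2 hbN)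
  have hωH : J.ω ∈ H := Subgroup.mem_sup_left (Subgroup.mem_sup_left (Subgroup.mem_zpowers _))
  have haH : L.a ∈ H := Subgroup.mem_sup_left (Subgroup.mem_sup_right (Subgroup.mem_zpowers _))
  have hbH : b ∈ H := Subgroup.mem_sup_right (Subgroup.mem_zpowers _)
  have hHK : H ≤ cvK J F := by
    refine sup_le (sup_le ((Subgroup.zpowers_le).2 ?_) ((Subgroup.zpowers_le).2 ?_)) ((Subgroup.zpowers_le).2 ?_)
    · rw [cv_mem_K, J.πω]; exact one_mem _
    · rw [cv_mem_K, L.πa]; exact cv_mem_norm J F.na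
    · rw [cv_mem_K, hb, map_mul, map_mul, map_inv, L.πa, L.πy]; exact cv_mem_norm J F.nb
  letI : MulAction ↥H ↥(MulAction.orbit (cvK J F) v) :=
    { smul := fun h w => (⟨(h : C), hHK h.2⟩ : ↥(cvK J F)) • w
      one_smul := fun w => Subtype.ext (one_smul C (w : V))
      mul_smul := fun h h' w => Subtype.ext (mul_smul (h : C) (h' : C) (w : V)) }
  refine cv_nine_dvd hHp fun w => ?_
  have hw0 : (w : V) ≠ 0 := fun h0 => by
    obtain ⟨k, hk⟩ := w.2
    exact hv0 (MulAction.injective (k : C) (show (k : C) • v = (k : C) • (0 : V) by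
      rw [smul_zero]; exact hk.trans h0))
  let ι : Fin 3 → ↥(MulAction.orbit H w) := fun i => ⟨(⟨J.ω ^ (i : ℕ), pow_mem hωH _⟩ : ↥H) • w, ⟨_, rfl⟩⟩
  have hι : Function.Injective ι := fun i j h => by
    have h' : J.ω ^ (i : ℕ) • (w : V) = J.ω ^ (j : ℕ) • (w : V) :=
      congrArg (fun t : ↥(MulAction.orbit H w) => ((t : ↥(MulAction.orbit (cvK J F) v)) : V)) h
    by_contra hne
    refine hw0 (cv_smul_zero J (n := (i : ℕ) + 3 - j) (by omega) (MulAction.injective (J.ω ^ (j : ℕ)) ?_))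
    show J.ω ^ (j : ℕ) • J.ω ^ ((i : ℕ) + 3 - j) • (w : V) = J.ω ^ (j : ℕ) • (w : V)
    rw [J.ωpow_add, J.ωpow_congr (m := (i : ℕ)) (by omega), h']
  by_contra hle
  have h3c := Nat.card_le_card_of_injective ι hι
  rw [Nat.card_fin] at h3c
  have hsur : Function.Surjective ι :=
    (hι.bijective_of_nat_card_le (by rw [Nat.card_fin]; omega)).2
  obtain ⟨j, hj⟩ := hsur ⟨(⟨L.a, haH⟩ : ↥H) • w, ⟨_, rfl⟩⟩
  obtain ⟨i, hi⟩ := hsur ⟨(⟨b, hbH⟩ : ↥H) • w, ⟨_, rfl⟩⟩
  have hj' : J.ω ^ (j : ℕ) • (w : V) = L.a • (w : V) :=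
    congrArg (fun t : ↥(MulAction.orbit H w) => ((t : ↥(MulAction.orbit (cvK J F) v)) : V)) hj
  have hi' : J.ω ^ (i : ℕ) • (w : V) = b • (w : V) :=
    congrArg (fun t : ↥(MulAction.orbit H w) => ((t : ↥(MulAction.orbit (cvK J F) v)) : V)) hi
  exact hw0 (cv_no_eigen J L hj'.symm (hb ▸ hi'.symm))

omit L in
/-- Orbits and the fixed points of an element of order five. -/
theorem cv_orbit_five {d : ↥(cvK J F)} (hd : d ^ 5 = 1) (v : V) :
    Nat.card ↥(MulAction.orbit (cvK J F) v) % 5 =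
      Nat.card {w : ↥(MulAction.orbit (cvK J F) v) // (d : C) • (w : V) = w} % 5 := by
  classical
  have : Finite V := J.finiteV
  have : Fact (Nat.Prime 5) := ⟨by norm_num⟩
  have hp : IsPGroup 5 ↥(Subgroup.zpowers d) := by
    rcases (Nat.dvd_prime (by norm_num : Nat.Prime 5)).1 (orderOf_dvd_of_pow_eq_one hd) with h | h
    · exact IsPGroup.of_card (n := 0) (by rw [Nat.card_zpowers, h, pow_zero])
    · exact IsPGroup.of_card (n := 1) (by rw [Nat.card_zpowers, h, pow_one])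
  have := hp.card_modEq_card_fixedPoints ↥(MulAction.orbit (cvK J F) v)
  refine this.trans ?_
  show _ % 5 = _ % 5
  congr 1
  refine Nat.card_congr (Equiv.subtypeEquivRight fun w => ?_)
  constructor
  · intro h
    exact congrArg Subtype.val (h ⟨d, Subgroup.mem_zpowers d⟩)
  · intro h g
    obtain ⟨n, hn⟩ := g.2
    have h1 : d ∈ MulAction.stabilizer ↥(cvK J F) w := Subtype.ext h
    have h2 := Subgroup.zpow_mem _ h1 n
    show (g : ↥(cvK J F)) • w = w
    rw [← hn]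
    exact h2

omit L in
theorem cv_omega_eq {v : V} (hv : v ≠ 0) {i j : ℕ} (hi : i < 3) (hj : j < 3)
    (h : J.ω ^ i • v = J.ω ^ j • v) : i = j := by
  by_contra hne
  refine hv (cv_smul_zero J (n := i + 3 - j) (by omega) (MulAction.injective (J.ω ^ j) ?_))
  show J.ω ^ j • J.ω ^ (i + 3 - j) • v = J.ω ^ j • v
  rw [J.ωpow_add, J.ωpow_congr (m := i) (by omega), h]

/-- The fixed points of `U0` meet those of a conjugate. -/
theorem cv_exists_common (Fc : CvFacts F) : ∃ v ∈ J.fix F.U0, v ≠ 0 ∧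
    F.U0.map (MulAut.conj Fc.h).toMonoidHom ≤ cvFx J v := by
  classical
  have : Finite V := J.finiteV
  obtain ⟨hc, rfl⟩ : ∃ hc, hc = Fc.h := ⟨_, rfl⟩
  obtain ⟨hC, hhC⟩ := J.surj Fc.h
  set U1 := F.U0.map (MulAut.conj Fc.h).toMonoidHom with hU1
  have hgood : J.Good U1 := by
    have := J.good_map L (J.good_U0 L) hC
    rwa [hhC] at this
  obtain ⟨hc1, -⟩ := J.good_fix L hgood
  obtain ⟨hc0, -⟩ := J.fix_U0 L
  obtain ⟨u', hu'⟩ : ∃ u', u' = Fc.h * Fc.u * Fc.h⁻¹ := ⟨_, rfl⟩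
  have hu1 : u' ∈ U1 := hu' ▸ ⟨Fc.u, Fc.u0, rfl⟩
  have hne : u' ≠ 1 := fun h => Fc.u1 (by rwa [hu', mul_inv_eq_one, mul_eq_left] at h)
  obtain ⟨c, hc, h4⟩ := J.exists_two_lift (hgood.2.1 u' hu1)
  have hK := J.card_fixElt L (c := c) (by rw [hc]; exact hgood.2.1 u' hu1) (by rw [hc]; exact hne) h4
  let f : ↥(J.fix F.U0) →+ V :=
    (DistribSMul.toAddMonoidHom V c + AddMonoidHom.id V).comp (J.fix F.U0).subtype
  have hinv : ∀ x ∈ J.fix F.U0, c • x ∈ J.fix F.U0 := fun x hx =>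
    J.fix_invariant (fun y hy => by rw [hc, hu']; exact Fc.nu y hy) hx
  have hker : Nat.card ↥f.ker = Nat.card ↥(J.fix F.U0 ⊓ fixElt c) := by
    refine Nat.card_congr
      { toFun := fun x => ⟨((x : ↥(J.fix F.U0)) : V), (x : ↥(J.fix F.U0)).2, ?_⟩
        invFun := fun x => ⟨⟨(x : V), x.2.1⟩, ?_⟩
        left_inv := fun x => rfl
        right_inv := fun x => rfl }
    · have hx : c • ((x : ↥(J.fix F.U0)) : V) + ((x : ↥(J.fix F.U0)) : V) = 0 := x.2
      rwa [add_eq_zero_iff_eq_neg, J.neg_eq] at hx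
    · show c • (x : V) + (x : V) = 0
      rw [show c • (x : V) = (x : V) from x.2.2, J.two]
  have hrng : Nat.card ↥f.range ≤ Nat.card ↥(J.fix F.U0 ⊓ fixElt c) := by
    refine AddSubgroup.card_le_of_le ?_
    rintro _ ⟨x, rfl⟩
    refine ⟨add_mem (hinv _ x.2) x.2, ?_⟩
    show c • (c • (x : V) + (x : V)) = c • (x : V) + (x : V)
    rw [smul_add, J.lift_sq_smul (by rw [hc]; exact hgood.2.1 u' hu1) h4, add_comm]
  have hA : 8 ≤ Nat.card ↥(J.fix F.U0 ⊓ fixElt c) := by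
    have h := f.ker.card_mul_index
    rw [AddSubgroup.index_ker, hker, hc0] at h
    change Nat.card ↥(J.fix F.U0 ⊓ fixElt c) * Nat.card ↥f.range = 2 ^ 6 at h
    have := Nat.mul_le_mul_left (Nat.card ↥(J.fix F.U0 ⊓ fixElt c)) hrng
    rw [h] at this
    by_contra hlt
    have h7 : Nat.card ↥(J.fix F.U0 ⊓ fixElt c) ≤ 7 := by omega
    have := this.trans (Nat.mul_le_mul h7 h7)
    norm_num at this
  by_contra hno
  push Not at hno
  have hzero : ∀ x ∈ J.fix F.U0, x ∈ J.fix U1 → x = 0 := fun x hx hx1 => by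
    by_contra hx0
    refine hno x hx hx0 fun y hy => ?_
    obtain ⟨d, hd, hd4⟩ := J.exists_two_lift (hgood.2.1 y hy)
    exact ⟨d, hx1 d (hd.symm ▸ hy) hd4, hd⟩
  have h1K : J.fix U1 ≤ fixElt c := J.fix_le_fixElt (by rw [hc]; exact hu1) h4
  have hle := Nat.card_le_card_of_injective
    (fun q : ↥(J.fix F.U0 ⊓ fixElt c) × ↥(J.fix U1) =>
      (⟨(q.1 : V) + (q.2 : V), add_mem q.1.2.2 (h1K q.2.2)⟩ : ↥(fixElt (V := V) c))) fun q q' h => by
    have h' : (q.1 : V) + (q.2 : V) = (q'.1 : V) + (q'.2 : V) := congrArg Subtype.val h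
    have hs : (q.1 : V) - q'.1 = (q'.2 : V) - q.2 := by
      rw [sub_eq_sub_iff_add_eq_add, h', add_comm]
    have h0 := hzero _ (sub_mem q.1.2.1 q'.1.2.1) (hs ▸ sub_mem q'.2.2 q.2.2)
    rw [h0, eq_comm, sub_eq_zero] at hs
    exact Prod.ext (Subtype.ext (sub_eq_zero.1 h0)) (Subtype.ext hs.symm)
  rw [Nat.card_prod, hc1, hK] at hle
  have := le_trans (Nat.mul_le_mul_right (2 ^ 6) hA) hle
  norm_num at this

set_option maxHeartbeats 800000 in
/-- **Every vector fixed by `U0` is fixed by an element of order five.** -/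
theorem cv_cover (Fc : CvFacts F) {v : V} (hv : v ∈ J.fix F.U0) :
    ∃ d : C, d ^ 5 = 1 ∧ d ≠ 1 ∧ d • v = v := by
  classical
  have : Finite V := J.finiteV
  have : Fact (Nat.Prime 5) := ⟨by norm_num⟩
  obtain ⟨hc0, -⟩ := J.fix_U0 L
  obtain ⟨S, hS⟩ : ∃ S, S = J.fix F.U0 := ⟨_, rfl⟩
  rw [← hS] at hc0
  -- the element of order five and the normalising element
  obtain ⟨x, hx⟩ := J.surj Fc.q
  obtain ⟨hd5, hdq⟩ := cv_five_lift J hx Fc.q5
  obtain ⟨d, hd⟩ : ∃ d, d = x ^ 6 := ⟨_, rfl⟩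
  rw [← hd] at hd5 hdq
  obtain ⟨g, hg⟩ := J.surj Fc.g
  have hdK : d ∈ cvK J F := by rw [cv_mem_K, hdq]; exact cv_mem_norm J Fc.nq
  have hgK : g ∈ cvK J F := by rw [cv_mem_K, hg]; exact cv_mem_norm J Fc.ng
  have hωK : J.ω ∈ cvK J F := by rw [cv_mem_K, J.πω]; exact one_mem _
  have hd1 : d ≠ 1 := fun h => Fc.q1 (by rw [← hdq, h, map_one])
  have hconj : ∀ (k e : C) (w : V), e ^ 5 = 1 → e ≠ 1 → e • w = w →
      ∃ d' : C, d' ^ 5 = 1 ∧ d' ≠ 1 ∧ d' • k • w = k • w := fun k e w he he1 hw =>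
    ⟨k * e * k⁻¹, by rw [conj_pow, he, mul_one, mul_inv_cancel],
      fun h => he1 (by rwa [mul_inv_eq_one, mul_eq_left] at h),
      by rw [mul_smul, mul_smul, inv_smul_smul, hw]⟩
  by_cases hv0 : v = 0
  · exact ⟨d, hd5, hd1, by rw [hv0, smul_zero]⟩
  have hgen0 : ∀ w ∈ S, w ≠ 0 → d • w = w → d • g⁻¹ • w = g⁻¹ • w → False := fun w hw hw0 h1 h2 => by
    refine cv_no_pair J L hw0 (sup_le (cv_U0_le J (hS ▸ hw)) ((Subgroup.closure_le _).2 ?_)) Fc.gen0
    intro y hy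
    rcases hy with rfl | hy
    · exact hdq ▸ cv_mem_Fx J h1
    · rw [Set.mem_singleton_iff] at hy
      subst hy
      refine ⟨g * d * g⁻¹, ?_, by rw [map_mul, map_mul, map_inv, hg, hdq]⟩
      show (g * d * g⁻¹) • w = w
      rw [mul_smul, mul_smul, h2, smul_inv_smul]
  -- the fixed vectors of `d`
  obtain ⟨T, hT⟩ : ∃ T, T = S ⊓ fixElt d := ⟨_, rfl⟩
  have hTc : Nat.card ↥T = 4 := by
    obtain ⟨e, he6, he⟩ := J.card_pow T (fun w hw => by
      rw [hT] at hw ⊢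
      exact ⟨hS ▸ J.ω_mem_fix (hS ▸ hw.1), J.fixElt_ω d w hw.2⟩)
    have hle : Nat.card ↥T ≤ 64 := by
      rw [show (64 : ℕ) = 2 ^ 6 by norm_num, ← hc0, hT]
      exact AddSubgroup.card_le_of_le inf_le_left
    have hp : IsPGroup 5 ↥(Subgroup.zpowers d) := by
      rcases (Nat.dvd_prime (by norm_num : Nat.Prime 5)).1 (orderOf_dvd_of_pow_eq_one hd5) with h | h
      · exact IsPGroup.of_card (n := 0) (by rw [Nat.card_zpowers, h, pow_zero])
      · exact IsPGroup.of_card (n := 1) (by rw [Nat.card_zpowers, h, pow_one])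
    have hinv : ∀ y : ↥(Subgroup.zpowers d), ∀ w ∈ S, (y : C) • w ∈ S := fun y w hw =>
      hS ▸ cv_K_fix J ((Subgroup.zpowers_le).2 hdK y.2) (hS ▸ hw)
    letI : MulAction ↥(Subgroup.zpowers d) ↥S :=
      { smul := fun y w => ⟨(y : C) • (w : V), hinv y w w.2⟩
        one_smul := fun w => Subtype.ext (one_smul C (w : V))
        mul_smul := fun y y' w => Subtype.ext (mul_smul (y : C) (y' : C) (w : V)) }
    have h5 := hp.card_modEq_card_fixedPoints ↥S
    have hfix : Nat.card ↥(MulAction.fixedPoints ↥(Subgroup.zpowers d) ↥S) = Nat.card ↥T := Nat.card_congr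
      { toFun := fun w => ⟨((w : ↥S) : V), hT ▸ ⟨(w : ↥S).2,
          congrArg Subtype.val (w.2 ⟨d, Subgroup.mem_zpowers d⟩)⟩⟩
        invFun := fun w => ⟨⟨(w : V), (hT.le w.2).1⟩, fun y => by
          obtain ⟨n, hn⟩ := y.2
          refine Subtype.ext ?_
          show (y : C) • (w : V) = (w : V)
          rw [← hn]
          exact Subgroup.zpow_mem (MulAction.stabilizer C (w : V)) ((hT.le w.2).2 : d • (w : V) = w) n⟩
        left_inv := fun w => rfl
        right_inv := fun w => rfl }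
    rw [hfix, hc0, he] at h5
    rw [he] at hle ⊢
    have he3 : e ≤ 3 := (Nat.pow_le_pow_iff_right (by norm_num : 1 < 4)).1 (by simpa using hle)
    interval_cases e
    · exact absurd h5 (by decide)
    · norm_num
    · exact absurd h5 (by decide)
    · exfalso
      have hTS : T = S := J.eq_of_card (hT ▸ inf_le_left) (by rw [hc0, he]; norm_num)
      have hmem : g⁻¹ • v ∈ S := hS ▸ cv_K_fix J (inv_mem hgK) hv
      exact hgen0 v (hS ▸ hv) hv0 (hT.le (hTS.ge (hS ▸ hv))).2 (hT.le (hTS.ge hmem)).2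
  obtain ⟨v0, hv0T, hv00⟩ : ∃ v0 ∈ T, v0 ≠ 0 := by
    by_contra hno
    push Not at hno
    rw [(AddSubgroup.eq_bot_iff_forall _).2 hno, AddSubgroup.card_bot] at hTc
    norm_num at hTc
  have hv0S : v0 ∈ S := (hT.le hv0T).1
  have hdv0 : d • v0 = v0 := (hT.le hv0T).2
  have hdω : ∀ j : ℕ, ∀ y : C, y • J.ω ^ j • v0 = J.ω ^ j • y • v0 := fun j y => (J.ωpow_comm j y v0).symm
  have hfixd : ∀ w ∈ S, w ≠ 0 → d • w = w → ∃ j : Fin 3, J.ω ^ (j : ℕ) • v0 = w := by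
    intro w hw hw0 hdw
    have hTω : ∀ j : ℕ, J.ω ^ j • v0 ∈ T := fun j => by
      rw [hT]
      exact ⟨hS ▸ cv_K_fix J (pow_mem hωK j) (hS ▸ hv0S), by
        show d • _ = _
        rw [hdω, hdv0]⟩
    let ι : Option (Fin 3) → ↥T := fun o => o.elim ⟨0, zero_mem _⟩ fun j => ⟨J.ω ^ (j : ℕ) • v0, hTω j⟩
    have hι : Function.Injective ι := by
      rintro (_ | i) (_ | j) h
      · rfl
      · exact absurd (MulAction.injective (J.ω ^ (j : ℕ))
          (show J.ω ^ (j : ℕ) • v0 = J.ω ^ (j : ℕ) • (0 : V) by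
            rw [smul_zero]; exact (congrArg Subtype.val h).symm)) hv00
      · exact absurd (MulAction.injective (J.ω ^ (i : ℕ))
          (show J.ω ^ (i : ℕ) • v0 = J.ω ^ (i : ℕ) • (0 : V) by
            rw [smul_zero]; exact congrArg Subtype.val h)) hv00
      · exact congrArg some (Fin.ext (cv_omega_eq J hv00 i.2 j.2 (congrArg Subtype.val h)))
    obtain ⟨o, ho⟩ := (hι.bijective_of_nat_card_le (by rw [hTc]; simp)).2 ⟨w, hT ▸ ⟨hw, hdw⟩⟩
    rcases o with _ | j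
    · exact absurd (congrArg Subtype.val ho).symm hw0
    · exact ⟨j, congrArg Subtype.val ho⟩
  -- orbits
  obtain ⟨B, hB⟩ : ∃ B : Set V, B = {w | w ∈ S ∧ w ≠ 0} := ⟨_, rfl⟩
  have hBc : B.ncard = 63 := by
    have h : B = (S : Set V) \ {0} := by rw [hB]; rfl
    rw [h, Set.ncard_diff_singleton_of_mem (zero_mem S), ← Nat.card_coe_set_eq]
    change Nat.card ↥S - 1 = 63
    rw [hc0]
    norm_num
  have horb : ∀ w ∈ S, w ≠ 0 → MulAction.orbit (cvK J F) w ⊆ B := by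
    rintro w hw hw0 _ ⟨k, rfl⟩
    rw [hB]
    refine ⟨hS ▸ cv_K_fix J k.2 (hS ▸ hw), fun h => hw0 (MulAction.injective (k : C) ?_)⟩
    show (k : C) • w = (k : C) • (0 : V)
    rw [smul_zero]; exact h
  have hd5K : (⟨d, hdK⟩ : ↥(cvK J F)) ^ 5 = 1 := Subtype.ext hd5
  obtain ⟨O0, hO0⟩ : ∃ O, O = MulAction.orbit (cvK J F) v0 := ⟨_, rfl⟩
  have hωO : ∀ j : ℕ, J.ω ^ j • v0 ∈ O0 := fun j => hO0 ▸ ⟨⟨_, pow_mem hωK j⟩, rfl⟩
  have hN0 : O0.ncard = 18 ∨ O0.ncard = 63 := by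
    have h9 := cv_orbit_nine J L hv00 (F := F)
    have h5 := cv_orbit_five J hd5K v0
    have h3 : Nat.card {w : ↥(MulAction.orbit (cvK J F) v0) //
        ((⟨d, hdK⟩ : ↥(cvK J F)) : C) • (w : V) = w} = 3 := by
      let ι : Fin 3 → {w : ↥(MulAction.orbit (cvK J F) v0) //
          ((⟨d, hdK⟩ : ↥(cvK J F)) : C) • (w : V) = w} := fun j =>
        ⟨⟨J.ω ^ (j : ℕ) • v0, hO0 ▸ hωO j⟩, by show d • _ = _; rw [hdω, hdv0]⟩
      have hι : Function.Bijective ι := by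
        refine ⟨fun i j h => Fin.ext (cv_omega_eq J hv00 i.2 j.2
          (congrArg (fun t => ((Subtype.val t : ↥(MulAction.orbit (cvK J F) v0)) : V)) h)), fun w => ?_⟩
        obtain ⟨hwS, hw0⟩ : ((w : ↥(MulAction.orbit (cvK J F) v0)) : V) ∈ S ∧
            ((w : ↥(MulAction.orbit (cvK J F) v0)) : V) ≠ 0 := hB.le (horb v0 hv0S hv00 w.1.2)
        obtain ⟨j, hj⟩ := hfixd _ hwS hw0 w.2
        exact ⟨j, Subtype.ext (Subtype.ext hj)⟩
      rw [← Nat.card_eq_of_bijective ι hι, Nat.card_fin]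
    rw [h3, ← hO0, Nat.card_coe_set_eq] at h5
    rw [← hO0, Nat.card_coe_set_eq] at h9
    have hle : O0.ncard ≤ 63 := hBc ▸ Set.ncard_le_ncard (hO0 ▸ horb v0 hv0S hv00) (Set.toFinite _)
    omega
  obtain ⟨v1, hv1, hv10, hU1⟩ := cv_exists_common J L Fc
  obtain ⟨r, hr, hr5, hr1⟩ := Fc.five
  have hfx : F.U0 ⊔ F.U0.map (MulAut.conj Fc.h).toMonoidHom ≤ cvFx J v1 := sup_le (cv_U0_le J hv1) hU1
  obtain ⟨x1, hx1, hx1r⟩ := hfx hr
  obtain ⟨hd15, hd1r⟩ := cv_five_lift J hx1r hr5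
  have hd11 : x1 ^ 6 ≠ 1 := fun h => hr1 (by rw [← hd1r, h, map_one])
  have hd1v : (x1 ^ 6) • v1 = v1 := pow_mem (hx1 : x1 ∈ MulAction.stabilizer C v1) 6
  -- the common vector lies outside the first orbit when that is small
  have hout : O0.ncard = 18 → v1 ∉ O0 := by
    intro h18 hmem
    obtain ⟨w, hw⟩ : ∃ w, w = g • v0 := ⟨_, rfl⟩
    have hwS : w ∈ S := hw ▸ hS ▸ cv_K_fix J hgK (hS ▸ hv0S)
    have hw0 : w ≠ 0 := fun h => hv00 (MulAction.injective g (show g • v0 = g • (0 : V) by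
      rw [smul_zero, ← hw, h]))
    have hdw : d • w ≠ w := fun h => hgen0 w hwS hw0 h (by rw [hw, inv_smul_smul, hdv0])
    have hdiO : ∀ (i j : ℕ), J.ω ^ j • d ^ i • w ∈ O0 := fun i j => by
      rw [hO0]
      exact ⟨⟨J.ω ^ j * (d ^ i * g), mul_mem (pow_mem hωK j) (mul_mem (pow_mem hdK i) hgK)⟩, by
        show (J.ω ^ j * (d ^ i * g)) • v0 = _
        rw [mul_smul, mul_smul, hw]⟩
    have hd5' : ∀ (n : ℕ) (y : V), d ^ n • y = d ^ (n % 5) • y := fun n y => by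
      conv_lhs => rw [← Nat.mod_add_div n 5, pow_add, pow_mul, hd5, one_pow, mul_one]
    have hfree : ∀ n k : ℕ, d ^ n • w = J.ω ^ k • w → n % 5 = 0 ∧ k % 3 = 0 := by
      intro n k h
      have hit : ∀ m : ℕ, d ^ (n * m) • w = J.ω ^ (k * m) • w := by
        intro m
        induction m with
        | zero => simp
        | succ m ih =>
          rw [show n * (m + 1) = n + n * m by ring, pow_add, mul_smul, ih, ← J.ωpow_comm, h, J.ωpow_add]
          congr 2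
      have hk : k % 3 = 0 := by
        by_contra hk
        have h5 := hit 5
        rw [mul_comm n, pow_mul, hd5, one_pow, one_smul] at h5
        exact hw0 (cv_smul_zero J (n := k * 5) (by omega) h5.symm)
      refine ⟨?_, hk⟩
      by_contra hn
      apply hdw
      rcases (by omega : n % 5 = 1 ∨ n % 5 = 2 ∨ n % 5 = 3 ∨ n % 5 = 4) with e | e | e | e
      · have := hit 1
        rwa [hd5', J.ωpow_congr (m := 0) (by omega), show n * 1 % 5 = 1 by omega, pow_one, pow_zero, one_smul] at this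
      · have := hit 3
        rwa [hd5', J.ωpow_congr (m := 0) (by omega), show n * 3 % 5 = 1 by omega, pow_one, pow_zero, one_smul] at this
      · have := hit 2
        rwa [hd5', J.ωpow_congr (m := 0) (by omega), show n * 2 % 5 = 1 by omega, pow_one, pow_zero, one_smul] at this
      · have := hit 4
        rwa [hd5', J.ωpow_congr (m := 0) (by omega), show n * 4 % 5 = 1 by omega, pow_one, pow_zero, one_smul] at this
    let ι : (Fin 5 × Fin 3) ⊕ Fin 3 → ↥O0 :=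
      Sum.elim (fun q => ⟨J.ω ^ (q.2 : ℕ) • d ^ (q.1 : ℕ) • w, hdiO _ _⟩) fun j => ⟨J.ω ^ (j : ℕ) • v0, hωO j⟩
    have hmix : ∀ i j k : ℕ, J.ω ^ j • d ^ i • w ≠ J.ω ^ k • v0 := by
      intro i j k h
      apply hdw
      refine MulAction.injective (J.ω ^ j * d ^ i) ?_
      show (J.ω ^ j * d ^ i) • d • w = (J.ω ^ j * d ^ i) • w
      have h2 := congrArg (fun y => d • y) h
      rw [← J.ωpow_comm k d v0, hdv0, ← h, ← J.ωpow_comm j d, ← mul_smul d, ← pow_succ'] at h2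
      rw [mul_smul, mul_smul, ← mul_smul (d ^ i), ← pow_succ]
      exact h2
    have hι : Function.Injective ι := by
      rintro (⟨i, j⟩ | j) (⟨i', j'⟩ | j') h
      · have h' : J.ω ^ (j : ℕ) • d ^ (i : ℕ) • w = J.ω ^ (j' : ℕ) • d ^ (i' : ℕ) • w := congrArg Subtype.val h
        have h2 := congrArg (fun y => J.ω ^ (3 - (j : ℕ)) • d ^ (5 - (i' : ℕ)) • y) h'
        rw [← J.ωpow_comm (j : ℕ) (d ^ (5 - (i' : ℕ))), ← J.ωpow_comm (j' : ℕ) (d ^ (5 - (i' : ℕ))),
          J.ωpow_add, J.ωpow_add, ← mul_smul (d ^ (5 - (i' : ℕ))), ← mul_smul (d ^ (5 - (i' : ℕ))),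
          ← pow_add, ← pow_add] at h2
        rw [show 5 - (i' : ℕ) + i' = 5 by omega, hd5, one_smul,
          J.ωpow_congr (n := 3 - (j : ℕ) + j) (m := 0) (by omega), pow_zero, one_smul] at h2
        obtain ⟨h5, h3⟩ := hfree _ _ h2
        have := i.2; have := i'.2; have := j.2; have := j'.2
        exact congrArg Sum.inl (Prod.ext (Fin.ext (show (i : ℕ) = i' by omega)) (Fin.ext (show (j : ℕ) = j' by omega)))
      · exact absurd (congrArg Subtype.val h) (hmix _ _ _)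
      · exact absurd (congrArg Subtype.val h).symm (hmix _ _ _)
      · exact congrArg Sum.inr (Fin.ext (cv_omega_eq J hv00 j.2 j'.2 (congrArg Subtype.val h)))
    obtain ⟨o, ho⟩ := (hι.bijective_of_nat_card_le (by
      rw [Nat.card_coe_set_eq, h18]; simp)).2 ⟨v1, hmem⟩
    rcases o with ⟨i, j⟩ | j
    · have hv1e : v1 = J.ω ^ (j : ℕ) • d ^ (i : ℕ) • w := (congrArg Subtype.val ho).symm
      refine cv_no_pair J L hv10 (sup_le hfx ((Subgroup.zpowers_le).2 ?_)) (Fc.gens i i.2)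
      refine ⟨d ^ (i : ℕ) * g * d * (d ^ (i : ℕ) * g)⁻¹, ?_, by simp only [map_mul, map_inv, map_pow, hdq, hg]⟩
      show (d ^ (i : ℕ) * g * d * (d ^ (i : ℕ) * g)⁻¹) • v1 = v1
      rw [hv1e, hw, ← mul_smul (d ^ (i : ℕ)) g, ← J.ωpow_comm, mul_smul, inv_smul_smul, mul_smul,
        hdv0]
    · refine cv_no_pair J L hv10 (sup_le hfx ((Subgroup.zpowers_le).2 (hdq ▸ cv_mem_Fx J ?_))) Fc.genq
      rw [← (show J.ω ^ (j : ℕ) • v0 = v1 from congrArg Subtype.val ho), hdω, hdv0]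
  -- conclusion
  have hin0 : v ∈ O0 → ∃ d' : C, d' ^ 5 = 1 ∧ d' ≠ 1 ∧ d' • v = v := fun h => by
    rw [hO0] at h
    obtain ⟨k, rfl⟩ := h
    exact hconj k d v0 hd5 hd1 hdv0
  have hvB : v ∈ B := hB ▸ ⟨hS ▸ hv, hv0⟩
  have hO0B : O0 ⊆ B := hO0 ▸ horb v0 hv0S hv00
  rcases hN0 with h18 | h63
  swap
  · exact hin0 ((Set.eq_of_subset_of_ncard_le hO0B (by rw [hBc, h63]) (Set.toFinite _)).ge hvB)
  obtain ⟨O1, hO1⟩ : ∃ O, O = MulAction.orbit (cvK J F) v1 := ⟨_, rfl⟩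
  have hO1B : O1 ⊆ B := hO1 ▸ horb v1 (hS ▸ hv1) hv10
  have hdis : Disjoint O0 O1 := by
    rw [hO0, hO1]
    rcases MulAction.orbit.eq_or_disjoint (G := cvK J F) v0 v1 with h | h
    · exact absurd (h.ge (MulAction.mem_orbit_self v1)) (hO0 ▸ hout h18)
    · exact h
  have h45 : 45 ≤ O1.ncard := by
    have h9 := cv_orbit_nine J L hv10 (F := F)
    have h5 := cv_orbit_five J hd5K v1
    have h0 : Nat.card {w : ↥(MulAction.orbit (cvK J F) v1) //
        ((⟨d, hdK⟩ : ↥(cvK J F)) : C) • (w : V) = w} = 0 := by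
      rw [Nat.card_eq_zero]
      refine Or.inl ⟨fun w => ?_⟩
      obtain ⟨hwS, hw0⟩ : ((w : ↥(MulAction.orbit (cvK J F) v1)) : V) ∈ S ∧
          ((w : ↥(MulAction.orbit (cvK J F) v1)) : V) ≠ 0 := hB.le (horb v1 (hS ▸ hv1) hv10 w.1.2)
      obtain ⟨j, hj⟩ := hfixd _ hwS hw0 w.2
      exact Set.disjoint_left.1 hdis (hωO j) (hO1 ▸ (hj.symm ▸ w.1.2 : J.ω ^ (j : ℕ) • v0 ∈ _))
    rw [h0, ← hO1, Nat.card_coe_set_eq] at h5
    rw [← hO1, Nat.card_coe_set_eq] at h9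
    have hpos : 0 < O1.ncard := (Set.ncard_pos (Set.toFinite _)).2 ⟨v1, hO1 ▸ MulAction.mem_orbit_self v1⟩
    omega
  have hall : O0 ∪ O1 = B := Set.eq_of_subset_of_ncard_le (Set.union_subset hO0B hO1B) (by
    rw [Set.ncard_union_eq hdis (Set.toFinite _) (Set.toFinite _), hBc, h18]; omega) (Set.toFinite _)
  rcases hall.ge hvB with h | h
  · exact hin0 h
  · rw [hO1] at h
    obtain ⟨k, rfl⟩ := h
    exact hconj k _ v1 hd15 hd11 hd1v

end

end Cfsg.Agent.Lib.J4Five60
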