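import Cfsg.Agent.Lib.J4Five60.Spec
import Cfsg.Agent.Lib.J4Five60.CoverMod

/-!
# Covering by elements of order five
-/

set_option autoImplicit false

namespace Cfsg.Agent.Lib.J4Five60

open Cfsg Cfsg.Agent.Lib.J4Type19

/-- The abstract form. -/
theorem cv_covering_mod {C V M : Type*} [Group C] [AddCommGroup V] [DistribMulAction C V] [Group M]
    [Finite C] [Finite M] (J : JMod C V M) {F : MFacts M} (L : Lifts J F) (Fc : CvFacts F) {c : C}
    (h2 : J.π c * J.π c = 1) (h1 : J.π c ≠ 1) (h4 : c ^ 4 = 1) {v : V}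
    (hv : v ∈ JMod.rng (V := V) c) : ∃ d : C, d ^ 5 = 1 ∧ d ≠ 1 ∧ d • v = v := by
  have hu : orderOf Fc.u = 2 := orderOf_eq_prime (by rw [pow_two, F.sq0 _ Fc.u0]) Fc.u1
  have hc : orderOf (J.π c) = 2 := orderOf_eq_prime (by rw [pow_two, h2]) h1
  obtain ⟨m, hm⟩ := isConj_iff.1 (F.inv_conj _ _ hu hc)
  obtain ⟨g, rfl⟩ := J.surj m
  obtain ⟨c0, hc0, h04⟩ := J.exists_two_lift (F.sq0 _ Fc.u0)
  have hmove := J.fixElt_move (c := c0) (c' := c) (g := g) (by rw [hc0]; exact hm.symm) h04 h4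
  rw [(J.perp_fixElt L h2 h1 h4).1] at hv
  have hv0 : g⁻¹ • v ∈ perpOf J.β (fixElt (V := V) c0) := fun s hs => by
    rw [← J.inv g, smul_inv_smul]
    exact hv _ (hmove.ge (mem_moveSub.2 ⟨s, hs, rfl⟩))
  have hv1 : g⁻¹ • v ∈ perpOf J.β (J.fix F.U0) :=
    fun s hs => hv0 s (J.fix_le_fixElt (by rw [hc0]; exact Fc.u0) h04 hs)
  rw [J.perp_self (J.fix_U0 L).1 (J.fix_U0 L).2] at hv1
  obtain ⟨d, hd5, hd1, hdv⟩ := cv_cover J L Fc hv1
  refine ⟨g * d * g⁻¹, by rw [conj_pow, hd5, mul_one, mul_inv_cancel],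
    fun h => hd1 (by rwa [mul_inv_eq_one, mul_eq_left] at h), ?_⟩
  rw [mul_smul, mul_smul, hdv, smul_inv_smul]

variable {G : Type*} [Group G]

/-- **A vector in the commutator space of an involution is fixed by an element of order five.** -/
theorem covering [Finite G] {z : G} {P : Subgroup G} (D : HData z P) : Covering D := by
  intro c h2 h1 h4 v hv
  obtain ⟨F, ⟨Fc⟩⟩ := exists_cvFacts
  have : Finite M22t := m22_finite
  obtain ⟨L⟩ := D.toJMod.exists_lifts F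
  exact cv_covering_mod D.toJMod L Fc h2 h1 h4 hv

end Cfsg.Agent.Lib.J4Five60
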