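import Cfsg.Agent.Lib.J4Five60.CvChecks

/-!
# The data of M22 for the covering: the first facts with their literals kept
-/

set_option autoImplicit false

namespace Cfsg.Agent.Lib.J4Five60

open Cfsg.Agent.Lib.Compute Cfsg.Agent.Lib.Compute.Mathieu Cfsg.Agent.Lib.J4Type19
open Cfsg.Agent.Lib.Fusion (memCode memCode_iff)

local notation "en" => m22Enc

/-- The first facts, with the literals remembered. -/
theorem exists_mFacts_data : ∃ F : MFacts MG, (∀ g, g ∈ F.U0 ↔ en g ∈ Data.u0.map Prod.fst) ∧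
    en F.a = Data.ela.1 ∧ en (F.y * F.a * F.y⁻¹) = cb := by
  classical
  obtain ⟨U0, hU0, card0, sq0⟩ := exists_sub (L := Data.u0) (fun p hp => by simp [litList, hp]) u0_ok
  obtain ⟨U2, hU2, card2, sq2⟩ := exists_sub (L := Data.u2) (fun p hp => by simp [litList, hp]) u2_ok
  obtain ⟨a, ha, ha'⟩ := lift_lit (p := Data.ela) (by simp [litList])
  obtain ⟨y, hy, hy'⟩ := lift_lit (p := Data.ely) (by simp [litList])
  obtain ⟨f, hf, -⟩ := lift_lit (p := Data.fix0) (by simp [litList])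
  obtain ⟨c, hc, hc'⟩ := lift_lit (p := Data.elc) (by simp [litList])
  obtain ⟨n₁, hn1, hn1'⟩ := lift_lit (p := Data.gn1) (by simp [litList])
  obtain ⟨n₂, hn2, hn2'⟩ := lift_lit (p := Data.gn2) (by simp [litList])
  obtain ⟨u, hu, -⟩ := lift_lit (p := Data.inv0) (by simp [litList])
  have hone : en 1 = c1 := m22Enc_one
  have hb : en (y * a * y⁻¹) = cb := by rw [enc_mul, enc_mul, hy, ha, hy']; rfl
  have hb' : en (y * a * y⁻¹)⁻¹ = mc (mc Data.ely.1 Data.ela.2) Data.ely.2 := by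
    rw [show (y * a * y⁻¹)⁻¹ = y * a⁻¹ * y⁻¹ by group, enc_mul, enc_mul, hy, ha', hy']
  have hay := ay_ok
  simp only [Bool.and_eq_true] at hay
  obtain ⟨⟨⟨⟨⟨⟨⟨h3, h1⟩, h4⟩, hab⟩, hb1⟩, hba⟩, hba'⟩, hyb⟩ := hay
  have hna := norm_a
  rw [Bool.and_eq_true] at hna
  have htr := trans_ok
  simp only [Bool.and_eq_true, List.all_eq_true, memCode_iff] at htr
  obtain ⟨⟨⟨hgs, hu0⟩, hu1⟩, htr⟩ := htr
  have hck := c_ok
  simp only [Bool.and_eq_true, memCode_iff] at hck
  obtain ⟨⟨⟨⟨⟨⟨⟨hc3, hnc⟩, hk1⟩, hk2⟩, hf0⟩, hf2⟩, hf1⟩, hcf⟩ := hck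
  have : Fact (Nat.Prime 2) := ⟨Nat.prime_two⟩
  have hs := Fusion.Mathieu.m22Sylow_ok
  simp only [Fusion.sylowCheck, Bool.and_eq_true] at hs
  obtain ⟨⟨⟨⟨⟨⟨⟨⟨hPS, hLP⟩, hsz⟩, -⟩, -⟩, -⟩, -⟩, -⟩, -⟩ := hs
  obtain ⟨hok, hle⟩ := gensOK_of_pairCheck ptEquiv _ gensOK_m22 m22Chain_ok hPS
  set C := permCoding 8 ptEquiv (by decide : 24 ≤ 2 ^ 8)
  set P := genGroup C Fusion.Mathieu.m22Fus.PS with hPdef
  have hPH : P ≤ m22Group := hle
  have hsize : Nat.card (P.subgroupOf m22Group) = 2 ^ (Nat.card m22Group).factorization 2 := by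
    rw [Nat.card_congr (Subgroup.subgroupOfEquivOfLe hPH).toEquiv, hPdef,
      card_genGroup C hok hLP, Nat.eq_of_beq_eq_true hsz, card_m22]
    have : (443520 : ℕ) = 2 ^ 7 * 3465 := by norm_num
    rw [this, Nat.factorization_mul (by norm_num) (by norm_num),
      Nat.Prime.factorization_pow Nat.prime_two]
    simp [Nat.factorization_eq_zero_of_not_dvd (by norm_num : ¬ 2 ∣ 3465), Fusion.Mathieu.m22Fus]
  let S₀ : Sylow 2 MG := Sylow.ofCard (P.subgroupOf m22Group) hsize
  have hmemP : ∀ x : MG, x ∈ (S₀ : Subgroup MG) → en x ∈ elems (permOps 8 24) Fusion.Mathieu.m22SylChain :=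
    fun x hx => enc_mem_elems _ hok hLP hx
  refine ⟨{ U0 := U0, U2 := U2, card0 := card0, card2 := card2, sq0 := sq0, sq2 := sq2, a := a, y := y
            c := c, f := f, n₁ := n₁, n₂ := n₂, P0 := (S₀ : Subgroup MG)
            a3 := ?_, a1 := ?_, y4 := ?_, ab := ?_, b1 := ?_, ba := ?_, ba' := ?_, yb := ?_, na := ?_, nb := ?_
            trans := ?_, c3 := ?_, nc := ?_, hn₁ := ?_, hn₂ := ?_, f0 := ?_, f2 := ?_, f1 := ?_, cf := ?_, gen := ?_
            inv_conj := ?_, sylow := ?_, small := ?_, simple := isSimpleGroup_m22, card := card_m22 }, hU0, ha, hb⟩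
  · apply m22Enc_inj
    rw [pow_succ, pow_two, mul_assoc, enc_mul, enc_mul, ha, hone]
    exact beq_mul h3
  · exact ne_of_not_beq (by rw [ha, hone]; exact h1)
  · apply m22Enc_inj
    rw [show y ^ 4 = y * y * (y * y) by simp [pow_succ, mul_assoc], enc_mul, enc_mul, hy, hone]
    exact beq_mul h4
  · apply m22Enc_inj
    show en (a * (y * a * y⁻¹)) = en (y * a * y⁻¹ * a)
    rw [enc_mul a, enc_mul (y * a * y⁻¹), ha, hb]
    exact beq_mul hab
  · exact ne_of_not_beq (by rw [hb, hone]; exact hb1)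
  · exact ne_of_not_beq (by rw [hb, ha]; exact hba)
  · exact ne_of_not_beq (by rw [hb, ha']; exact hba')
  · apply m22Enc_inj
    rw [enc_mul (y * (y * a * y⁻¹)), enc_mul y, hy, hb, hy', ha']
    exact beq_mul hyb
  · exact fun x hx => (hU0 _).2 (norm_of ha ha' hna.1 ((hU0 _).1 hx))
  · exact fun x hx => (hU0 _).2 (norm_of (p := (cb, _)) hb hb' hna.2 ((hU0 _).1 hx))
  · refine ⟨u, (hU0 _).2 (hu ▸ hu0), ne_of_not_beq (by rw [hu, hone]; exact hu1), fun x hx hx1 => ?_⟩
    have h := htr _ ((hU0 _).1 hx)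
    rw [Bool.or_eq_true, List.any_eq_true] at h
    rcases h with h | ⟨p, hp, h⟩
    · exact absurd (m22Enc_inj ((Nat.eq_of_beq_eq_true h).trans hone.symm)) hx1
    · obtain ⟨g, hg, hg'⟩ := lift_lit (p := p) (by simp [litList, hp])
      refine ⟨g, fun v hv => (hU0 _).2 (norm_of hg hg' (hgs p hp) ((hU0 _).1 hv)), m22Enc_inj ?_⟩
      rw [enc_mul, enc_mul, hg, hu, hg']
      exact beq_mul h
  · apply m22Enc_inj
    rw [pow_succ, pow_two, mul_assoc, enc_mul, enc_mul, hc, hone]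
    exact beq_mul hc3
  · exact fun x hx => (hU0 _).2 (norm_of hc hc' hnc ((hU0 _).1 hx))
  · exact fun x hx => (hU2 _).2 (norm_of hn1 hn1' hk1 ((hU2 _).1 hx))
  · exact fun x hx => (hU2 _).2 (norm_of hn2 hn2' hk2 ((hU2 _).1 hx))
  · exact (hU0 _).2 (hf ▸ hf0)
  · exact (hU2 _).2 (hf ▸ hf2)
  · exact ne_of_not_beq (by rw [hf, hone]; exact hf1)
  · apply m22Enc_inj
    show en (c * f) = en (f * c)
    rw [enc_mul c, enc_mul f, hc, hf]
    exact beq_mul hcf
  · set K : Subgroup MG := Subgroup.closure {n₁, n₂, c} with hK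
    have hval : ∀ l : List ℕ, ∃ k ∈ K, en k = wval l := by
      intro l
      induction l with
      | nil => exact ⟨1, one_mem _, hone⟩
      | cons j l ih =>
        obtain ⟨k, hk, hke⟩ := ih
        show ∃ k ∈ K, en k = mc _ (wval l)
        rcases j with _ | _ | _ | j
        · exact ⟨n₁ * k, mul_mem (Subgroup.subset_closure (by simp)) hk, by rw [enc_mul, hn1, hke]; rfl⟩
        · exact ⟨n₂ * k, mul_mem (Subgroup.subset_closure (by simp)) hk, by rw [enc_mul, hn2, hke]; rfl⟩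
        · exact ⟨c * k, mul_mem (Subgroup.subset_closure (by simp)) hk, by rw [enc_mul, hc, hke]; rfl⟩
        · exact ⟨1 * k, mul_mem (one_mem _) hk, by rw [enc_mul, hone, hke]; simp⟩
    refine Subgroup.map_injective (Subgroup.subtype_injective _) (le_antisymm (Subgroup.map_mono le_top) ?_)
    rw [← MonoidHom.range_eq_map, Subgroup.range_subtype]
    refine (Subgroup.closure_le _).2 ?_
    rintro g ⟨p, hp, hg⟩
    have hmem : p.1 ∈ Data.words.map wval := words_ok ▸ List.mem_map_of_mem hp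
    obtain ⟨l, -, hl⟩ := List.mem_map.1 hmem
    obtain ⟨k, hk, hke⟩ := hval l
    exact ⟨k, hk, ptCoding.inj ((hke.trans hl).trans hg.symm)⟩
  · obtain ⟨t, -, hall, -⟩ := m22_involution
    exact fun x x' hx hx' => (hall x hx).trans (hall x' hx').symm
  · intro S hS
    obtain ⟨T, hT⟩ := hS.exists_le_sylow
    obtain ⟨g, hg⟩ := MulAction.exists_smul_eq MG T S₀
    refine ⟨g, fun s hs => ?_⟩
    rw [← hg, Sylow.coe_subgroup_smul]
    exact ⟨s, hT hs, by simp⟩
  · intro A hA hsq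
    have hsub : (∀ x ∈ A, x ∈ U0 ∨ x ∈ U2) → Nat.card A ≤ 16 ∧ (Nat.card A = 16 → A = U0 ∨ A = U2) := by
      intro hall
      have hor : A ≤ U0 ∨ A ≤ U2 := by
        by_contra hno
        rw [not_or] at hno
        obtain ⟨p, hp, hp0⟩ := SetLike.not_le_iff_exists.1 hno.1
        obtain ⟨q, hq, hq2⟩ := SetLike.not_le_iff_exists.1 hno.2
        rcases hall _ (mul_mem hp hq) with h | h
        · exact hp0 (by simpa using mul_mem h (inv_mem ((hall q hq).resolve_right hq2)))
        · exact hq2 (by simpa using mul_mem (inv_mem ((hall p hp).resolve_left hp0)) h)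
      rcases hor with h | h
      · exact ⟨card0 ▸ Subgroup.card_le_of_le h, fun he => Or.inl (Subgroup.eq_of_le_of_card_ge h (by omega))⟩
      · exact ⟨card2 ▸ Subgroup.card_le_of_le h, fun he => Or.inr (Subgroup.eq_of_le_of_card_ge h (by omega))⟩
    by_cases hall : ∀ x ∈ A, x ∈ U0 ∨ x ∈ U2
    · exact hsub hall
    push Not at hall
    obtain ⟨x, hx, hx0, hx2⟩ := hall
    have hcomm : ∀ p ∈ A, ∀ q ∈ A, mc (en p) (en q) = mc (en q) (en p) := fun p hp q hq => by
      rw [← enc_mul, ← enc_mul, comm_of_sq_all hsq hp hq]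
    have hmem : ∀ p ∈ A, en p ∈ sqOne := fun p hp => List.mem_filter.2 ⟨hmemP p (hA hp), by
      rw [← enc_mul, hsq p hp, hone]; exact Nat.beq_refl _⟩
    have hxbad : en x ∈ badInv := by
      refine List.mem_filter.2 ⟨hmemP x (hA hx), ?_⟩
      simp only [Bool.and_eq_true, Bool.not_eq_true']
      refine ⟨⟨by rw [← enc_mul, hsq x hx, hone]; exact Nat.beq_refl _, ?_⟩, ?_⟩ <;>
        refine Bool.eq_false_iff.2 fun h => ?_
      · exact hx0 ((hU0 x).2 (memCode_iff.1 h))
      · exact hx2 ((hU2 x).2 (memCode_iff.1 h))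
    have key := List.all_eq_true.1 no_other _ hxbad
    simp only [forceNat_eq, List.all_eq_true, Bool.or_eq_true, memCode_iff] at key
    have hcl : ∀ {p q : MG} {L : List ℕ}, p ∈ A → q ∈ A → en q ∈ L → en q ∈ commL (en p) L := fun hp hq hL =>
      List.mem_filter.2 ⟨hL, by rw [hcomm _ hp _ hq]; exact Nat.beq_refl _⟩
    have small : ∀ L : List ℕ, L.length ≤ 8 → (∀ w ∈ A, en w ∈ L) → Nat.card A ≤ 8 := fun L hL h =>
      (card_le_of_codes (A : Set MG) en m22Enc_inj L h).trans hL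
    have h8 : Nat.card A ≤ 8 := by
      by_cases hy : ∃ p ∈ A, en p ≠ c1 ∧ en p ≠ en x
      · obtain ⟨p, hp, hp1, hpx⟩ := hy
        have key2 := key (en p) (hcl hx hp (hmem p hp))
        rcases key2 with (h | h) | key2
        · exact absurd (Nat.eq_of_beq_eq_true h) hp1
        · exact absurd (Nat.eq_of_beq_eq_true h) hpx
        by_cases hz : ∃ q ∈ A, en q ∉ [c1, en x, en p, mc (en x) (en p)]
        · obtain ⟨q, hq, hq'⟩ := hz
          have key3 := (key2 (en q) (hcl hp hq (hcl hx hq (hmem q hq)))).resolve_left hq'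
          exact small _ (le_refl _) fun w hw => key3 (en w) (hcl hq hw (hcl hp hw (hcl hx hw (hmem w hw))))
        · push Not at hz
          exact (small [c1, en x, en p, mc (en x) (en p)] (by simp) hz)
      · push Not at hy
        exact small [c1, en x] (by simp) fun w hw => by
          by_cases h : en w = c1
          · simp [h]
          · simp [hy w hw h]
    exact ⟨by omega, fun he => by omega⟩

end Cfsg.Agent.Lib.J4Five60
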