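import Cfsg.Agent.Lib.J4Five60.CvData
import Cfsg.Agent.Lib.J4Type19.M22Facts

/-! Kernel checks for the covering of the fixed space of `U0`. -/

set_option autoImplicit false
set_option maxRecDepth 100000

namespace Cfsg.Agent.Lib.J4Five60

open Cfsg.Agent.Lib.Compute Cfsg.Agent.Lib.Compute.Mathieu Cfsg.Agent.Lib.J4Type19
open Cfsg.Agent.Lib.Fusion (memCode)

/-- Conjugate code. -/
noncomputable def cvConj (g : ℕ × ℕ) (x : ℕ) : ℕ := mc (mc g.1 x) g.2

/-- Value of a word. -/
noncomputable def cvVal (L : List ℕ) : List ℕ → ℕ :=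
  fun w => List.rec (motive := fun _ => ℕ) c1 (fun j _ r => mc (L.getD j c1) r) w

/-- The conjugates of the element of order five. -/
noncomputable def cvElem : ℕ → ℕ :=
  fun n => Nat.rec (cvConj CvData.g CvData.q.1) (fun _ r => cvConj CvData.q r) n

/-- The generators of `U0` and of its conjugate. -/
noncomputable def cvBase : List ℕ :=
  CvData.b0.map Prod.fst ++ (CvData.b0.map Prod.fst).map (cvConj CvData.h)

/-- The further generator. -/
noncomputable def cvExtra : ℕ → ℕ
  | 0 => CvData.q.1
  | i + 1 => cvElem i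

/-- All literal pairs. -/
def cvLits : List (ℕ × ℕ) :=
  [CvData.q, CvData.g, CvData.h] ++ CvData.res.map Prod.fst

theorem cvLits_ok : cvLits.all (pairCheck 8 24 m22Chain) = true := by decide +kernel

theorem cvNorm_ok : (normOK CvData.q (Data.u0.map Prod.fst) && normOK CvData.g (Data.u0.map Prod.fst) &&
    normOK (cvConj CvData.h CvData.u.1, cvConj CvData.h CvData.u.2) (Data.u0.map Prod.fst) &&
    CvData.u.1.beq CvData.u.2 && memCode CvData.u.1 (Data.u0.map Prod.fst) && !Nat.beq CvData.u.1 c1 &&
    (CvData.b0.all fun p => memCode p.1 (Data.u0.map Prod.fst))) = true := by decide +kernel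

theorem cvFive_ok : (Nat.beq (mc CvData.q.1 (mc CvData.q.1 (mc CvData.q.1 (mc CvData.q.1 CvData.q.1)))) c1 &&
    !Nat.beq CvData.q.1 c1 &&
    (let r := cvVal cvBase CvData.five
     !Nat.beq r c1 && Nat.beq (mc r (mc r (mc r (mc r r)))) c1)) = true := by decide +kernel

/-- The first pair of words. -/
noncomputable def cvZeroOK : Bool :=
  let L := CvData.b0.map Prod.fst ++ [CvData.q.1, cvConj CvData.g CvData.q.1]
  Nat.beq (cvVal L CvData.w0.1) Data.ela.1 && Nat.beq (cvVal L CvData.w0.2) cb

theorem cvZero_ok : cvZeroOK = true := by decide +kernel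

/-- The remaining pairs of words. -/
noncomputable def cvWordsOK : Bool :=
  Nat.beq CvData.res.length 6 && (List.range 6).all fun i =>
    let r := CvData.res.getD i ((c1, c1), [], [])
    let L := cvBase ++ [cvExtra i]
    Nat.beq (cvVal L r.2.1) (cvConj r.1 Data.ela.1) && Nat.beq (cvVal L r.2.2) (cvConj r.1 cb)

theorem cvWords_ok : cvWordsOK = true := by decide +kernel

end Cfsg.Agent.Lib.J4Five60
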