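import Mathlib

/-! Generated literals for the covering of the fixed space of `U0`. -/

set_option autoImplicit false

namespace Cfsg.Agent.Lib.J4Five60.CvData

/-- A literal. -/
def q : ℕ × ℕ := (0x17080f1109150d1205160b0706030e130a14100c04020100, 0x170e120608101405150911040d0713160c0b0f030a020100)

/-- A literal. -/
def g : ℕ × ℕ := (0x17080610160a0f0b05130d1512140901030702110c040e00, 0x17130c0a0e0b041411010d031012091606150f0207050800)

/-- A literal. -/
def h : ℕ × ℕ := (0x170b0514040e0601030f07100c0d09121315020a08111600, 0x170106140708020c0e120a0b160409030d1115130f051000)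

/-- A literal. -/
def u : ℕ × ℕ := (0x1716050f13030407140e0b060d020908100c1511120a0100, 0x1716050f13030407140e0b060d020908100c1511120a0100)

/-- Generators of U0. -/
def b0 : List (ℕ × ℕ) := [
  (0x17160407130a050f100e0c0d06120908140b111502030100, 0x17160407130a050f100e0c0d06120908140b111502030100),
  (0x1716030613050a0d0c0e100f071109080b14120215040100, 0x1716030613050a0d0c0e100f071109080b14120215040100),
  (0x17160a0d130403060b0e14070f1509080c10021211050100, 0x17160a0d130403060b0e14070f1509080c10021211050100),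
  (0x17160704130d0f05110e120a030c0908150210140b060100, 0x17160704130d0f05110e120a030c0908150210140b060100)]

/-- A word. -/
def five : List ℕ := [4, 0]

/-- Two words. -/
def w0 : List ℕ × List ℕ := ([5, 4, 5, 5, 2, 4, 4, 4, 5, 5], [5, 4, 4, 5, 5, 4, 4, 0, 4])

/-- Conjugators and words. -/
def res : List ((ℕ × ℕ) × List ℕ × List ℕ) := [
  ((0x17161514131211100f0e0d0c0b0a09080706050403020100, 0x17161514131211100f0e0d0c0b0a09080706050403020100), [8, 5, 0, 4, 8, 6, 3, 7, 0], [8, 7, 5, 8, 8, 7, 5, 1]),
  ((0x17161514131211100f0e0d0c0b0a09080706050403020100, 0x17161514131211100f0e0d0c0b0a09080706050403020100), [8, 8, 8, 5, 0, 4, 8, 8], [8, 8, 4, 1, 6, 1]),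
  ((0x1707060e1413080c0d030211040f0a1501120b0910160500, 0x1702081312060c030a140f10050904111615010b0e0d0700), [2, 6, 8, 3, 7, 4], [8, 1, 5, 8, 7, 1, 0]),
  ((0x17161514131211100f0e0d0c0b0a09080706050403020100, 0x17161514131211100f0e0d0c0b0a09080706050403020100), [8, 7, 5, 8, 4, 0, 6, 4], [8, 8, 6, 1, 4, 8, 8]),
  ((0x17161514131211100f0e0d0c0b0a09080706050403020100, 0x17161514131211100f0e0d0c0b0a09080706050403020100), [6, 8, 6, 0, 4, 8, 5, 8], [6, 4, 8, 7, 4, 8, 4, 0]),
  ((0x17050c0210140a1512070b03160e06110f08130104090d00, 0x170b1012050f0813070a01150d1102060e0916030c140400), [6, 5, 8, 7, 6], [8, 8, 6, 5, 4, 3])]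

end Cfsg.Agent.Lib.J4Five60.CvData
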