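import Cfsg.Agent.Lib.J4Five60.Facts
import Cfsg.Agent.Lib.J4Fusion14.Outer
import Cfsg.Agent.Lib.J4Fusion14.FrameBase

/-!
# An element of order eight centralizing an element of order five

An outer element `τ` of `N(P)` centralizing `q` moves a line of vectors fixed by `q` and by a good subgroup of
order 16 to a disjoint one, so some `e` in `E` fixed by `q` does not commute with its conjugate by `τ`.
-/

set_option autoImplicit false

namespace Cfsg.Agent.Lib.J4Five60

open Cfsg Cfsg.Agent.Lib.J4Type19 Cfsg.Agent.Lib.J4Fusion14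
open scoped commutatorElement

attribute [local instance] m22_finite

variable {G : Type*} [Group G] [Finite G] {z : G} {P : Subgroup G}

/-- An outer element centralizing `q` with square in `⟨z⟩`. -/
theorem exists_tau (D : HData z P) {F : MFacts M22t} (FF : FiveFacts F) (q : ↥(cC z P))
    (hq : D.π q = FF.q) (q5 : q ^ 5 = 1) :
    ∃ τ : ↥(cH z), Commute (τ : G) (q : G) ∧ ¬ D.Inner14 (τ : G) ∧
      (τ : G) * D.p * (τ : G)⁻¹ = D.p⁻¹ ∧ ((τ : G) * τ = 1 ∨ (τ : G) * τ = z) := by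
  obtain ⟨a, ha, haq⟩ := FF.outer
  have hi : (Inn M22t).index = 2 := Compute.Mathieu.card_out_M22
  obtain ⟨m, hm⟩ : (D.φ D.t)⁻¹ * a ∈ Inn M22t := by
    rw [Subgroup.mul_mem_iff_of_index_two hi, inv_mem_iff]
    exact iff_of_false D.φt ha
  obtain ⟨c, rfl⟩ := D.πsurj m
  obtain ⟨h, hh⟩ : ∃ h : ↥(cH z), h = D.t * ⟨(c : G), c.2.1⟩ := ⟨_, rfl⟩
  have hφ : D.φ h = a := by
    rw [hh, map_mul, ← D.π_eq, hm, mul_inv_cancel_left]
  have hhp : (h : G) * D.p * (h : G)⁻¹ = D.p⁻¹ := by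
    rw [hh, Subgroup.coe_mul, ← D.tp]
    calc (D.t : G) * c * D.p * ((D.t : G) * c)⁻¹ = (D.t : G) * ((c : G) * D.p) * (c : G)⁻¹ * (D.t : G)⁻¹ := by group
      _ = (D.t : G) * (D.p * c) * (c : G)⁻¹ * (D.t : G)⁻¹ := by rw [D.comm_p]
      _ = _ := by group
  have hhi : ¬ D.Inner14 (h : G) := by rw [D.inner14_iff, hφ]; exact ha
  have hC : ∀ {g : G}, g ∈ cH z → g * D.p = D.p * g → g ∈ cC z P := fun {g} hg hc => ⟨hg, by
    refine Subgroup.mem_centralizer_iff.2 fun x hx => ?_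
    rcases (D.mem_P x).1 hx with rfl | rfl | rfl
    · simp
    · exact hc.symm
    · rw [mul_assoc, ← hc, ← mul_assoc, ← hc, mul_assoc]⟩
  -- `h` centralizes `q`
  have hqh : Commute (h : G) (q : G) := by
    have hmem : (h : G) * q * (h : G)⁻¹ ∈ cC z P := by
      refine hC (mul_mem (mul_mem h.2 q.2.1) (inv_mem h.2)) ?_
      have e1 : (h : G)⁻¹ * D.p * h = D.p⁻¹ := by
        have := congrArg (fun x : G => (h : G)⁻¹ * x⁻¹ * h) hhp
        simp only [mul_inv_rev, inv_inv] at this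
        rw [← this]; group
      calc (h : G) * q * (h : G)⁻¹ * D.p
          = (h : G) * (q * ((h : G)⁻¹ * D.p * h)) * (h : G)⁻¹ := by group
        _ = (h : G) * (D.p⁻¹ * q) * (h : G)⁻¹ := by
            rw [e1, (show Commute D.p (q : G) from D.comm_p q).inv_left.eq]
        _ = (h : G) * ((h : G)⁻¹ * D.p * h * q) * (h : G)⁻¹ := by rw [e1]
        _ = _ := by group
    obtain ⟨k, hk⟩ : ∃ k, k = q⁻¹ * ⟨_, hmem⟩ := ⟨_, rfl⟩
    have hπ : D.π ⟨_, hmem⟩ = D.π q := by
      apply m22_conj_injective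
      rw [D.π_eq, show (⟨(h : G) * q * (h : G)⁻¹, (⟨_, hmem⟩ : ↥(cC z P)).2.1⟩ : ↥(cH z)) =
        h * ⟨(q : G), q.2.1⟩ * h⁻¹ from rfl, map_mul, map_mul, map_inv, hφ, ← D.π_eq, hq]
      refine MulEquiv.ext fun x => ?_
      show a (FF.q * a.symm x * FF.q⁻¹) = FF.q * x * FF.q⁻¹
      rw [map_mul, map_mul, map_inv, haq, MulEquiv.apply_symm_apply]
    have hk1 : D.toJMod.π k = 1 := by
      show D.π k = 1
      rw [hk, map_mul, map_inv, hπ, inv_mul_cancel]
    have h6 := D.toJMod.ker_pow k hk1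
    have h5 : k ^ 5 = 1 := by
      have e2 : (⟨_, hmem⟩ : ↥(cC z P)) ^ 5 = 1 := by
        apply Subtype.ext
        show ((h : G) * q * (h : G)⁻¹) ^ 5 = 1
        rw [conj_pow, show (q : G) ^ 5 = 1 from congrArg Subtype.val q5, mul_one, mul_inv_cancel]
      rw [hk, Commute.mul_pow, inv_pow, q5, e2, inv_one, one_mul]
      have hc := (D.toJMod.ker_comm k hk1 q).symm
      rw [hk] at hc
      simpa using (Commute.refl q).mul_right hc
    have hk0 : k = 1 := by
      rwa [show (6 : ℕ) = 5 + 1 from rfl, pow_succ, h5, one_mul] at h6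
    rw [hk, inv_mul_eq_one] at hk0
    exact mul_inv_eq_iff_eq_mul.1 (congrArg Subtype.val hk0).symm
  -- powers
  have hh2 : (h : G) * h ∈ cC z P := hC (mul_mem h.2 h.2) (by
    have e : (h : G) * h * D.p * ((h : G) * h)⁻¹ = D.p := by
      rw [show (h : G) * h * D.p * ((h : G) * h)⁻¹ = (h : G) * ((h : G) * D.p * (h : G)⁻¹) * (h : G)⁻¹ by group,
        hhp, show (h : G) * D.p⁻¹ * (h : G)⁻¹ = ((h : G) * D.p * (h : G)⁻¹)⁻¹ by group, hhp, inv_inv]
    exact mul_inv_eq_iff_eq_mul.1 e)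
  obtain ⟨g, hg⟩ : ∃ g : ↥(cC z P), g = ⟨_, hh2⟩ := ⟨_, rfl⟩
  have hgq : Commute g q := by rw [hg]; exact Subtype.ext (hqh.mul_left hqh).eq
  obtain ⟨i, hi'⟩ := FF.cent (D.π g) (by rw [← hq]; exact hgq.map D.π)
  obtain ⟨k, hk⟩ : ∃ k, k = g ^ 15 := ⟨_, rfl⟩
  have hk1 : D.π k = 1 := by
    rw [hk, map_pow, hi', ← pow_mul, mul_comm, show 15 * i = 5 * (3 * i) by ring, pow_mul, FF.q5, one_pow]
  have hk2 : k * k = 1 := by
    obtain ⟨k', hk'⟩ : ∃ k', k' = g ^ 5 := ⟨_, rfl⟩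
    have h1 : D.toJMod.π k' = 1 := by
      show D.π k' = 1
      rw [hk', map_pow, hi', ← pow_mul, mul_comm, pow_mul, FF.q5, one_pow]
    rw [hk, ← pow_add, show 15 + 15 = 5 * 6 from rfl, pow_mul, ← hk']
    exact D.toJMod.ker_pow k' h1
  refine ⟨h ^ 15, hqh.pow_left 15, ?_, ?_, ?_⟩
  · rw [D.inner14_iff, map_pow, hφ, show (15 : ℕ) = 2 * 7 + 1 from rfl, pow_succ, pow_mul,
      Subgroup.mul_mem_cancel_left _ (pow_mem ?_ 7)]
    · exact ha
    · rw [pow_two, Subgroup.mul_mem_iff_of_index_two hi]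
  · have e2 : Commute ((h : G) * h) D.p := Subgroup.mem_centralizer_iff.1 hh2.2 _ D.p_mem |>.symm
    have e14 : Commute ((h : G) ^ 14) D.p := by
      rw [show (14 : ℕ) = 2 * 7 from rfl, pow_mul, pow_two]; exact e2.pow_left 7
    show (h : G) ^ 15 * D.p * ((h : G) ^ 15)⁻¹ = D.p⁻¹
    rw [pow_succ' (h : G) 14, show (h : G) * (h : G) ^ 14 * D.p * ((h : G) * (h : G) ^ 14)⁻¹ =
      (h : G) * ((h : G) ^ 14 * D.p * ((h : G) ^ 14)⁻¹) * (h : G)⁻¹ by group, e14.eq, mul_inv_cancel_right, hhp]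
  · have e : (k : G) = ((h ^ 15 : ↥(cH z)) : G) * ((h ^ 15 : ↥(cH z)) : G) := by
      rw [hk, hg]
      show ((h : G) * h) ^ 15 = (h : G) ^ 15 * (h : G) ^ 15
      rw [← pow_two, ← pow_mul, ← pow_add]
    rcases D.ker_two hk1 hk2 with e' | e'
    · exact Or.inl (e ▸ e')
    · exact Or.inr (e ▸ e')

/-- A vector fixed by the lifts of two good subgroups generating M22 is zero. -/
theorem eq_zero_of_gen (D : HData z P) (A : Set M22t) (hA : Subgroup.closure A = ⊤) {w : cV z}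
    (hw : ∀ m ∈ A, ∃ c : ↥(cC z P), D.π c = m ∧ c • w = w) : w = 0 := by
  let S : Subgroup ↥(cC z P) :=
    { carrier := {g | g • w = w}
      one_mem' := one_smul _ w
      mul_mem' := fun {g g'} (hg : g • w = w) (hg' : g' • w = w) => by
        show (g * g') • w = w
        rw [mul_smul, hg', hg]
      inv_mem' := fun {g} (hg : g • w = w) => by
        show g⁻¹ • w = w
        rw [inv_smul_eq_iff, hg] }
  have htop : S.map D.π = ⊤ := by
    refine top_unique (hA.ge.trans ((Subgroup.closure_le _).2 fun m hm => ?_))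
    obtain ⟨c, hc, hcw⟩ := hw m hm
    exact ⟨c, hcw, hc⟩
  have hline : ∀ g : ↥(cC z P), ∃ j : ℕ, g • w = D.toJMod.ω ^ j • w := by
    intro g
    obtain ⟨s, hs, hsg⟩ := htop.ge (Subgroup.mem_top (D.π g))
    obtain ⟨k, hk⟩ : ∃ k, k = g * s⁻¹ := ⟨_, rfl⟩
    obtain ⟨j, hj⟩ := D.toJMod.ker_act k (show D.π k = 1 by rw [hk, map_mul, map_inv, hsg, mul_inv_cancel])
    refine ⟨j, ?_⟩
    rw [show g = k * s by rw [hk, inv_mul_cancel_right], mul_smul, show s • w = w from hs, hj]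
  have hcomm : ∀ g g' : ↥(cC z P), ⁅g, g'⁆ ∈ S := by
    intro g g'
    obtain ⟨i, hi⟩ := hline g⁻¹
    obtain ⟨j, hj⟩ := hline g'⁻¹
    have e : (g⁻¹ * g'⁻¹) • w = (g'⁻¹ * g⁻¹) • w := by
      rw [mul_smul, mul_smul, hi, hj, ← D.toJMod.ωpow_comm, ← D.toJMod.ωpow_comm, hi, hj, D.toJMod.ωpow_add,
        D.toJMod.ωpow_add, add_comm]
    show ⁅g, g'⁆ • w = w
    rw [commutatorElement_def, mul_assoc (g * g'), mul_smul, e, ← mul_smul,
      show g * g' * (g'⁻¹ * g⁻¹) = 1 by group, one_smul]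
  have hle : ⁅(⊤ : Subgroup ↥(cC z P)), (⊤ : Subgroup ↥(cC z P))⁆ ≤ S :=
    Subgroup.commutator_le.2 fun g _ g' _ => hcomm g g'
  have h : (⁅(⊤ : Subgroup ↥(cC z P)), (⊤ : Subgroup ↥(cC z P))⁆).map (cC z P).subtype = ⁅cC z P, cC z P⁆ := by
    rw [Subgroup.map_commutator, ← MonoidHom.range_eq_map, Subgroup.range_subtype]
  obtain ⟨x, hx, hxp⟩ := h.ge (D.hJ.2.2.2.2.2.2.2.2 D.p_mem)
  refine D.toJMod.ωfix w ?_
  exact (Subtype.ext hxp : x = D.toJMod.ω) ▸ hle hx

theorem exists_order_eight (D : HData z P) {F : MFacts M22t} (L : Lifts D.toJMod F) (FF : FiveFacts F)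
    (q : ↥(cC z P)) (hq : D.π q = FF.q) (q5 : q ^ 5 = 1)
    (hfix : Nat.card ↥(fixElt (V := cV z) q) = 2 ^ 4) :
    ∃ x ∈ cH z ⊓ Subgroup.centralizer (Subgroup.zpowers (q : G) : Set G), x ^ 8 = 1 ∧ x ^ 4 ≠ 1 := by
  classical
  obtain ⟨J, hJ⟩ : ∃ J, J = D.toJMod := ⟨_, rfl⟩
  have := D.toJMod.finiteV
  obtain ⟨τ, hτq, hτo, hτp, hτ2⟩ := exists_tau D FF q hq q5
  have hτE : (τ : G) * τ ∈ cE z := by
    rcases hτ2 with e | e <;> rw [e]
    exacts [one_mem _, z_mem D.hJ]
  have huu : ∀ v : cV z, act τ (act τ v) = v := fun v => by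
    rw [← act_mul, show τ * τ = (⟨(τ : G) * τ, cE_le z hτE⟩ : ↥(cH z)) from rfl, act_cE hτE D.hJ]
  have huq : ∀ v : cV z, act τ (q • v) = q • act τ v := fun v => by
    rw [← act_smul, ← act_smul, ← act_mul, ← act_mul]
    congr 1
    exact congrArg _ (Subtype.ext hτq.eq)
  obtain ⟨W, hW⟩ : ∃ W, W = fixElt (V := cV z) q ⊓ J.fix F.U0 := ⟨_, rfl⟩
  have hWω : ∀ v ∈ W, J.ω • v ∈ W := by
    rw [hW, hJ]; exact fun v hv => ⟨D.toJMod.fixElt_ω q v hv.1, D.toJMod.ω_mem_fix hv.2⟩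
  -- a nonzero vector of the line
  obtain ⟨v, hvW, hv0⟩ : ∃ v ∈ W, v ≠ 0 := by
    by_contra hno
    push Not at hno
    have := Fintype.ofFinite ↥(J.fix F.U0)
    have hinv : ∀ v ∈ J.fix F.U0, q • v ∈ J.fix F.U0 := fun v hv => by
      rw [hJ] at hv ⊢
      exact D.toJMod.fix_invariant (g := q) (fun x hx => by
        show D.π q * x * (D.π q)⁻¹ ∈ F.U0
        rw [hq]; exact FF.nq x hx) hv
    let f : Function.End ↥(J.fix F.U0) := fun v => ⟨q • (v : cV z), hinv _ v.2⟩
    have hpow : ∀ (n : ℕ) (v : ↥(J.fix F.U0)), (((f ^ n) v : ↥(J.fix F.U0)) : cV z) = q ^ n • (v : cV z) := by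
      intro n
      induction n with
      | zero => intro v; simp; rfl
      | succ n ih =>
        intro v
        rw [pow_succ' f, pow_succ', mul_smul, ← ih]
        rfl
    have hf : f ^ (5 ^ 1) = 1 := by
      funext v
      apply Subtype.ext
      rw [hpow, pow_one, q5, one_smul]
      rfl
    have hf5 : Fact (Nat.Prime 5) := ⟨by norm_num⟩
    have h := Equiv.Perm.card_fixedPoints_modEq hf
    have hone : Fintype.card (Function.fixedPoints f) = 1 := by
      rw [Fintype.card_eq_one_iff]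
      refine ⟨⟨0, Subtype.ext (smul_zero q)⟩, fun v => Subtype.ext (Subtype.ext ?_)⟩
      exact hno _ (by rw [hW]; exact ⟨congrArg Subtype.val v.2, v.1.2⟩)
    have hc : Fintype.card ↥(J.fix F.U0) = 2 ^ 6 := by
      rw [← Nat.card_eq_fintype_card, hJ]; exact (D.toJMod.fix_U0 L).1
    rw [hone, hc] at h
    exact absurd h (by decide)
  have hWfix : ∀ w ∈ W, w ∈ fixElt (V := cV z) q ∧ act τ w ∈ fixElt (V := cV z) q := by
    intro w hw
    rw [hW] at hw
    refine ⟨hw.1, ?_⟩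
    show q • act τ w = act τ w
    rw [← huq, show q • w = w from hw.1]
  -- the two lines are disjoint
  have hdis : ∀ w ∈ W, act τ w ∈ W → w = 0 := by
    intro w hw huw
    rw [hW, hJ] at hw huw
    refine eq_zero_of_gen D _ (FF.swap (D.φ τ) (fun h => hτo ((D.inner14_iff τ).2 h)) ?_) ?_
    · have e : D.φ τ * MulAut.conj (D.π q) = MulAut.conj (D.π q) * D.φ τ := by
        rw [D.π_eq, ← map_mul, ← map_mul]
        exact congrArg _ (Subtype.ext hτq.eq)
      have e2 : MulAut.conj (D.φ τ (D.π q)) = MulAut.conj (D.π q) := by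
        refine MulEquiv.ext fun x => ?_
        have := MulEquiv.congr_fun e ((D.φ τ).symm x)
        simpa [MulAut.mul_apply] using this
      rw [← hq]
      exact m22_conj_injective e2
    · rintro m (hm | ⟨m, hm, rfl⟩)
      · obtain ⟨c, hc, hc4⟩ := D.toJMod.exists_two_lift (F.sq0 m hm)
        exact ⟨c, hc, hw.2 c (by rw [hc]; exact hm) hc4⟩
      · obtain ⟨c, hc, hc4⟩ := D.toJMod.exists_two_lift (F.sq0 m hm)
        have hmem : (τ : G) * c * (τ : G)⁻¹ ∈ cC z P := by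
          refine ⟨Subgroup.mul_mem _ (Subgroup.mul_mem _ τ.2 c.2.1) (Subgroup.inv_mem _ τ.2), Subgroup.mem_centralizer_iff.2 fun x hx => ?_⟩
          have hxP : (τ : G)⁻¹ * x * τ ∈ P := by
            have e1 : (τ : G)⁻¹ * D.p * τ = D.p⁻¹ := by
              have := congrArg (fun y : G => (τ : G)⁻¹ * y⁻¹ * τ) hτp
              simp only [mul_inv_rev, inv_inv] at this
              rw [← this]; group
            rcases (D.mem_P x).1 hx with rfl | rfl | rfl
            · rw [mul_one, inv_mul_cancel]; exact one_mem _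
            · rw [e1]; exact inv_mem D.p_mem
            · rw [show (τ : G)⁻¹ * (D.p * D.p) * τ = ((τ : G)⁻¹ * D.p * τ) * ((τ : G)⁻¹ * D.p * τ) by group, e1]
              exact mul_mem (inv_mem D.p_mem) (inv_mem D.p_mem)
          have := Subgroup.mem_centralizer_iff.1 c.2.2 _ hxP
          calc x * ((τ : G) * c * (τ : G)⁻¹) = (τ : G) * ((τ : G)⁻¹ * x * τ * c) * (τ : G)⁻¹ := by group
            _ = (τ : G) * (c * ((τ : G)⁻¹ * x * τ)) * (τ : G)⁻¹ := by rw [this]
            _ = _ := by group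
        refine ⟨⟨_, hmem⟩, m22_conj_injective ?_, ?_⟩
        · rw [D.π_eq, show (⟨(τ : G) * c * (τ : G)⁻¹, (⟨_, hmem⟩ : ↥(cC z P)).2.1⟩ : ↥(cH z)) =
            τ * ⟨(c : G), c.2.1⟩ * τ⁻¹ from rfl, map_mul, map_mul, map_inv, ← D.π_eq,
            show D.π c = m from hc]
          refine MulEquiv.ext fun x => ?_
          show D.φ τ (m * (D.φ τ).symm x * m⁻¹) = D.φ τ m * x * (D.φ τ m)⁻¹
          rw [map_mul, map_mul, map_inv, MulEquiv.apply_symm_apply]
        · rw [← act_smul, show (⟨(τ : G) * c * (τ : G)⁻¹, (⟨_, hmem⟩ : ↥(cC z P)).2.1⟩ : ↥(cH z)) =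
            τ * (⟨(c : G), c.2.1⟩ * τ⁻¹) from Subtype.ext (mul_assoc _ _ _), act_mul, act_mul,
            show act τ⁻¹ w = act τ w from (huu w ▸ act_inv_act τ (act τ w) :),
            show act ⟨(c : G), c.2.1⟩ (act τ w) = c • act τ w from act_smul c _,
            huw.2 c (by rw [show D.toJMod.π c = m from hc]; exact hm) hc4, huu]
  -- the sum of the two lines is everything fixed by `q`
  have hWiso : ∀ a ∈ W, ∀ b ∈ W, form D.hJ a b = 0 := by
    rw [hW, hJ]; exact fun a ha b hb => (D.toJMod.fix_U0 L).2 a ha.2 b hb.2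
  have hspan : ∀ x ∈ fixElt (V := cV z) q, ∃ a ∈ W, ∃ b ∈ W, x = a + act τ b := by
    let Φ : ↥W × ↥W → ↥(fixElt (V := cV z) q) := fun p =>
      ⟨(p.1 : cV z) + act τ (p.2 : cV z), add_mem (hWfix _ p.1.2).1 (hWfix _ p.2.2).2⟩
    have hinj : Function.Injective Φ := by
      rintro ⟨⟨a, ha⟩, ⟨b, hb⟩⟩ ⟨⟨a', ha'⟩, ⟨b', hb'⟩⟩ h
      have h' : a + act τ b = a' + act τ b' := congrArg Subtype.val h
      have e : act τ (b - b') = a' - a := by
        rw [map_sub, sub_eq_sub_iff_add_eq_add, add_comm, h']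
      have e0 := hdis _ (sub_mem hb hb') (e ▸ sub_mem ha' ha)
      rw [e0, map_zero, eq_comm, sub_eq_zero] at e
      rw [sub_eq_zero] at e0
      subst e0; subst e; rfl
    have h4 : 4 ≤ Nat.card ↥W := by
      rw [hJ] at hWω
      exact D.toJMod.four_le_card hWω hvW hv0
    have hb : Function.Bijective Φ := by
      refine (Nat.bijective_iff_injective_and_card Φ).2 ⟨hinj, ?_⟩
      refine le_antisymm (Nat.card_le_card_of_injective Φ hinj) ?_
      rw [Nat.card_prod, hfix]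
      nlinarith
    intro x hx
    obtain ⟨⟨a, b⟩, hab⟩ := hb.2 ⟨x, hx⟩
    exact ⟨a, a.2, b, b.2, (congrArg Subtype.val hab).symm⟩
  -- some vector is not orthogonal to its image
  obtain ⟨w, hwW, hw⟩ : ∃ w ∈ W, form D.hJ w (act τ w) ≠ 0 := by
    by_contra hno
    push Not at hno
    have hω : D.toJMod.ω • v ∈ W := by rw [← hJ]; exact hWω v hvW
    have hωω : D.toJMod.ω • D.toJMod.ω • v ∈ W := by rw [← hJ] at hω ⊢; exact hWω _ hω
    have hvv := hno v hvW
    have hvω : form D.hJ v (D.toJMod.ω • act τ v) = 0 := by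
      have h := hno _ hω
      rwa [act_semilinear D τ hτo, show form D.hJ (D.toJMod.ω • v) (D.toJMod.ω • D.toJMod.ω • act τ v) =
        form D.hJ v (D.toJMod.ω • act τ v) from D.toJMod.inv _ _ _] at h
    have hvωω : form D.hJ v (D.toJMod.ω • D.toJMod.ω • act τ v) = 0 := by
      have h := D.toJMod.ω_sum (act τ v)
      rw [add_comm, add_eq_zero_iff_eq_neg, D.toJMod.neg_eq] at h
      rw [h, map_add, hvv, hvω, add_zero]
    have hline : ∀ b ∈ W, b = 0 ∨ b = v ∨ b = D.toJMod.ω • v ∨ b = D.toJMod.ω • D.toJMod.ω • v := by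
      intro b hb
      by_contra hb'
      push Not at hb'
      obtain ⟨b0, b1, b2, b3⟩ := hb'
      have hne1 : D.toJMod.ω • v ≠ v := fun h => hv0 (D.toJMod.ωfix v h)
      have hω0 : D.toJMod.ω • v ≠ 0 := fun h => hv0 (by rwa [smul_eq_zero_iff_eq] at h)
      have hne2 : D.toJMod.ω • D.toJMod.ω • v ≠ D.toJMod.ω • v := fun h => hω0 (D.toJMod.ωfix _ h)
      have hne3 : D.toJMod.ω • D.toJMod.ω • v ≠ v := fun h => by
        apply hne1
        conv_lhs => rw [← h]
        exact D.toJMod.ω3_smul v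
      have hωω0 : D.toJMod.ω • D.toJMod.ω • v ≠ 0 := fun h => hω0 (by rwa [smul_eq_zero_iff_eq] at h)
      let s : Finset (cV z) := {0, v, D.toJMod.ω • v, D.toJMod.ω • D.toJMod.ω • v, b}
      have hs : s.card = 5 := by
        simp [s, hv0.symm, hω0.symm, hωω0.symm, b0.symm, hne1.symm, hne3.symm, b1.symm, hne2.symm, b2.symm, b3.symm]
      have h5 : 5 ≤ Nat.card ↥W := by
        show 5 ≤ Nat.card ↥(W : Set (cV z))
        rw [Nat.card_coe_set_eq, ← hs, ← Set.ncard_coe_finset]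
        refine Set.ncard_le_ncard ?_ (Set.toFinite _)
        intro x hx
        simp [s] at hx
        rcases hx with rfl | rfl | rfl | rfl | rfl
        exacts [zero_mem W, hvW, hω, hωω, hb]
      have h25 : Nat.card (↥W × ↥W) ≤ Nat.card ↥(fixElt (V := cV z) q) :=
        Nat.card_le_card_of_injective
          (fun p => ⟨(p.1 : cV z) + act τ (p.2 : cV z), add_mem (hWfix _ p.1.2).1 (hWfix _ p.2.2).2⟩) (by
          rintro ⟨⟨a, ha⟩, ⟨c, hc⟩⟩ ⟨⟨a', ha'⟩, ⟨c', hc'⟩⟩ h
          have h' : a + act τ c = a' + act τ c' := congrArg Subtype.val h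
          have e : act τ (c - c') = a' - a := by
            rw [map_sub, sub_eq_sub_iff_add_eq_add, add_comm, h']
          have e0 := hdis _ (sub_mem hc hc') (e ▸ sub_mem ha' ha)
          rw [e0, map_zero, eq_comm, sub_eq_zero] at e
          rw [sub_eq_zero] at e0
          subst e0; subst e; rfl)
      rw [Nat.card_prod, hfix] at h25
      nlinarith
    have hperpfix : ∀ x ∈ fixElt (V := cV z) q, form D.hJ v x = 0 := by
      intro x hx
      obtain ⟨a, ha, b, hb, rfl⟩ := hspan x hx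
      rw [map_add, hWiso v hvW a ha, zero_add]
      rcases hline b hb with rfl | rfl | rfl | rfl
      · rw [map_zero, map_zero]
      · exact hvv
      · rw [act_semilinear D τ hτo]; exact hvωω
      · rw [act_semilinear D τ hτo, act_semilinear D τ hτo, D.toJMod.ω3_smul]; exact hvω
    have hqv : q • v = v := (hWfix v hvW).1
    have hperp : v ∈ perpOf D.toJMod.β (⊤ : AddSubgroup (cV z)) := by
      intro x _
      show form D.hJ v x = 0
      have hinv : ∀ y, form D.hJ v (q • y) = form D.hJ v y := fun y => by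
        conv_lhs => rw [← hqv]
        exact form_inv D.hJ q v y
      have hN : q • (x + q • x + q • q • x + q • q • q • x + q • q • q • q • x) =
          x + q • x + q • q • x + q • q • q • x + q • q • q • q • x := by
        have h5 : q • q • q • q • q • x = x := by
          simp only [← mul_smul]
          rw [show q * (q * (q * (q * q))) = q ^ 5 by simp [pow_succ, mul_assoc], q5, one_smul]
        simp only [smul_add, h5]
        abel
      have h := hperpfix _ hN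
      simp only [map_add, hinv] at h
      rwa [(by decide : ∀ p : ZMod 2, p + p + p + p + p = p)] at h
    have h1 := D.toJMod.perp (⊤ : AddSubgroup (cV z))
    rw [AddSubgroup.card_top, D.toJMod.cardV] at h1
    have h2 : perpOf D.toJMod.β (⊤ : AddSubgroup (cV z)) = ⊥ :=
      AddSubgroup.eq_bot_of_card_eq _ (Nat.eq_of_mul_eq_mul_left (by norm_num) (h1.trans (mul_one _).symm))
    exact hv0 ((AddSubgroup.mem_bot).1 (h2 ▸ hperp))
  obtain ⟨e, rfl⟩ := mk_surjective w
  have hqe : Commute (q : G) (e : G) := commute_of_smul_eq D q e (hWfix _ hwW).1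
  obtain ⟨f, hf⟩ : ∃ f, f = cEAut (τ : G) τ.2 e := ⟨_, rfl⟩
  rw [act_mk, ← hf, form_mk] at hw
  have hnc : ¬ Commute (e : G) (f : G) := fun h => hw (pair_eq_zero.2 (Subtype.ext h.eq))
  have hef : (e : G) * f = z * ((f : G) * e) := by
    rcases comm_or D.hJ e f with h | h
    · exact absurd (mul_inv_eq_iff_eq_mul.1 (mul_inv_eq_one.1 h)) hnc
    · rw [mul_inv_eq_iff_eq_mul, mul_inv_eq_iff_eq_mul, mul_assoc] at h
      exact h
  obtain ⟨s, hs⟩ : ∃ s, s = (τ : G) * τ := ⟨_, rfl⟩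
  have hs' : s = 1 ∨ s = z := by rw [hs]; exact hτ2
  have hzH : ∀ g ∈ cH z, z * g = g * z := fun g hg => (Subgroup.mem_centralizer_singleton_iff.1 hg).symm
  have hsc : ∀ g ∈ cH z, s * g = g * s := fun g hg => by
    rcases hs' with h | h <;> rw [h]
    · rw [one_mul, mul_one]
    · exact hzH g hg
  have hss : s * s = 1 := by rcases hs' with h | h <;> rw [h] <;> [rw [one_mul]; exact z_sq D.hJ]
  have hff : (f : G) * f = (e : G) * e := by
    rw [hf]
    show (τ : G) * e * (τ : G)⁻¹ * ((τ : G) * e * (τ : G)⁻¹) = (e : G) * e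
    rw [show (τ : G) * e * (τ : G)⁻¹ * ((τ : G) * e * (τ : G)⁻¹) = (τ : G) * ((e : G) * e) * (τ : G)⁻¹ by group]
    rcases sq_or D.hJ e with h | h <;> rw [h]
    · group
    · rw [← hzH _ τ.2, mul_inv_cancel_right]
  have hee : ((e : G) * e) * ((e : G) * e) = 1 := by
    rcases sq_or D.hJ e with h | h <;> rw [h]
    exacts [one_mul 1, z_sq D.hJ]
  have h4 : ((e : G) * τ) ^ 4 = z := by
    have hx2 : ((e : G) * τ) * ((e : G) * τ) = (e : G) * f * s := by
      rw [hf, hs]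
      show _ = (e : G) * ((τ : G) * e * (τ : G)⁻¹) * ((τ : G) * τ)
      group
    rw [show (4 : ℕ) = 2 + 2 from rfl, pow_add, pow_two, hx2]
    calc (e : G) * f * s * ((e : G) * f * s) = (e : G) * f * (s * ((e : G) * f)) * s := by group
      _ = (e : G) * f * ((e : G) * f) * (s * s) := by
          rw [hsc _ (mul_mem (cE_le z e.2) (cE_le z f.2))]; group
      _ = z * ((f : G) * e) * ((e : G) * f) := by rw [hss, mul_one]; conv_lhs => arg 1; rw [hef]
      _ = z * ((f : G) * ((e : G) * e) * f) := by group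
      _ = z * (((e : G) * e) * ((e : G) * e)) := by
          rw [← hff]
          group
      _ = z := by rw [hee, mul_one]
  refine ⟨(e : G) * τ, ⟨mul_mem (cE_le z e.2) τ.2, Subgroup.mem_centralizer_iff.2 ?_⟩, ?_, ?_⟩
  · intro x hx
    obtain ⟨n, rfl⟩ := Subgroup.mem_zpowers_iff.1 hx
    exact ((hqe.symm.mul_left hτq).zpow_right n).eq.symm
  · rw [show (8 : ℕ) = 4 * 2 from rfl, pow_mul, h4, pow_two, z_sq D.hJ]
  · rw [h4]; exact z_ne D.hJ

end Cfsg.Agent.Lib.J4Five60
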