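import Mathlib

/-!
# General facts for the centralizer of an element of order five in a group of type J4

Centralizers of elements of order three, groups of order six, and groups of type `2^3·L₃(2)`.
-/

set_option autoImplicit false

namespace Cfsg.Agent.Lib.J4Five60


/-- If nine divides the order of a group, it divides the order of the centralizer of every element
of order three. -/
theorem nine_dvd_cent {B : Type*} [Group B] [Finite B] (h9 : 9 ∣ Nat.card B) {x : B} (h3 : x ^ 3 = 1) :
    9 ∣ Nat.card ↥(Subgroup.centralizer ({x} : Set B)) := by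
  haveI : Fact (Nat.Prime 3) := ⟨Nat.prime_three⟩
  by_cases hx : x = 1
  · subst hx
    have htop : Subgroup.centralizer ({(1 : B)} : Set B) = ⊤ := by
      refine eq_top_iff.2 fun b _ => Subgroup.mem_centralizer_singleton_iff.2 ?_
      simp
    rw [htop, Subgroup.card_top]
    exact h9
  have hox : orderOf x = 3 := orderOf_eq_prime h3 hx
  have hzp : IsPGroup 3 ↥(Subgroup.zpowers x) :=
    IsPGroup.of_card (n := 1) (by rw [Nat.card_zpowers, hox, pow_one])
  obtain ⟨S, hS⟩ := hzp.exists_le_sylow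
  have hP9 : 9 ∣ Nat.card ↥(S : Subgroup B) := by
    have := S.pow_dvd_card_of_pow_dvd_card (n := 2) (by norm_num [h9])
    norm_num at this
    exact this
  set D : Subgroup B := (S : Subgroup B) ⊓ Subgroup.centralizer ({x} : Set B) with hD
  have hxD : x ∈ D :=
    ⟨hS (Subgroup.mem_zpowers x), Subgroup.mem_centralizer_singleton_iff.2 rfl⟩
  obtain ⟨k, hk⟩ := IsPGroup.iff_card.1 (S.isPGroup'.to_le (inf_le_left : D ≤ _))
  have hk2 : 2 ≤ k := by
    by_contra hlt
    have hle : Nat.card ↥D ≤ 3 := by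
      rw [hk]
      exact le_trans (Nat.pow_le_pow_right (by norm_num) (show k ≤ 1 by omega)) (by norm_num)
    have heq : Subgroup.zpowers x = D :=
      Subgroup.eq_of_le_of_card_ge (Subgroup.zpowers_le.2 hxD) (by rw [Nat.card_zpowers, hox]; exact hle)
    haveI : Nontrivial ↥(S : Subgroup B) := by
      rw [← Finite.one_lt_card_iff_nontrivial]
      have := Nat.le_of_dvd Nat.card_pos hP9
      omega
    haveI := S.isPGroup'.center_nontrivial
    obtain ⟨c, hc⟩ := exists_ne (1 : Subgroup.center ↥(S : Subgroup B))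
    have hcx : Commute ((c : ↥(S : Subgroup B)) : B) x :=
      ((congrArg Subtype.val (Subgroup.mem_center_iff.1 c.2 ⟨x, hS (Subgroup.mem_zpowers x)⟩)).symm : _)
    have hcD : ((c : ↥(S : Subgroup B)) : B) ∈ Subgroup.zpowers x := by
      rw [heq]
      exact ⟨(c : ↥(S : Subgroup B)).2, Subgroup.mem_centralizer_singleton_iff.2 hcx⟩
    have hc1 : ((c : ↥(S : Subgroup B)) : B) ≠ 1 := fun h => hc (Subtype.ext (Subtype.ext h))
    have hgen : Subgroup.zpowers ((c : ↥(S : Subgroup B)) : B) = Subgroup.zpowers x := by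
      refine Subgroup.eq_of_le_of_card_ge (Subgroup.zpowers_le.2 hcD) ?_
      have hdv := Subgroup.card_dvd_of_le (Subgroup.zpowers_le.2 hcD)
      rw [Nat.card_zpowers, Nat.card_zpowers, hox] at hdv ⊢
      rcases (Nat.dvd_prime Nat.prime_three).1 hdv with h | h
      · exact absurd (orderOf_eq_one_iff.1 h) hc1
      · omega
    have hSD : (S : Subgroup B) ≤ D := by
      intro b hb
      refine ⟨hb, Subgroup.mem_centralizer_singleton_iff.2 ?_⟩
      have hbc : Commute b ((c : ↥(S : Subgroup B)) : B) :=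
        (congrArg Subtype.val (Subgroup.mem_center_iff.1 c.2 ⟨b, hb⟩) : _)
      have hxm : x ∈ Subgroup.zpowers ((c : ↥(S : Subgroup B)) : B) := by
        rw [hgen]; exact Subgroup.mem_zpowers x
      obtain ⟨i, hi⟩ := Subgroup.mem_zpowers_iff.1 hxm
      rw [← hi]
      exact (hbc.zpow_right i : _)
    have h1 := Nat.le_of_dvd Nat.card_pos hP9
    have h2 := Subgroup.card_le_of_le hSD
    omega
  have hdD : 9 ∣ Nat.card ↥D := by
    rw [hk]
    exact dvd_trans (by norm_num) (pow_dvd_pow 3 hk2)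
  exact hdD.trans (Subgroup.card_dvd_of_le inf_le_right)

/-- A group of order six with an inverted element of order three is `Sym 3`. -/
theorem perm3_of_card {B : Type*} [Group B] [Finite B] (h6 : Nat.card B = 6) {a b : B}
    (a3 : a ^ 3 = 1) (a1 : a ≠ 1) (hb : b * a * b⁻¹ = a⁻¹) : Nonempty (B ≃* Equiv.Perm (Fin 3)) := by
  classical
  haveI : Fact (Nat.Prime 2) := ⟨Nat.prime_two⟩
  have hoa : orderOf a = 3 := orderOf_eq_prime a3 a1
  obtain ⟨c, hc⟩ := exists_prime_orderOf_dvd_card' (G := B) 2 (by rw [h6]; norm_num)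
  have hnc : ¬ Commute a c := by
    intro hac
    have hord : orderOf (a * c) = 6 := by
      rw [hac.orderOf_mul_eq_mul_orderOf_of_coprime (by rw [hoa, hc]; norm_num), hoa, hc]
    have htop : Subgroup.zpowers (a * c) = ⊤ :=
      Subgroup.eq_top_of_card_eq _ (by rw [Nat.card_zpowers, hord, h6])
    obtain ⟨i, hi⟩ := Subgroup.mem_zpowers_iff.1 (show a ∈ Subgroup.zpowers (a * c) by rw [htop]; trivial)
    obtain ⟨j, hj⟩ := Subgroup.mem_zpowers_iff.1 (show b ∈ Subgroup.zpowers (a * c) by rw [htop]; trivial)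
    have hab : b * a = a * b := by rw [← hi, ← hj, ← zpow_add, ← zpow_add, add_comm]
    rw [hab, mul_inv_cancel_right] at hb
    have h2 : a ^ 2 = 1 := by rw [pow_two]; nth_rewrite 2 [hb]; exact mul_inv_cancel a
    apply a1
    rw [pow_succ, h2, one_mul] at a3
    exact a3
  set T : Subgroup B := Subgroup.zpowers c with hT
  have hcard : Nat.card (B ⧸ T) = 3 := by
    have h := T.card_eq_card_quotient_mul_card_subgroup
    rw [h6, show Nat.card ↥T = 2 by rw [hT, Nat.card_zpowers, hc]] at h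
    omega
  have hker : (MulAction.toPermHom B (B ⧸ T)).ker = ⊥ := by
    rw [← Subgroup.normalCore_eq_ker]
    refine (Subgroup.eq_bot_iff_forall _).2 fun k hk => ?_
    by_contra hk1
    have hgen : ∀ m : B, m ∈ T → m ≠ 1 → m = c := by
      intro m hm hm1
      obtain ⟨i, hi⟩ := Subgroup.mem_zpowers_iff.1 hm
      have h2 : c ^ (2 : ℤ) = 1 := by
        rw [show (2 : ℤ) = ((2 : ℕ) : ℤ) by rfl, zpow_natCast, ← hc, pow_orderOf_eq_one]
      rcases Int.even_or_odd i with ⟨j, hj⟩ | ⟨j, hj⟩
      · exact absurd (by rw [← hi, hj, ← two_mul, zpow_mul, h2, one_zpow]) hm1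
      · rw [← hi, hj, zpow_add_one, zpow_mul, h2, one_zpow, one_mul]
    have hkc := hgen k (Subgroup.normalCore_le _ hk) hk1
    have hconj : a * c * a⁻¹ ∈ T := by rw [← hkc]; exact hk a
    have hc1 : c ≠ 1 := fun h => by rw [h, orderOf_one] at hc; omega
    have heq := hgen _ hconj (fun h => hc1 (conj_eq_one_iff.1 h))
    exact hnc (mul_inv_eq_iff_eq_mul.1 heq : _)
  have hinj : Function.Injective (MulAction.toPermHom B (B ⧸ T)) := (MonoidHom.ker_eq_bot_iff _).1 hker
  let e : B ⧸ T ≃ Fin 3 := Finite.equivFinOfCardEq hcard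
  let φ : B →* Equiv.Perm (Fin 3) := e.permCongrHom.toMonoidHom.comp (MulAction.toPermHom B (B ⧸ T))
  have hφ : Function.Injective φ := e.permCongrHom.injective.comp hinj
  exact ⟨MulEquiv.ofBijective φ ((Nat.bijective_iff_injective_and_card _).2 ⟨hφ, by
    rw [h6, Nat.card_perm, Nat.card_eq_fintype_card, Fintype.card_fin]; rfl⟩)⟩

/-- An endomorphism of a group of order eight whose eighth iterate is trivial has trivial third iterate. -/
theorem iterate_three_eq_one {V : Type*} [Group V] [Finite V] (hV : Nat.card V = 8) (f : V →* V)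
    (h8 : ∀ v, f^[8] v = 1) (v : V) : f^[3] v = 1 := by
  have step : ∀ A : Subgroup V, A.map f ≤ A → 2 * Nat.card ↥(A.map f) ≤ Nat.card ↥A ∨ A = ⊥ := by
    intro A hA
    by_cases h : A.map f = A
    · right
      refine (Subgroup.eq_bot_iff_forall _).2 fun a ha => ?_
      have : ∀ n : ℕ, ∀ b ∈ A, ∃ c ∈ A, f^[n] c = b := by
        intro n
        induction n with
        | zero => exact fun b hb => ⟨b, hb, rfl⟩
        | succ n ih =>
          intro b hb
          rw [← h] at hb
          obtain ⟨d, hd, rfl⟩ := Subgroup.mem_map.1 hb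
          obtain ⟨c, hc, rfl⟩ := ih d hd
          exact ⟨c, hc, Function.iterate_succ_apply' f n c⟩
      obtain ⟨c, _, rfl⟩ := this 8 a ha
      exact h8 c
    · left
      obtain ⟨k, hk⟩ := Subgroup.card_dvd_of_le hA
      have hlt : Nat.card ↥(A.map f) < Nat.card ↥A := by
        refine lt_of_le_of_ne (Subgroup.card_le_of_le hA) fun hc => h ?_
        exact Subgroup.eq_of_le_of_card_ge hA hc.ge
      rcases k with _ | _ | k
      · have := Nat.card_pos (α := ↥A); rw [Nat.mul_zero] at hk; omega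
      · rw [Nat.zero_add, Nat.mul_one] at hk; exact absurd hk hlt.ne'
      · rw [hk]; nlinarith
  set A1 := (⊤ : Subgroup V).map f with h1
  set A2 := A1.map f with h2
  set A3 := A2.map f with h3
  have l1 : A1 ≤ ⊤ := le_top
  have l2 : A2 ≤ A1 := Subgroup.map_mono l1
  have l3 : A3 ≤ A2 := Subgroup.map_mono l2
  have s1 := step ⊤ l1
  have s2 := step A1 l2
  have s3 := step A2 l3
  rw [← h1] at s1; rw [← h2] at s2; rw [← h3] at s3
  have hbot : A3 = ⊥ := by
    rcases s1 with s1 | s1
    · rcases s2 with s2 | s2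
      · rcases s3 with s3 | s3
        · rw [Subgroup.card_top, hV] at s1
          exact Subgroup.eq_bot_of_card_le _ (by omega)
        · rw [h3, s3, Subgroup.map_bot]
      · rw [h3, h2, s2, Subgroup.map_bot, Subgroup.map_bot]
    · rw [h3, h2, h1, s1, Subgroup.map_bot, Subgroup.map_bot, Subgroup.map_bot]
  have hm : f^[3] v ∈ A3 :=
    Subgroup.mem_map_of_mem f (Subgroup.mem_map_of_mem f (Subgroup.mem_map_of_mem f (Subgroup.mem_top v)))
  rwa [hbot, Subgroup.mem_bot] at hm

/-- In a group of type `2^3·L₃(2)` with a self-centralizing normal subgroup, an element of a complement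
times an element of the normal subgroup has order dividing four when its eighth power is one. -/
theorem pow_four_of_complement {B : Type*} [Group B] [Finite B] (N K : Subgroup B) [N.Normal]
    (hN : Nat.card ↥N = 8) (hsq : ∀ n ∈ N, n ^ 2 = 1)
    (hcent : ∀ x : B, (∀ n ∈ N, x * n = n * x) → x ∈ N)
    (hc : N.IsComplement' K) {x : B} (hx : x ^ 8 = 1) : x ^ 4 = 1 := by
  have hcomm : ∀ a ∈ N, ∀ b ∈ N, a * b = b * a := by
    intro a ha b hb
    have i : ∀ c ∈ N, c⁻¹ = c := fun c hc =>
      inv_eq_of_mul_eq_one_right (by rw [← pow_two]; exact hsq c hc)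
    calc a * b = (a * b)⁻¹ := (i _ (N.mul_mem ha hb)).symm
      _ = b⁻¹ * a⁻¹ := mul_inv_rev a b
      _ = b * a := by rw [i a ha, i b hb]
  obtain ⟨⟨e, k⟩, hek, -⟩ := hc.existsUnique x
  simp only at hek
  have hk8 : (k : B) ^ 8 = 1 := by
    have hq : QuotientGroup.mk' N ((k : B) ^ 8) = 1 := by
      have h1 : QuotientGroup.mk' N x = QuotientGroup.mk' N (k : B) := by
        rw [← hek, map_mul,
          show QuotientGroup.mk' N (e : B) = 1 from (QuotientGroup.eq_one_iff _).2 e.2, one_mul]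
      rw [map_pow, ← h1, ← map_pow, hx, map_one]
    have hmem : (k : B) ^ 8 ∈ N ⊓ K := ⟨(QuotientGroup.eq_one_iff _).1 hq, K.pow_mem k.2 8⟩
    rwa [hc.disjoint.eq_bot, Subgroup.mem_bot] at hmem
  set κ : ↥N →* ↥N := (MulAut.conjNormal (k : B)).toMonoidHom with hκ
  let d : ↥N →* ↥N :=
    { toFun := fun v => κ v * v
      map_one' := by simp
      map_mul' := fun v w => Subtype.ext (by
        have h1 := (κ v).2; have h2 := (κ w).2
        simp only [map_mul, Subgroup.coe_mul]
        rw [mul_assoc, mul_assoc, ← mul_assoc ((κ w : ↥N) : B), hcomm _ h2 _ v.2, mul_assoc]) }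
  have hd : ∀ v, d v = κ v * v := fun v => rfl
  have hVc : ∀ a b : ↥N, a * b = b * a := fun a b => Subtype.ext (hcomm _ a.2 _ b.2)
  have hVsq : ∀ a : ↥N, a * a = 1 := fun a => Subtype.ext (by
    rw [Subgroup.coe_mul, Subgroup.coe_one, ← pow_two]; exact hsq _ a.2)
  have hd2 : ∀ v, d (d v) = κ (κ v) * v := by
    intro v
    rw [hd, hd, map_mul]
    calc κ (κ v) * κ v * (κ v * v) = κ (κ v) * (κ v * κ v) * v := by group
      _ = κ (κ v) * v := by rw [hVsq, mul_one]
  have hd4 : ∀ v, d (d (d (d v))) = κ (κ (κ (κ v))) * v := by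
    intro v
    rw [hd2 (d (d v)), hd2 v, map_mul, map_mul]
    calc κ (κ (κ (κ v))) * κ (κ v) * (κ (κ v) * v) = κ (κ (κ (κ v))) * (κ (κ v) * κ (κ v)) * v := by
          group
      _ = κ (κ (κ (κ v))) * v := by rw [hVsq, mul_one]
  have hκn : ∀ v : ↥N, ((κ v : ↥N) : B) = (k : B) * v * (k : B)⁻¹ := fun v => MulAut.conjNormal_apply _ v
  have hd8 : ∀ v, d^[8] v = 1 := by
    intro v
    show d (d (d (d (d (d (d (d v))))))) = 1
    rw [hd4 (d (d (d (d v)))), hd4 v]
    simp only [map_mul]
    have h8 : κ (κ (κ (κ (κ (κ (κ (κ v))))))) = v := by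
      refine Subtype.ext ?_
      simp only [hκn]
      calc _ = (k : B) ^ 8 * (v : B) * ((k : B) ^ 8)⁻¹ := by
            simp only [pow_succ, pow_zero, one_mul, mul_inv_rev, mul_assoc]
        _ = _ := by rw [hk8]; simp
    rw [h8]
    calc v * κ (κ (κ (κ v))) * (κ (κ (κ (κ v))) * v) = v * (κ (κ (κ (κ v))) * κ (κ (κ (κ v)))) * v := by
          group
      _ = 1 := by rw [hVsq, mul_one, hVsq]
  have h3 := iterate_three_eq_one hN d hd8
  have h4 : ∀ v, κ (κ (κ (κ v))) = v := by
    intro v
    have : d (d (d (d v))) = 1 := by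
      rw [show d (d (d v)) = d^[3] v from rfl, h3 v, map_one]
    rw [hd4] at this
    calc κ (κ (κ (κ v))) = κ (κ (κ (κ v))) * (v * v) := by rw [hVsq, mul_one]
      _ = v := by rw [← mul_assoc, this, one_mul]
  have hk4 : (k : B) ^ 4 = 1 := by
    have hN4 : (k : B) ^ 4 ∈ N := hcent _ fun n hn => by
      have := congrArg Subtype.val (h4 ⟨n, hn⟩)
      simp only [hκn] at this
      have e2 : (k : B) ^ 4 * n * ((k : B) ^ 4)⁻¹ = n :=
        Eq.trans (by simp only [pow_succ, pow_zero, one_mul, mul_inv_rev, mul_assoc]) this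
      exact mul_inv_eq_iff_eq_mul.1 e2
    have hmem : (k : B) ^ 4 ∈ N ⊓ K := ⟨hN4, K.pow_mem k.2 4⟩
    rwa [hc.disjoint.eq_bot, Subgroup.mem_bot] at hmem
  have hw : ((κ (κ (κ e)) * κ (κ e) * κ e * e : ↥N) : B) = 1 := by
    have : d (d (d e)) = 1 := h3 e
    rw [hd (d (d e)), hd2 e, map_mul] at this
    have e2 : κ (κ (κ e)) * κ (κ e) * κ e * e = κ (κ (κ e)) * κ e * (κ (κ e) * e) := by
      rw [mul_assoc (κ (κ (κ e))), hVc (κ (κ e)) (κ e)]
      group
    rw [e2, this, Subgroup.coe_one]
  have hperm : e * κ e * κ (κ e) * κ (κ (κ e)) = κ (κ (κ e)) * κ (κ e) * κ e * e := by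
    rw [hVc e (κ e), hVc (κ e * e) (κ (κ e)), hVc (κ (κ e) * (κ e * e)) (κ (κ (κ e)))]
    group
  have hw' : ((e * κ e * κ (κ e) * κ (κ (κ e)) : ↥N) : B) = 1 := by rw [hperm]; exact hw
  simp only [MulMemClass.coe_mul, hκn] at hw'
  rw [← hek]
  calc ((e : B) * k) ^ 4
      = ((e : B) * ((k : B) * e * (k : B)⁻¹) * ((k : B) * ((k : B) * e * (k : B)⁻¹) * (k : B)⁻¹)
          * ((k : B) * ((k : B) * ((k : B) * e * (k : B)⁻¹) * (k : B)⁻¹) * (k : B)⁻¹)) * (k : B) ^ 4 := by
        simp [pow_succ, mul_assoc]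
    _ = 1 := by rw [hw', hk4, mul_one]

/-- In a group of order `1344` with quotient `L₃(2)`, a 2-element normalizing a subgroup of order seven
is trivial, provided the normal subgroup of order eight is self-centralizing. -/
theorem two_element_normalizer_seven {B : Type*} [Group B] [Finite B] (N : Subgroup B) [N.Normal]
    (hB : Nat.card B = 1344) (hN : Nat.card ↥N = 8) [IsSimpleGroup (B ⧸ N)]
    (hcent : ∀ x : B, (∀ n ∈ N, x * n = n * x) → x ∈ N)
    {y : B} (hy : orderOf y = 7) {m : B} {a : ℕ} (hm : m ^ (2 ^ a) = 1)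
    (hnorm : m * y * m⁻¹ ∈ Subgroup.zpowers y) : m = 1 := by
  classical
  haveI : Fact (Nat.Prime 7) := ⟨by norm_num⟩
  set π := QuotientGroup.mk' N with hπ
  have hQ : Nat.card (B ⧸ N) = 168 := by
    have h := N.card_eq_card_quotient_mul_card_subgroup
    rw [hB, hN] at h; omega
  have hyN : y ∉ N := fun h => by
    have := Subgroup.orderOf_dvd_natCard N h
    rw [hy, hN] at this; norm_num at this
  have hy' : orderOf (π y) = 7 := by
    refine orderOf_eq_prime ?_ fun h => hyN ((QuotientGroup.eq_one_iff y).1 h)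
    rw [← map_pow, ← hy, pow_orderOf_eq_one, map_one]
  have hS : Nat.card ↥(Subgroup.zpowers (π y)) = 7 ^ (Nat.card (B ⧸ N)).factorization 7 := by
    rw [Nat.card_zpowers, hy', hQ]
    have : (168 : ℕ).factorization 7 = 1 := by
      rw [show (168 : ℕ) = 24 * 7 by norm_num, Nat.factorization_mul (by norm_num) (by norm_num),
        Finsupp.add_apply, Nat.factorization_eq_zero_of_not_dvd (by norm_num : ¬ 7 ∣ 24),
        (by norm_num : Nat.Prime 7).factorization_self]
    rw [this, pow_one]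
  let P : Sylow 7 (B ⧸ N) := Sylow.ofCard _ hS
  have hPc : ((P : Subgroup (B ⧸ N))) = Subgroup.zpowers (π y) := Sylow.coe_ofCard _ _
  have hP7 : Nat.card ↥(P : Subgroup (B ⧸ N)) = 7 := by rw [hPc, Nat.card_zpowers, hy']
  set Nm := Subgroup.normalizer ((P : Subgroup (B ⧸ N)) : Set (B ⧸ N)) with hNm
  have hns : Nat.card (Sylow 7 (B ⧸ N)) = Nm.index := P.card_eq_index_normalizer
  have hidx : Nm.index ∣ 24 := by
    rw [← hns]
    have h1 : (P : Subgroup (B ⧸ N)).index = 24 := by
      have := (P : Subgroup (B ⧸ N)).card_mul_index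
      rw [hP7, hQ] at this; omega
    have h2 := P.card_dvd_index
    rwa [h1] at h2
  have hmod : Nm.index % 7 = 1 := by
    rw [← hns]
    have := card_sylow_modEq_one 7 (B ⧸ N)
    unfold Nat.ModEq at this
    simpa using this
  have hne1 : Nm.index ≠ 1 := by
    intro h1
    have htop : Nm = ⊤ := Subgroup.index_eq_one.1 h1
    haveI hn : (P : Subgroup (B ⧸ N)).Normal := Subgroup.normalizer_eq_top_iff.1 htop
    rcases hn.eq_bot_or_eq_top with h | h
    · rw [h, Subgroup.card_bot] at hP7; omega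
    · rw [h, Subgroup.card_top, hQ] at hP7; omega
  have h8 : Nm.index = 8 := by
    have hle := Nat.le_of_dvd (by norm_num) hidx
    interval_cases Nm.index <;> first | omega | norm_num at hidx
  have h21 : Nat.card ↥Nm = 21 := by
    have := Nm.card_mul_index
    rw [h8, hQ] at this; omega
  have hm' : π m ∈ Nm := by
    have hmap : (P : Subgroup (B ⧸ N)).map (MulAut.conj (π m)).toMonoidHom = P := by
      refine Subgroup.eq_of_le_of_card_ge ?_ (by rw [Subgroup.card_map_of_injective (MulAut.conj (π m)).injective])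
      rw [hPc, MonoidHom.map_zpowers, Subgroup.zpowers_le]
      obtain ⟨i, hi⟩ := Subgroup.mem_zpowers_iff.1 hnorm
      refine Subgroup.mem_zpowers_iff.2 ⟨i, ?_⟩
      simp only [MulEquiv.coe_toMonoidHom, MulAut.conj_apply]
      rw [← map_inv, ← map_mul, ← map_mul, ← hi, map_zpow]
    refine Subgroup.mem_normalizer_iff.2 fun b => ⟨fun hb => ?_, fun hb => ?_⟩
    · rw [← hmap]; exact ⟨b, hb, rfl⟩
    · rw [← hmap] at hb
      obtain ⟨b', hb', he⟩ := hb
      simp only [MulEquiv.coe_toMonoidHom, MulAut.conj_apply, mul_left_inj, mul_right_inj] at he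
      rwa [← he]
  have h1 : π m = 1 := by
    rw [← orderOf_eq_one_iff]
    have d1 : orderOf (π m) ∣ 2 ^ a := orderOf_dvd_of_pow_eq_one (by rw [← map_pow, hm, map_one])
    have d2 : orderOf (π m) ∣ 21 := h21 ▸ Subgroup.orderOf_dvd_natCard Nm hm'
    have hco : Nat.Coprime (2 ^ a) 21 := Nat.Coprime.pow_left _ (by norm_num)
    exact Nat.eq_one_of_dvd_coprimes hco d1 d2
  have hmN : m ∈ N := (QuotientGroup.eq_one_iff m).1 h1
  -- `m` commutes with `y`
  have hmy : Commute m y := by
    have hmem : m * y * m⁻¹ * y⁻¹ ∈ N ⊓ Subgroup.zpowers y := by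
      refine ⟨?_, Subgroup.mul_mem _ hnorm (Subgroup.inv_mem _ (Subgroup.mem_zpowers y))⟩
      have := N.mul_mem hmN (‹N.Normal›.conj_mem _ (N.inv_mem hmN) y)
      simpa [mul_assoc] using this
    have hbot : N ⊓ Subgroup.zpowers y = ⊥ :=
      Subgroup.inf_eq_bot_of_coprime (by rw [Nat.card_zpowers, hy, hN]; norm_num)
    rw [hbot, Subgroup.mem_bot, mul_inv_eq_one] at hmem
    exact mul_inv_eq_iff_eq_mul.1 hmem
  -- the fixed points of `y` on `N` are trivial
  by_contra hm1
  refine hyN (hcent y fun n hn => ?_)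
  by_contra hn1
  have hy7 : Function.IsPeriodicPt (fun v : ↥N => MulAut.conjNormal y v) 7 ⟨n, hn⟩ := by
    show (fun v : ↥N => MulAut.conjNormal y v)^[7] _ = _
    refine Subtype.ext ?_
    simp only [Function.iterate_succ, Function.iterate_zero, Function.comp_apply, id,
      MulAut.conjNormal_apply]
    have h7 : y ^ 7 = 1 := hy ▸ pow_orderOf_eq_one y
    calc _ = y ^ 7 * n * (y ^ 7)⁻¹ := by
          simp only [pow_succ, pow_zero, one_mul, mul_inv_rev, mul_assoc]
      _ = n := by rw [h7]; simp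
  set g := fun v : ↥N => MulAut.conjNormal y v with hg
  have hfix : ∀ v : ↥N, g v = v ↔ y * (v : B) = (v : B) * y := by
    intro v
    rw [hg, Subtype.ext_iff, MulAut.conjNormal_apply]
    exact mul_inv_eq_iff_eq_mul
  have hper : Function.minimalPeriod g ⟨n, hn⟩ = 7 := by
    refine Function.minimalPeriod_eq_prime hy7 fun h => hn1 ?_
    exact (hfix _).1 h
  have hginj : Function.Injective g := (MulAut.conjNormal y).injective
  let F : Fin 9 → ↥N := fun i => if i.val < 7 then g^[i.val] ⟨n, hn⟩ else if i.val = 7 then 1 else ⟨m, hmN⟩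
  have hmoved : ∀ i, g (g^[i] ⟨n, hn⟩) ≠ g^[i] ⟨n, hn⟩ := by
    intro i h
    rw [← Function.iterate_succ_apply' g, Function.iterate_succ_apply] at h
    exact hn1 ((hfix _).1 ((hginj.iterate i) h))
  have hg1 : g 1 = 1 := map_one _
  have hgm : g ⟨m, hmN⟩ = ⟨m, hmN⟩ := (hfix _).2 hmy.symm
  have hFi : Function.Injective F := by
    intro i j hij
    have hi := i.isLt
    have hj := j.isLt
    simp only [F] at hij
    have hne : (1 : ↥N) ≠ ⟨m, hmN⟩ := fun h => hm1 (congrArg Subtype.val h).symm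
    apply Fin.ext
    by_cases h1 : i.val < 7 <;> by_cases h2 : j.val < 7 <;> simp only [h1, h2, if_true, if_false] at hij
    · exact Function.iterate_injOn_Iio_minimalPeriod (by rw [hper]; exact h1) (by rw [hper]; exact h2) hij
    · exfalso
      apply hmoved i.val
      rw [hij]; split_ifs <;> assumption
    · exfalso
      apply hmoved j.val
      rw [← hij]; split_ifs <;> assumption
    · by_cases h3 : i.val = 7 <;> by_cases h4 : j.val = 7 <;>
        simp only [h3, h4, if_true, if_false] at hij <;>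
        first | omega | exact absurd hij hne | exact absurd hij.symm hne
  have := Nat.card_le_card_of_injective F hFi
  rw [Nat.card_eq_fintype_card, Fintype.card_fin, hN] at this
  omega

theorem conj_pow_exp {G : Type*} [Group G] {r q : G} {k : ℕ} (h : r * q * r⁻¹ = q ^ k) (j : ℕ) :
    r ^ j * q * (r ^ j)⁻¹ = q ^ (k ^ j) := by
  induction j with
  | zero => simp
  | succ j ih =>
    calc r ^ (j + 1) * q * (r ^ (j + 1))⁻¹ = r * (r ^ j * q * (r ^ j)⁻¹) * r⁻¹ := by rw [pow_succ']; group
      _ = (r * q * r⁻¹) ^ (k ^ j) := by rw [ih, conj_pow]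
      _ = q ^ (k ^ (j + 1)) := by rw [h, ← pow_mul, pow_succ']

theorem exists_exp_five : ∀ k : Fin 5, k.val = 2 ∨ k.val = 3 → ∀ i : Fin 5, i.val ≠ 0 →
    ∃ j : Fin 4, k.val ^ j.val % 5 = i.val := by decide

theorem exp_five_inj : ∀ k : Fin 5, k.val = 2 ∨ k.val = 3 → ∀ j : Fin 4,
    k.val ^ j.val % 5 = 1 → j = 0 := by decide

theorem exp_five_eq : ∀ k : Fin 5, k.val = 2 ∨ k.val = 3 → ∀ i j : Fin 4,
    k.val ^ i.val % 5 = k.val ^ j.val % 5 → i = j := by decide

end Cfsg.Agent.Lib.J4Five60
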