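import Cfsg.Agent.Lib.J4Five60.Spec
import Cfsg.Agent.Lib.J4Five60.EndgameBase
import Cfsg.Agent.Lib.PSolvable.Core
import Cfsg.Agent.Lib.S3344.Quotient168
import Cfsg.Agent.Lib.SixRec90.Main
import Cfsg.Agent.Lib.SuzType57.Data
import Cfsg.Agent.Lib.Fusion.Mathieu.Identify

/-!
# The centralizer of a subgroup of order five in a group of type J4

The quotient of the centralizer by the subgroup of order five falls under the recognition of groups with
an involution centralizer `2^(1+4):S₃`; element orders and centralizer orders pick out `2^3·L₃(2)`.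
-/

set_option autoImplicit false

namespace Cfsg.Agent.Lib.J4Five60

open Cfsg
open scoped Pointwise

universe u

/-- The recognition of groups with an involution centralizer `2^(1+4):S₃` (statement S3344). -/
def Recog32 : Prop :=
  ∀ {G : Type u} [Group G] [Finite G]
    (s : G), orderOf s = 2 → ∀ (L : Subgroup G), L = Subgroup.centralizer ({s} : Set G) →
    ∀ (Q : Subgroup G), Q = (Cfsg.pCore 2 L).map L.subtype →
    Cfsg.IsExtraspecial 2 Q → Nat.card Q = 32 →
    ∀ (_e : L ⧸ Cfsg.pCore 2 L ≃* Equiv.Perm (Fin 3)) (X : Sylow 3 L),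
    Q ⊓ Subgroup.centralizer (((X : Subgroup L).map L.subtype : Subgroup G) : Set G) = Subgroup.zpowers s →
    (∃ g : G, g * s * g⁻¹ ∈ Q ∧ g * s * g⁻¹ ≠ s) →
    (∃ (N : Subgroup G) (hN : N.Normal), IsMulCommutative N ∧ (∀ n ∈ N, n ^ 2 = 1) ∧ Nat.card N = 8 ∧
        Nonempty (G ⧸ N ≃* Matrix.ProjectiveSpecialLinearGroup (Fin 3) (ZMod 2))) ∨
    Nonempty (G ≃* alternatingGroup (Fin 8)) ∨ Nonempty (G ≃* alternatingGroup (Fin 9)) ∨ Cfsg.Spor.IsoM12 G

/-- The orders of the alternating groups of degree eight and nine and of the Mathieu group M12 are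
divisible by nine. -/
theorem nine_dvd_of_alternatives {B : Type*} [Group B] [Finite B]
    (h : Nonempty (B ≃* alternatingGroup (Fin 8)) ∨ Nonempty (B ≃* alternatingGroup (Fin 9)) ∨
      Cfsg.Spor.IsoM12 B) : 9 ∣ Nat.card B := by
  rcases h with ⟨⟨e⟩⟩ | ⟨⟨e⟩⟩ | ⟨⟨e⟩⟩
  · rw [Nat.card_congr e.toEquiv, nat_card_alternatingGroup, Nat.card_eq_fintype_card, Fintype.card_fin]
    decide
  · rw [Nat.card_congr e.toEquiv, nat_card_alternatingGroup, Nat.card_eq_fintype_card, Fintype.card_fin]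
    decide
  · rw [Nat.card_congr e.toEquiv, Fusion.Mathieu.card_M12]
    norm_num

/-- Subgroups of order seven are conjugate when 49 does not divide the group order. -/
theorem exists_conj_zpowers {B : Type*} [Group B] [Finite B] (h49 : ¬ 49 ∣ Nat.card B) {y y' : B}
    (hy : orderOf y = 7) (hy' : orderOf y' = 7) : ∃ x : B, x * y' * x⁻¹ ∈ Subgroup.zpowers y := by
  haveI : Fact (Nat.Prime 7) := ⟨by norm_num⟩
  have key : ∀ w : B, orderOf w = 7 → ∃ P : Sylow 7 B, (P : Subgroup B) = Subgroup.zpowers w := by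
    intro w hw
    have hz : IsPGroup 7 ↥(Subgroup.zpowers w) :=
      IsPGroup.of_card (n := 1) (by rw [Nat.card_zpowers, hw, pow_one])
    obtain ⟨P, hP⟩ := hz.exists_le_sylow
    refine ⟨P, (Subgroup.eq_of_le_of_card_ge hP ?_).symm⟩
    obtain ⟨k, hk⟩ := IsPGroup.iff_card.1 P.isPGroup'
    rw [Nat.card_zpowers, hw, hk]
    by_contra hlt
    have hk2 : 2 ≤ k := by
      by_contra hk1
      exact hlt (le_trans (Nat.pow_le_pow_right (by norm_num) (show k ≤ 1 by omega)) (by norm_num))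
    apply h49
    refine dvd_trans ?_ (Subgroup.card_subgroup_dvd_card (P : Subgroup B))
    rw [hk]
    exact dvd_trans (by norm_num) (pow_dvd_pow 7 hk2)
  obtain ⟨P, hP⟩ := key y hy
  obtain ⟨P', hP'⟩ := key y' hy'
  obtain ⟨x, hx⟩ := MulAction.exists_smul_eq B P' P
  refine ⟨x, ?_⟩
  have hmem : MulAut.conj x • y' ∈ MulAut.conj x • (P' : Subgroup B) :=
    Subgroup.smul_mem_pointwise_smul y' _ _ (hP'.symm ▸ Subgroup.mem_zpowers y')
  rw [← Sylow.coe_subgroup_smul, hx, hP] at hmem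
  exact hmem

/-- The local structure at five follows from the interface and the recognition theorem. -/
theorem endgame {G : Type u} [Group G] [Finite G] {Q : Subgroup G} {z : G} (h3344 : Recog32.{u})
    (h : EndHyp Q z) : FiveStructure Q := by
  classical
  haveI h5p : Fact (Nat.Prime 5) := ⟨by norm_num⟩
  haveI : Fact (Nat.Prime 2) := ⟨Nat.prime_two⟩
  set X : Subgroup G := Subgroup.centralizer (Q : Set G) with hXdef
  have hoq : orderOf h.q = 5 := orderOf_eq_prime h.q5 h.q1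
  have hQc : Nat.card ↥Q = 5 := by rw [h.hQ, Nat.card_zpowers, hoq]
  have hqQ : h.q ∈ Q := h.hQ.ge (Subgroup.mem_zpowers h.q)
  have hmemX : ∀ g : G, g ∈ X ↔ g * h.q * g⁻¹ = h.q := by
    intro g
    rw [hXdef, Subgroup.mem_centralizer_iff]
    constructor
    · intro hg
      rw [← hg h.q hqQ]; group
    · intro hg w hw
      have hc : Commute g h.q := mul_inv_eq_iff_eq_mul.1 hg
      obtain ⟨i, rfl⟩ := Subgroup.mem_zpowers_iff.1 (h.hQ.le hw)
      exact (hc.zpow_right i).eq.symm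
  have hQX : Q ≤ X := by
    intro w hw
    rw [hmemX]
    obtain ⟨i, rfl⟩ := Subgroup.mem_zpowers_iff.1 (h.hQ.le hw)
    group
  set Qx : Subgroup ↥X := Q.subgroupOf X with hQx
  have hQxc : Nat.card ↥Qx = 5 := by
    rw [Nat.card_congr (Subgroup.subgroupOfEquivOfLe hQX).toEquiv, hQc]
  have hcentral : ∀ w ∈ Qx, ∀ g : ↥X, g * w = w * g := by
    intro w hw g
    exact Subtype.ext ((Subgroup.mem_centralizer_iff.1 g.2 (w : G) hw).symm)
  haveI hQn : Qx.Normal := ⟨fun w hw g => by rw [hcentral w hw g, mul_inv_cancel_right]; exact hw⟩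
  set π : ↥X →* ↥X ⧸ Qx := QuotientGroup.mk' Qx with hπ
  -- elements of order prime to five are determined by their images
  have hlift : ∀ (a b : ↥X) (n : ℕ), a ^ n = 1 → b ^ n = 1 → Nat.Coprime n 5 → π a = π b → a = b := by
    intro a b n ha hb hn hab
    have hw : a * b⁻¹ ∈ Qx := (QuotientGroup.eq_one_iff _).1 (by
      show π (a * b⁻¹) = 1
      rw [map_mul, map_inv, hab, mul_inv_cancel])
    have hwb : Commute (a * b⁻¹) b := (hcentral _ hw b).symm
    have h1 : (a * b⁻¹) ^ n = 1 := by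
      have := hwb.mul_pow n
      rw [inv_mul_cancel_right, ha, hb, mul_one] at this
      exact this.symm
    have h2 : orderOf (a * b⁻¹) ∣ 5 := by
      have := Subgroup.orderOf_dvd_natCard Qx hw
      rwa [hQxc] at this
    have h3 := Nat.eq_one_of_dvd_coprimes hn (orderOf_dvd_of_pow_eq_one h1) h2
    exact mul_inv_eq_one.1 (orderOf_eq_one_iff.1 h3)
  have hconj : ∀ (a g : ↥X) (n : ℕ), a ^ n = 1 → Nat.Coprime n 5 →
      π g * π a * (π g)⁻¹ = π a → g * a * g⁻¹ = a := fun a g n ha hn he =>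
    hlift _ _ n (by rw [conj_pow, ha, mul_one, mul_inv_cancel]) ha hn
      (by rw [map_mul, map_mul, map_inv]; exact he)
  -- centralizers in the quotient
  have hcentimg : ∀ (a : ↥X) (n : ℕ), a ^ n = 1 → Nat.Coprime n 5 →
      Subgroup.centralizer ({π a} : Set (↥X ⧸ Qx)) = (Subgroup.centralizer ({a} : Set ↥X)).map π := by
    intro a n ha hn
    refine le_antisymm (fun c hc => ?_) ?_
    · obtain ⟨g, rfl⟩ := QuotientGroup.mk'_surjective Qx c
      refine ⟨g, Subgroup.mem_centralizer_singleton_iff.2 ?_, rfl⟩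
      exact mul_inv_eq_iff_eq_mul.1
        (hconj a g n ha hn (mul_inv_eq_iff_eq_mul.2 (Subgroup.mem_centralizer_singleton_iff.1 hc)))
    · rintro _ ⟨g, hg, rfl⟩
      refine Subgroup.mem_centralizer_singleton_iff.2 ?_
      rw [← map_mul, ← map_mul, Subgroup.mem_centralizer_singleton_iff.1 hg]
  have hcentcard : ∀ (a : ↥X) (n : ℕ), a ^ n = 1 → Nat.Coprime n 5 →
      Nat.card ↥(Subgroup.centralizer ({π a} : Set (↥X ⧸ Qx))) * 5 =
        Nat.card ↥(X ⊓ Subgroup.centralizer ({(a : G)} : Set G)) := by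
    intro a n ha hn
    set K := Subgroup.centralizer ({a} : Set ↥X) with hK
    have hQK : Qx ≤ K := fun w hw => Subgroup.mem_centralizer_singleton_iff.2 ((hcentral w hw a).symm)
    have hmap : K.map X.subtype = X ⊓ Subgroup.centralizer ({(a : G)} : Set G) := by
      ext g
      constructor
      · rintro ⟨k, hk, rfl⟩
        exact ⟨k.2, Subgroup.mem_centralizer_singleton_iff.2
          (congrArg Subtype.val (Subgroup.mem_centralizer_singleton_iff.1 hk) : _)⟩
      · rintro ⟨hgX, hg⟩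
        exact ⟨⟨g, hgX⟩, Subgroup.mem_centralizer_singleton_iff.2
          (Subtype.ext (Subgroup.mem_centralizer_singleton_iff.1 hg)), rfl⟩
    rw [hcentimg a n ha hn, ← hmap, Subgroup.card_map_of_injective X.subtype_injective]
    have hk : (π.comp K.subtype).ker = Qx.subgroupOf K := by
      rw [← MonoidHom.comap_ker, hπ, QuotientGroup.ker_mk']; rfl
    have h1 := Subgroup.card_eq_card_quotient_mul_card_subgroup (π.comp K.subtype).ker
    rw [Nat.card_congr (QuotientGroup.quotientKerEquivRange _).toEquiv, hk,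
      Nat.card_congr (Subgroup.subgroupOfEquivOfLe hQK).toEquiv, hQxc, MonoidHom.range_comp,
      Subgroup.range_subtype] at h1
    exact h1.symm
  -- the involution
  have hzX : z ∈ X := h.z_cent
  set zX : ↥X := ⟨z, hzX⟩ with hzXdef
  have hz2 : zX ^ 2 = 1 := Subtype.ext (by
    have := pow_orderOf_eq_one z
    rw [h.hz] at this
    exact this)
  set s := π zX with hsdef
  have hs : orderOf s = 2 := by
    refine orderOf_eq_prime (by rw [hsdef, ← map_pow, hz2, map_one]) fun h1 => ?_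
    have := hlift zX 1 2 hz2 (one_pow 2) (by norm_num) (h1.trans (map_one π).symm)
    have hz1 : z = 1 := congrArg Subtype.val this
    have := h.hz
    rw [hz1, orderOf_one] at this
    omega
  set Lb : Subgroup (↥X ⧸ Qx) := Subgroup.centralizer ({s} : Set (↥X ⧸ Qx)) with hLb
  have hLcard : Nat.card ↥Lb = 192 := by
    have := hcentcard zX 2 hz2 (by norm_num)
    rw [show X ⊓ Subgroup.centralizer ({((zX : ↥X) : G)} : Set G) =
      Subgroup.centralizer ({z} : Set G) ⊓ Subgroup.centralizer (Q : Set G) from inf_comm _ _,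
      h.card_L] at this
    change Nat.card ↥Lb * 5 = 960 at this
    omega
  have hLmem : ∀ g : ↥X, (g : G) * z = z * g → π g ∈ Lb := fun g hg =>
    Subgroup.mem_centralizer_singleton_iff.2 (by
      rw [hsdef, ← map_mul, ← map_mul]
      exact congrArg π (Subtype.ext hg))
  -- the image of `Q0`
  have hQ0X : h.Q0 ≤ X := h.Q0_le.trans inf_le_right
  have hQ0pow : ∀ e : ↥h.Q0, (Subgroup.inclusion hQ0X e) ^ 32 = 1 := fun e => by
    rw [← map_pow, ← h.card_Q0, pow_card_eq_one', map_one]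
  set ι : ↥h.Q0 →* ↥X ⧸ Qx := π.comp (Subgroup.inclusion hQ0X) with hι
  have hιinj : Function.Injective ι := fun a b hab =>
    Subgroup.inclusion_injective hQ0X (hlift _ _ 32 (hQ0pow a) (hQ0pow b) (by norm_num) hab)
  set Qb : Subgroup (↥X ⧸ Qx) := ι.range with hQb
  have hQbex : Cfsg.IsExtraspecial 2 ↥Qb :=
    SuzType57.isExtraspecial_of_equiv (MonoidHom.ofInjective hιinj) h.Q0_extra
  have hQbc : Nat.card ↥Qb = 32 := by
    rw [← Nat.card_congr (MonoidHom.ofInjective hιinj).toEquiv, h.card_Q0]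
  have hQbL : Qb ≤ Lb := by
    rintro _ ⟨e, rfl⟩
    exact hLmem _ (Subgroup.mem_centralizer_singleton_iff.1 (h.Q0_le e.2).1)
  haveI hQbn : (Qb.subgroupOf Lb).Normal := by
    refine ⟨fun w hw g => ?_⟩
    obtain ⟨e, he⟩ := hw
    obtain ⟨gX, hgX, hgv⟩ : ∃ gX : ↥X, (gX : G) * z = z * gX ∧ π gX = g := by
      have hg : ((g : ↥Lb) : ↥X ⧸ Qx) ∈ Subgroup.centralizer ({π zX} : Set (↥X ⧸ Qx)) := g.2
      obtain ⟨gX, hgc, hgv⟩ := (hcentimg zX 2 hz2 (by norm_num)).le hg
      exact ⟨gX, congrArg Subtype.val (Subgroup.mem_centralizer_singleton_iff.1 hgc), hgv⟩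
    have hge : (gX : G) * e * (gX : G)⁻¹ ∈ h.Q0 :=
      h.Q0_norm _ ⟨Subgroup.mem_centralizer_singleton_iff.2 hgX, gX.2⟩ _ e.2
    refine Subgroup.mem_subgroupOf.2 ⟨⟨_, hge⟩, ?_⟩
    rw [Subgroup.coe_mul, Subgroup.coe_mul, Subgroup.coe_inv, ← hgv]
    rw [show ((w : ↥Lb) : ↥X ⧸ Qx) = ι e from he.symm]
    simp only [hι, MonoidHom.comp_apply]
    rw [← map_inv, ← map_mul, ← map_mul]
    rfl
  -- the elements of order three and two on top
  have hpX : h.p ∈ X := h.p_mem.2
  have htX : h.t ∈ X := h.t_mem.2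
  set pX : ↥X := ⟨h.p, hpX⟩ with hpXdef
  have hp3 : pX ^ 3 = 1 := Subtype.ext h.p3
  have hpL : π pX ∈ Lb := hLmem pX (Subgroup.mem_centralizer_singleton_iff.1 h.p_mem.1)
  have htL : π ⟨h.t, htX⟩ ∈ Lb := hLmem _ (Subgroup.mem_centralizer_singleton_iff.1 h.t_mem.1)
  set pb : ↥Lb := ⟨π pX, hpL⟩ with hpb
  set tb : ↥Lb := ⟨π ⟨h.t, htX⟩, htL⟩ with htb
  have hpb3 : pb ^ 3 = 1 := Subtype.ext (by
    show (π pX) ^ 3 = 1
    rw [← map_pow, hp3, map_one])
  have hpb1 : pb ≠ 1 := fun he => h.p1 (congrArg Subtype.val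
    (hlift pX 1 3 hp3 (one_pow 3) (by norm_num) ((congrArg Subtype.val he).trans (map_one π).symm)))
  have htp : tb * pb * tb⁻¹ = pb⁻¹ := Subtype.ext (by
    show π ⟨h.t, htX⟩ * π pX * (π ⟨h.t, htX⟩)⁻¹ = (π pX)⁻¹
    rw [← map_inv, ← map_inv, ← map_mul, ← map_mul]
    exact congrArg π (Subtype.ext h.tp))
  -- the core
  set O := Cfsg.pCore 2 ↥Lb with hO
  have hOp : IsPGroup 2 ↥O := PSolvable.pCore_isPGroup
  have hQsub : Nat.card ↥(Qb.subgroupOf Lb) = 32 := by
    rw [Nat.card_congr (Subgroup.subgroupOfEquivOfLe hQbL).toEquiv, hQbc]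
  have hQO : Qb.subgroupOf Lb ≤ O :=
    PSolvable.le_pCore (IsPGroup.of_card (n := 5) (by rw [hQsub]; norm_num))
  obtain ⟨k, hk⟩ := IsPGroup.iff_card.1 hOp
  have hk5 : k = 5 := by
    have d1 : 2 ^ 5 ∣ 2 ^ k := by
      rw [← hk, show (2 : ℕ) ^ 5 = 32 by norm_num, ← hQsub]
      exact Subgroup.card_dvd_of_le hQO
    have d2 : 2 ^ k ∣ 2 ^ 6 * 3 := by
      rw [← hk, show (2 : ℕ) ^ 6 * 3 = 192 by norm_num, ← hLcard]
      exact Subgroup.card_subgroup_dvd_card O
    have h5k : 5 ≤ k := (Nat.pow_dvd_pow_iff_le_right (by norm_num)).1 d1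
    have hk6 : k ≤ 6 := (Nat.pow_dvd_pow_iff_le_right (by norm_num : 1 < 2)).1
      ((Nat.Coprime.pow_left k (by norm_num : Nat.Coprime 2 3)).dvd_of_dvd_mul_right d2)
    by_contra hne
    have h6 : k = 6 := by omega
    have hq3 : Nat.card (↥Lb ⧸ O) = 3 := by
      have := O.card_eq_card_quotient_mul_card_subgroup
      rw [hLcard, hk, h6] at this
      norm_num at this
      omega
    haveI : IsCyclic (↥Lb ⧸ O) := isCyclic_of_prime_card (p := 3) hq3
    have hab : QuotientGroup.mk' O pb = QuotientGroup.mk' O pb⁻¹ := by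
      rw [← htp, map_mul, map_mul, map_inv]
      rw [IsMulCommutative.is_comm.comm (QuotientGroup.mk' O tb) (QuotientGroup.mk' O pb), mul_inv_cancel_right]
    have hmem : pb ^ 2 ∈ O := by
      rw [← QuotientGroup.eq_one_iff]
      show QuotientGroup.mk' O (pb ^ 2) = 1
      rw [pow_two, map_mul]
      nth_rewrite 1 [hab]
      rw [map_inv, inv_mul_cancel]
    obtain ⟨i, hi⟩ := hOp ⟨pb ^ 2, hmem⟩
    have hi' : (pb ^ 2) ^ (2 ^ i) = 1 := congrArg Subtype.val hi
    rw [← pow_mul] at hi'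
    apply hpb1
    rw [← orderOf_eq_one_iff]
    exact Nat.eq_one_of_dvd_coprimes (Nat.Coprime.mul_left (by norm_num) (Nat.Coprime.pow_left _ (by norm_num)))
      (orderOf_dvd_of_pow_eq_one hi') (orderOf_dvd_of_pow_eq_one hpb3)
  have hOc : Nat.card ↥O = 32 := by rw [hk, hk5]; norm_num
  have hOeq : Qb.subgroupOf Lb = O := Subgroup.eq_of_le_of_card_ge hQO (by rw [hOc, hQsub])
  have hQbmap : Qb = O.map Lb.subtype := by
    rw [← hOeq, Subgroup.subgroupOf_map_subtype, inf_eq_left.2 hQbL]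
  haveI hOn : O.Normal := hOeq ▸ hQbn
  have hq6 : Nat.card (↥Lb ⧸ O) = 6 := by
    have := O.card_eq_card_quotient_mul_card_subgroup
    rw [hLcard, hOc] at this
    omega
  obtain ⟨eS⟩ := perm3_of_card hq6 (a := QuotientGroup.mk' O pb) (b := QuotientGroup.mk' O tb)
    (by rw [← map_pow, hpb3, map_one]) (fun he => by
      obtain ⟨i, hi⟩ := hOp ⟨pb, (QuotientGroup.eq_one_iff pb).1 he⟩
      have hi' : pb ^ (2 ^ i) = 1 := congrArg Subtype.val hi
      exact hpb1 (orderOf_eq_one_iff.1 (Nat.eq_one_of_dvd_coprimes (Nat.Coprime.pow_left _ (by norm_num))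
        (orderOf_dvd_of_pow_eq_one hi') (orderOf_dvd_of_pow_eq_one hpb3))))
    (by rw [← map_inv, ← map_mul, ← map_mul, htp, map_inv])
  -- a Sylow three-subgroup of the centralizer
  haveI : Fact (Nat.Prime 3) := ⟨Nat.prime_three⟩
  have hop : orderOf pb = 3 := orderOf_eq_prime hpb3 hpb1
  obtain ⟨S3, hS3⟩ := (IsPGroup.of_card (p := 3) (G := ↥(Subgroup.zpowers pb)) (n := 1)
    (by rw [Nat.card_zpowers, hop, pow_one])).exists_le_sylow
  have hS3eq : (S3 : Subgroup ↥Lb) = Subgroup.zpowers pb := by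
    refine (Subgroup.eq_of_le_of_card_ge hS3 ?_).symm
    obtain ⟨j, hj⟩ := IsPGroup.iff_card.1 S3.isPGroup'
    rw [Nat.card_zpowers, hop, hj]
    have d : 3 ^ j ∣ 3 ^ 1 * 64 := by
      rw [← hj, show (3 : ℕ) ^ 1 * 64 = 192 by norm_num, ← hLcard]
      exact Subgroup.card_subgroup_dvd_card _
    have := Nat.le_of_dvd (by norm_num)
      ((Nat.Coprime.pow_left j (by norm_num : Nat.Coprime 3 64)).dvd_of_dvd_mul_right d)
    simpa using this
  have hCQX : Qb ⊓ Subgroup.centralizer (((S3 : Subgroup ↥Lb).map Lb.subtype : Subgroup (↥X ⧸ Qx)) :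
      Set (↥X ⧸ Qx)) = Subgroup.zpowers s := by
    rw [hS3eq, MonoidHom.map_zpowers]
    refine le_antisymm ?_ ?_
    · rintro w ⟨hwQ, hc⟩
      obtain ⟨e, rfl⟩ := hwQ
      have hce : π pX * ι e = ι e * π pX :=
        Subgroup.mem_centralizer_iff.1 hc _ (Subgroup.mem_zpowers _)
      set eX : ↥X := Subgroup.inclusion hQ0X e with heX
      have h1 : pX * eX * pX⁻¹ = eX :=
        hconj eX pX 32 (hQ0pow e) (by norm_num) (mul_inv_eq_iff_eq_mul.2 hce)
      have h2 : h.p * (e : G) = e * h.p := mul_inv_eq_iff_eq_mul.1 (congrArg Subtype.val h1 : _)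
      rcases h.fpf _ e.2 h2 with he | he
      · have : e = 1 := Subtype.ext he
        rw [this, map_one]; exact Subgroup.one_mem _
      · have : ι e = s := congrArg π (Subtype.ext he : eX = zX)
        rw [this]; exact Subgroup.mem_zpowers _
    · rw [Subgroup.zpowers_le]
      refine ⟨⟨⟨z, h.z_mem⟩, rfl⟩, Subgroup.mem_centralizer_iff.2 fun w hw => ?_⟩
      obtain ⟨i, rfl⟩ := Subgroup.mem_zpowers_iff.1 hw
      exact ((show Commute (π pX) s from
        Subgroup.mem_centralizer_singleton_iff.1 hpL).zpow_left i).eq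
  have hnwc : ∃ g : ↥X ⧸ Qx, g * s * g⁻¹ ∈ Qb ∧ g * s * g⁻¹ ≠ s := by
    obtain ⟨g, hgX, hge, hgn⟩ := h.fused
    refine ⟨π ⟨g, hgX⟩, ⟨⟨_, hge⟩, ?_⟩, fun he => hgn ?_⟩
    · simp only [hι, hsdef, MonoidHom.comp_apply]
      rw [← map_inv, ← map_mul, ← map_mul]
      rfl
    · exact congrArg Subtype.val (hconj zX ⟨g, hgX⟩ 2 hz2 (by norm_num) he)
  -- recognition
  have hcp : Nat.card ↥(Subgroup.centralizer ({π pX} : Set (↥X ⧸ Qx))) = 6 := by
    have := hcentcard pX 3 hp3 (by norm_num)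
    rw [show (X ⊓ Subgroup.centralizer ({((pX : ↥X) : G)} : Set G)) =
      Subgroup.centralizer (Q : Set G) ⊓ Subgroup.centralizer ({h.p} : Set G) from rfl, h.card_cp] at this
    omega
  rcases h3344 (G := ↥X ⧸ Qx) s hs Lb rfl Qb hQbmap hQbex hQbc eS S3 hCQX hnwc with hA | hA
  swap
  · exfalso
    have h9 := nine_dvd_cent (nine_dvd_of_alternatives hA) (x := π pX) (by rw [← map_pow, hp3, map_one])
    rw [hcp] at h9
    norm_num at h9
  obtain ⟨N, hN, hNc, hNsq, hN8, ⟨eP⟩⟩ := hA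
  obtain ⟨eSL⟩ := S3344.psl32_equiv_sl32
  let eN : (↥X ⧸ Qx) ⧸ N ≃* Matrix.SpecialLinearGroup (Fin 3) (ZMod 2) := eP.trans eSL
  haveI hsimp : IsSimpleGroup ((↥X ⧸ Qx) ⧸ N) :=
    @MulEquiv.isSimpleGroup _ _ _ _ SixRec90.isSimple_sl32 eN
  have hB : Nat.card (↥X ⧸ Qx) = 1344 := by
    rw [N.card_eq_card_quotient_mul_card_subgroup, Nat.card_congr eN.toEquiv, SixRec90.card_sl32, hN8]
  have hXc : Nat.card ↥X = 6720 := by
    rw [Qx.card_eq_card_quotient_mul_card_subgroup, hB, hQxc]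
  have hNcom : ∀ a ∈ N, ∀ b ∈ N, a * b = b * a := fun a ha b hb =>
    congrArg Subtype.val (hNc.is_comm.comm ⟨a, ha⟩ ⟨b, hb⟩)
  have hcent : ∀ x : ↥X ⧸ Qx, (∀ n ∈ N, x * n = n * x) → x ∈ N := by
    intro x hx
    set C := Subgroup.centralizer (N : Set (↥X ⧸ Qx)) with hC
    haveI : C.Normal := Subgroup.normal_centralizer
    have hxC : x ∈ C := Subgroup.mem_centralizer_iff.2 fun n hn => (hx n hn).symm
    have hNC : N ≤ C := fun a ha => Subgroup.mem_centralizer_iff.2 fun b hb => hNcom b hb a ha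
    haveI : (C.map (QuotientGroup.mk' N)).Normal :=
      Subgroup.Normal.map inferInstance _ (QuotientGroup.mk'_surjective N)
    rcases Subgroup.Normal.eq_bot_or_eq_top (H := C.map (QuotientGroup.mk' N)) inferInstance with hb | ht
    · have : QuotientGroup.mk' N x ∈ C.map (QuotientGroup.mk' N) := Subgroup.mem_map_of_mem _ hxC
      rw [hb, Subgroup.mem_bot] at this
      exact (QuotientGroup.eq_one_iff x).1 this
    · exfalso
      have htop : C = ⊤ := by
        refine eq_top_iff.2 fun b _ => ?_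
        have : QuotientGroup.mk' N b ∈ C.map (QuotientGroup.mk' N) := by rw [ht]; trivial
        obtain ⟨c, hc, hcb⟩ := this
        have : c⁻¹ * b ∈ N := QuotientGroup.eq.1 hcb
        have hm := C.mul_mem hc (hNC this)
        rwa [mul_inv_cancel_left] at hm
      have hle : N ≤ Subgroup.centralizer ({π pX} : Set (↥X ⧸ Qx)) := by
        intro a ha
        refine Subgroup.mem_centralizer_singleton_iff.2 ?_
        have : π pX ∈ C := by rw [htop]; trivial
        exact Subgroup.mem_centralizer_iff.1 this a ha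
      have := Subgroup.card_dvd_of_le hle
      rw [hN8, hcp] at this
      norm_num at this
  -- 25 does not divide the order
  have h25 : ¬ 25 ∣ Nat.card G := by
    intro h25
    obtain ⟨R, hR, hQR⟩ := Sylow.exists_subgroup_card_pow_prime_le 5 (n := 1) (m := 2)
      (by norm_num [h25]) Q (by rw [hQc, pow_one]) (by norm_num)
    haveI hRc : IsMulCommutative ↥R := IsPGroup.isMulCommutative_of_card_eq_prime_sq hR
    have hRX : R ≤ X := fun a ha => Subgroup.mem_centralizer_iff.2 fun w hw =>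
      congrArg Subtype.val (hRc.is_comm.comm ⟨w, hQR hw⟩ ⟨a, ha⟩)
    have := Subgroup.card_dvd_of_le hRX
    rw [hR, hXc] at this
    norm_num at this
  -- the direct factor
  obtain ⟨Jx, hJx⟩ := Subgroup.exists_right_complement'_of_coprime (N := Qx) (by
    have := Qx.card_mul_index
    rw [hXc, hQxc] at this
    rw [hQxc, show Qx.index = 1344 by omega]
    norm_num)
  set J : Subgroup G := Jx.map X.subtype with hJ
  have hJX : J ≤ X := Subgroup.map_subtype_le Jx
  have hprod : Cfsg.IsInternalDirectProduct Q J X := by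
    refine ⟨hQX, hJX, fun a ha b hb => Subgroup.mem_centralizer_iff.1 (hJX hb) a ha, ?_, ?_⟩
    · refine (Subgroup.eq_bot_iff_forall _).2 fun g hg => ?_
      obtain ⟨w, hw, rfl⟩ := hg.2
      have : w ∈ Qx ⊓ Jx := ⟨hg.1, hw⟩
      rw [hJx.disjoint.eq_bot, Subgroup.mem_bot] at this
      rw [this]; rfl
    · refine le_antisymm (sup_le hQX hJX) fun g hg => ?_
      obtain ⟨⟨a, b⟩, hab, -⟩ := hJx.existsUnique ⟨g, hg⟩
      have e : ((a : ↥X) : G) * ((b : ↥X) : G) = g := congrArg Subtype.val hab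
      rw [← e]
      exact Subgroup.mul_mem_sup a.2 ⟨b, b.2, rfl⟩
  let ψ : ↥J →* ↥X ⧸ Qx := π.comp (Subgroup.inclusion hJX)
  have hψinj : Function.Injective ψ := by
    refine (injective_iff_map_eq_one ψ).2 fun g hg => ?_
    obtain ⟨w, hw, hwg⟩ := g.2
    have hwe : Subgroup.inclusion hJX g = w := Subtype.ext hwg.symm
    have hwQ : w ∈ Qx := hwe ▸ (QuotientGroup.eq_one_iff _).1 hg
    have : w ∈ Qx ⊓ Jx := ⟨hwQ, hw⟩
    rw [hJx.disjoint.eq_bot, Subgroup.mem_bot] at this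
    exact Subgroup.inclusion_injective hJX (by rw [hwe, this, map_one])
  let eJ : ↥J ≃* ↥X ⧸ Qx := MulEquiv.ofBijective ψ ((Nat.bijective_iff_injective_and_card _).2 ⟨hψinj, by
    rw [hJ, Subgroup.card_map_of_injective X.subtype_injective, hB]
    have := hJx.card_mul_card
    rw [hQxc, hXc] at this
    omega⟩)
  set E : Subgroup ↥J := N.comap eJ.toMonoidHom with hE
  haveI hEn : E.Normal := hN.comap _
  have hEmap : E.map eJ.toMonoidHom = N := Subgroup.map_comap_eq_self_of_surjective eJ.surjective N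
  have hEelem : Cfsg.IsElementaryAbelian 2 E := by
    refine ⟨⟨⟨fun a b => ?_⟩⟩, fun a ha => ?_⟩
    · refine Subtype.ext (eJ.injective ?_)
      rw [Subgroup.coe_mul, Subgroup.coe_mul, map_mul, map_mul]
      exact hNcom _ a.2 _ b.2
    · exact eJ.injective (by rw [map_pow, map_one]; exact hNsq _ ha)
  have hEcard : Nat.card ↥E = 8 := by
    rw [← hN8, ← hEmap, Subgroup.card_map_of_injective (f := eJ.toMonoidHom) eJ.injective]
  have hsplit : ∀ K : Subgroup ↥J, ¬ E.IsComplement' K := by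
    intro K hK
    have hK' : N.IsComplement' (K.map eJ.toMonoidHom) := by
      refine Subgroup.isComplement'_of_card_mul_and_disjoint ?_ ?_
      · rw [← hEmap, Subgroup.card_map_of_injective (f := eJ.toMonoidHom) eJ.injective,
          Subgroup.card_map_of_injective (f := eJ.toMonoidHom) eJ.injective, hK.card_mul_card,
          Nat.card_congr eJ.toEquiv]
      · rw [disjoint_iff, ← hEmap, ← Subgroup.map_inf _ _ eJ.toMonoidHom eJ.injective, hK.disjoint.eq_bot,
          Subgroup.map_bot]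
    obtain ⟨x, hx, hx8, hx4⟩ := h.eight
    set xX : ↥X := ⟨x, hx.2⟩
    have hxX8 : xX ^ 8 = 1 := Subtype.ext hx8
    have h4 := pow_four_of_complement N _ hN8 hNsq hcent hK' (x := π xX) (by rw [← map_pow, hxX8, map_one])
    refine hx4 (congrArg Subtype.val (hlift (xX ^ 4) 1 2 ?_ (one_pow 2) (by norm_num) ?_))
    · rw [← pow_mul]; exact hxX8
    · rw [map_pow, h4, map_one]
  -- an element of order four inducing all automorphisms
  haveI : Fact (Nat.Prime 7) := ⟨by norm_num⟩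
  obtain ⟨y, hy⟩ := exists_prime_orderOf_dvd_card' (G := ↥X) 7 (by rw [hXc]; norm_num)
  have hfX : ∀ w : G, w ∈ X → h.f * w * h.f⁻¹ ∈ X := by
    intro w hw
    have hfQ : ∀ c ∈ Q, h.f * c * h.f⁻¹ ∈ Q := by
      intro c hc
      obtain ⟨i, rfl⟩ := Subgroup.mem_zpowers_iff.1 (h.hQ.le hc)
      rw [← conj_zpow, h.fq]
      exact Q.zpow_mem (Q.pow_mem hqQ 2) i
    have hcomm2 : Commute w h.q := mul_inv_eq_iff_eq_mul.1 ((hmemX w).1 hw)
    have hc2 : Commute (h.f * w * h.f⁻¹) (h.q ^ 2) := by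
      rw [← h.fq]
      exact (Commute.conj_iff h.f).2 hcomm2
    rw [hmemX]
    refine mul_inv_eq_iff_eq_mul.2 ?_
    have hq6 : h.q = (h.q ^ 2) ^ 3 := by
      rw [← pow_mul, show 2 * 3 = 5 + 1 by norm_num, pow_succ, h.q5, one_mul]
    rw [hq6]
    exact (hc2.pow_right 3).eq
  set y' : ↥X := ⟨h.f * y * h.f⁻¹, hfX y y.2⟩ with hy'def
  have hy'7 : orderOf y' = 7 := by
    rw [← Subgroup.orderOf_coe, hy'def]
    show orderOf (h.f * (y : G) * h.f⁻¹) = 7
    rw [show h.f * (y : G) * h.f⁻¹ = MulAut.conj h.f (y : G) from rfl, MulEquiv.orderOf_eq,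
      Subgroup.orderOf_coe, hy]
  obtain ⟨x0, hx0⟩ := exists_conj_zpowers (by rw [hXc]; norm_num) hy hy'7
  set g : G := (x0 : G) * h.f with hg
  set Y : Subgroup G := Subgroup.zpowers ((y : ↥X) : G) with hY
  have hgy : g * (y : G) * g⁻¹ ∈ Y := by
    obtain ⟨i, hi⟩ := Subgroup.mem_zpowers_iff.1 hx0
    refine Subgroup.mem_zpowers_iff.2 ⟨i, ?_⟩
    have hv := congrArg Subtype.val hi
    rw [Subgroup.coe_zpow, Subgroup.coe_mul, Subgroup.coe_mul, Subgroup.coe_inv] at hv
    rw [hv, hg]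
    show (x0 : G) * (h.f * y * h.f⁻¹) * (x0 : G)⁻¹ = _
    group
  have hgY : ∀ j : ℕ, g ^ j * (y : G) * (g ^ j)⁻¹ ∈ Y := by
    intro j
    induction j with
    | zero => simp [hY]
    | succ j ih =>
      obtain ⟨i, hi⟩ := Subgroup.mem_zpowers_iff.1 ih
      rw [show g ^ (j + 1) * (y : G) * (g ^ (j + 1))⁻¹ = g * (g ^ j * y * (g ^ j)⁻¹) * g⁻¹ by
        rw [pow_succ']; group, ← hi, ← conj_zpow]
      exact Y.zpow_mem hgy i
  have hgq : g * h.q * g⁻¹ = h.q ^ 2 := by
    have h2 : (x0 : G) * h.q ^ 2 * (x0 : G)⁻¹ = h.q ^ 2 := by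
      rw [← conj_pow, (hmemX _).1 x0.2]
    rw [hg, ← h2, ← h.fq]
    group
  obtain ⟨a, o, ho, hord⟩ := Nat.exists_eq_two_pow_mul_odd (orderOf_pos g).ne'
  set r : G := g ^ o with hr
  set K := (2 ^ o) % 5 with hK
  have hK23 : K = 2 ∨ K = 3 := by
    obtain ⟨j, rfl⟩ := ho
    have : ∀ j : ℕ, (4 : ℕ) ^ j % 5 = 1 ∨ 4 ^ j % 5 = 4 := by
      intro j
      induction j with
      | zero => left; rfl
      | succ j ih => rcases ih with ih | ih <;> [right; left] <;> rw [pow_succ, Nat.mul_mod, ih]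
    rw [hK, pow_succ, pow_mul, show (2 : ℕ) ^ 2 = 4 by norm_num, Nat.mul_mod]
    rcases this j with e | e <;> rw [e] <;> norm_num
  have hK5 : K < 5 := by omega
  have hrq : r * h.q * r⁻¹ = h.q ^ K := by
    rw [hr, conj_pow_exp hgq o, ← pow_mod_orderOf h.q (2 ^ o), hoq]
  have hrpow : ∀ j : ℕ, r ^ j * h.q * (r ^ j)⁻¹ = h.q ^ (K ^ j % 5) := fun j => by
    rw [conj_pow_exp hrq j, ← pow_mod_orderOf h.q (K ^ j), hoq]
  have hqinj : ∀ a b : ℕ, a < 5 → b < 5 → h.q ^ a = h.q ^ b → a = b := fun a b ha hb he =>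
    pow_injOn_Iio_orderOf (by rw [hoq]; exact ha) (by rw [hoq]; exact hb) he
  have hr4 : r ^ 4 = 1 := by
    have hr4X : r ^ 4 ∈ X := by
      rw [hmemX, hrpow]
      rcases hK23 with e | e <;> rw [e] <;> norm_num
    have hnorm : (⟨r ^ 4, hr4X⟩ : ↥X) * y * (⟨r ^ 4, hr4X⟩ : ↥X)⁻¹ ∈ Subgroup.zpowers y := by
      have := hgY (o * 4)
      rw [pow_mul, ← hr] at this
      obtain ⟨i, hi⟩ := Subgroup.mem_zpowers_iff.1 this
      exact Subgroup.mem_zpowers_iff.2 ⟨i, Subtype.ext (by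
        rw [Subgroup.coe_zpow, hi, Subgroup.coe_mul, Subgroup.coe_mul, Subgroup.coe_inv])⟩
    have hpow : (⟨r ^ 4, hr4X⟩ : ↥X) ^ (2 ^ a) = 1 := Subtype.ext (by
      show (r ^ 4) ^ (2 ^ a) = 1
      rw [hr, ← pow_mul, ← pow_mul, show o * (4 * 2 ^ a) = (2 ^ a * o) * 4 by ring, pow_mul, ← hord,
        pow_orderOf_eq_one, one_pow])
    have hy7 : orderOf (π y) = 7 := by
      refine orderOf_eq_prime (by rw [← map_pow, ← hy, pow_orderOf_eq_one, map_one]) fun he => ?_
      have := hlift y 1 7 (hy ▸ pow_orderOf_eq_one y) (one_pow 7) (by norm_num) (he.trans (map_one π).symm)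
      rw [this, orderOf_one] at hy
      omega
    have h1 := two_element_normalizer_seven N hB hN8 hcent hy7 (m := π ⟨r ^ 4, hr4X⟩) (a := a)
      (by rw [← map_pow, hpow, map_one]) (by
        obtain ⟨i, hi⟩ := Subgroup.mem_zpowers_iff.1 hnorm
        exact Subgroup.mem_zpowers_iff.2 ⟨i, by rw [← map_zpow, hi, map_mul, map_mul, map_inv]⟩)
    exact congrArg Subtype.val (hlift ⟨r ^ 4, hr4X⟩ 1 (2 ^ a) hpow (one_pow _)
      (Nat.Coprime.pow_left _ (by norm_num)) (h1.trans (map_one π).symm))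
  have hjX : ∀ j : Fin 4, r ^ (j : ℕ) ∈ X → j = 0 := by
    intro j hj
    have he := (hmemX _).1 hj
    rw [hrpow] at he
    have : K ^ (j : ℕ) % 5 = 1 :=
      hqinj _ 1 (Nat.mod_lt _ (by norm_num)) (by norm_num) (he.trans (pow_one _).symm)
    exact exp_five_inj ⟨K, hK5⟩ hK23 j this
  have hor : orderOf r = 4 := by
    refine orderOf_eq_prime_pow (p := 2) (n := 1) ?_ (by norm_num [hr4])
    intro h2
    have := hjX ⟨2, by norm_num⟩ (by show r ^ 2 ∈ X; rw [show r ^ 2 = 1 by simpa using h2]; exact X.one_mem)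
    exact absurd this (by decide)
  have hrN : r ∈ Subgroup.normalizer (Q : Set G) := by
    have hmap : Q.map (MulAut.conj r).toMonoidHom = Q := by
      refine Subgroup.eq_of_le_of_card_ge ?_ (by rw [Subgroup.card_map_of_injective (MulAut.conj r).injective])
      rw [h.hQ, MonoidHom.map_zpowers, Subgroup.zpowers_le]
      show r * h.q * r⁻¹ ∈ Subgroup.zpowers h.q
      rw [hrq]
      exact Subgroup.pow_mem _ (Subgroup.mem_zpowers _) K
    refine Subgroup.mem_normalizer_iff.2 fun b => ⟨fun hb => ?_, fun hb => ?_⟩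
    · rw [← hmap]; exact ⟨b, hb, rfl⟩
    · rw [← hmap] at hb
      obtain ⟨b', hb', he⟩ := hb
      simp only [MulEquiv.coe_toMonoidHom, MulAut.conj_apply, mul_left_inj, mul_right_inj] at he
      rwa [← he]
  have hle : Subgroup.zpowers r ≤ Subgroup.normalizer (Q : Set G) := Subgroup.zpowers_le.2 hrN
  have hpowfin : ∀ c : G, c ∈ Subgroup.zpowers r → ∃ j : Fin 4, c = r ^ (j : ℕ) := by
    intro c hc
    have hfin : IsOfFinOrder r := isOfFinOrder_of_finite r
    obtain ⟨j, hj⟩ := hfin.mem_powers_iff_mem_zpowers.2 hc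
    exact ⟨⟨j % 4, Nat.mod_lt _ (by norm_num)⟩, by
      show c = r ^ (j % 4); rw [← hor, pow_mod_orderOf]; exact hj.symm⟩
  have hdisj : Disjoint Q (Subgroup.zpowers r) :=
    Subgroup.disjoint_of_coprime_natCard (by rw [hQc, Nat.card_zpowers, hor]; norm_num)
  have hset : ((Q ⊔ Subgroup.zpowers r : Subgroup G) : Set G) = (Q : Set G) * (Subgroup.zpowers r : Set G) :=
    Subgroup.coe_mul_of_right_le_normalizer_left Q _ hle
  have hR20 : Nat.card ↥(Q ⊔ Subgroup.zpowers r : Subgroup G) = 20 := by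
    have hbij : Function.Bijective (fun x : ↥Q × ↥(Subgroup.zpowers r) =>
        (⟨(x.1 : G) * x.2, Subgroup.mul_mem_sup x.1.2 x.2.2⟩ : ↥(Q ⊔ Subgroup.zpowers r : Subgroup G))) := by
      refine ⟨fun a b hab => Subgroup.mul_injective_of_disjoint hdisj (congrArg Subtype.val hab), fun c => ?_⟩
      have hc : (c : G) ∈ (Q : Set G) * (Subgroup.zpowers r : Set G) := by rw [← hset]; exact c.2
      obtain ⟨w, hw, v, hv, he⟩ := Set.mem_mul.1 hc
      exact ⟨(⟨w, hw⟩, ⟨v, hv⟩), Subtype.ext he⟩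
    rw [← Nat.card_congr (Equiv.ofBijective _ hbij), Nat.card_prod, hQc, Nat.card_zpowers, hor]
  have hRX : (Q ⊔ Subgroup.zpowers r) ⊓ X = Q := by
    refine le_antisymm (fun c hc => ?_) (le_inf le_sup_left hQX)
    have hc' : c ∈ (Q : Set G) * (Subgroup.zpowers r : Set G) := by rw [← hset]; exact hc.1
    obtain ⟨w, hw, v, hv, rfl⟩ := Set.mem_mul.1 hc'
    obtain ⟨j, rfl⟩ := hpowfin v hv
    have hvX : r ^ (j : ℕ) ∈ X := by
      have hm := X.mul_mem (X.inv_mem (hQX hw)) hc.2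
      rwa [inv_mul_cancel_left] at hm
    rw [hjX j hvX]
    simpa using hw
  -- the normalizer
  have hXN : X ≤ Subgroup.normalizer (Q : Set G) := by
    intro c hc
    refine Subgroup.mem_normalizer_iff.2 fun b => ⟨fun hb => ?_, fun hb => ?_⟩
    · rw [← Subgroup.mem_centralizer_iff.1 hc b hb, mul_inv_cancel_right]; exact hb
    · have := Subgroup.mem_centralizer_iff.1 hc _ hb
      have e : b = c * b * c⁻¹ := by
        calc b = c⁻¹ * ((c * b * c⁻¹) * c) := by group
          _ = c⁻¹ * (c * (c * b * c⁻¹)) := by rw [this]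
          _ = c * b * c⁻¹ := by group
      rw [e]; exact hb
  have hNQ : Nat.card ↥(Subgroup.normalizer (Q : Set G)) = 4 * 6720 := by
    let F : Fin 4 × ↥X → ↥(Subgroup.normalizer (Q : Set G)) := fun x =>
      ⟨r ^ (x.1 : ℕ) * x.2, Subgroup.mul_mem _ (Subgroup.pow_mem _ hrN _) (hXN x.2.2)⟩
    have hconjF : ∀ (j : Fin 4) (c : ↥X), r ^ (j : ℕ) * c * h.q * (r ^ (j : ℕ) * (c : G))⁻¹ =
        h.q ^ (K ^ (j : ℕ) % 5) := by
      intro j c
      rw [← hrpow (j : ℕ)]
      calc r ^ (j : ℕ) * c * h.q * (r ^ (j : ℕ) * (c : G))⁻¹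
          = r ^ (j : ℕ) * ((c : G) * h.q * (c : G)⁻¹) * (r ^ (j : ℕ))⁻¹ := by group
        _ = _ := by rw [(hmemX _).1 c.2]
    have hFb : Function.Bijective F := by
      refine ⟨?_, fun c => ?_⟩
      · rintro ⟨i, c⟩ ⟨j, d⟩ hij
        have hv : r ^ (i : ℕ) * (c : G) = r ^ (j : ℕ) * d := congrArg Subtype.val hij
        have h1 := hconjF i c
        rw [hv, hconjF j d] at h1
        have hij' : i = j := exp_five_eq ⟨K, hK5⟩ hK23 i j
          (hqinj _ _ (Nat.mod_lt _ (by norm_num)) (Nat.mod_lt _ (by norm_num)) h1.symm)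
        subst hij'
        rw [Subtype.ext (mul_left_cancel hv)]
      · have hcq : (c : G) * h.q * (c : G)⁻¹ ∈ Q := (Subgroup.mem_normalizer_iff.1 c.2 _).1 hqQ
        obtain ⟨i, hi⟩ := (isOfFinOrder_of_finite h.q).mem_powers_iff_mem_zpowers.2 (h.hQ.le hcq)
        have hi' : (c : G) * h.q * (c : G)⁻¹ = h.q ^ (i % 5) := by
          rw [← hoq, pow_mod_orderOf]; exact hi.symm
        have hi0 : i % 5 ≠ 0 := by
          intro h0
          rw [h0, pow_zero, conj_eq_one_iff] at hi'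
          exact h.q1 hi'
        obtain ⟨j, hj⟩ := exists_exp_five ⟨K, hK5⟩ hK23 ⟨i % 5, Nat.mod_lt _ (by norm_num)⟩ hi0
        simp only at hj
        have hmem : (r ^ (j : ℕ))⁻¹ * (c : G) ∈ X := by
          rw [hmemX]
          calc (r ^ (j : ℕ))⁻¹ * c * h.q * ((r ^ (j : ℕ))⁻¹ * (c : G))⁻¹
              = (r ^ (j : ℕ))⁻¹ * ((c : G) * h.q * (c : G)⁻¹) * r ^ (j : ℕ) := by group
            _ = (r ^ (j : ℕ))⁻¹ * (r ^ (j : ℕ) * h.q * (r ^ (j : ℕ))⁻¹) * r ^ (j : ℕ) := by
                rw [hi', hrpow, hj]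
            _ = h.q := by group
        exact ⟨(j, ⟨_, hmem⟩), Subtype.ext (mul_inv_cancel_left _ _)⟩
    rw [← Nat.card_congr (Equiv.ofBijective F hFb), Nat.card_prod, Nat.card_eq_fintype_card,
      Fintype.card_fin, hXc]
  exact ⟨h25, ⟨J, hprod, E, hEn, hEelem, hEcard,
    ⟨(QuotientGroup.congr E N eJ hEmap).trans eN⟩, hsplit⟩,
    ⟨_, le_sup_left, sup_le Subgroup.le_normalizer hle, hR20, hRX⟩, by rw [hNQ]; norm_num⟩

end Cfsg.Agent.Lib.J4Five60
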