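import Cfsg.Agent.Lib.J4Type19.Main

/-!
# The facts about an element of order five of M22 used for groups of type J4
-/

set_option autoImplicit false

namespace Cfsg.Agent.Lib.J4Five60

open Cfsg Cfsg.Agent.Lib.J4Type19

/-- An element of order five normalising `U0`, with its normalizer and the outer centralizer. -/
structure FiveFacts {M : Type*} [Group M] (F : MFacts M) : Type _ where
  q : M
  q5 : q ^ 5 = 1
  q1 : q ≠ 1
  cent : ∀ m : M, Commute m q → ∃ i : ℕ, m = q ^ i
  f : M
  fq : f * q * f⁻¹ = q ^ 2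
  nq : ∀ x ∈ F.U0, q * x * q⁻¹ ∈ F.U0
  /-- Some outer automorphism fixes `q`. -/
  outer : ∃ a : MulAut M, a ∉ Inn M ∧ a q = q
  /-- An outer automorphism fixing `q` moves `U0` to a subgroup generating everything with it. -/
  swap : ∀ a : MulAut M, a ∉ Inn M → a q = q →
    Subgroup.closure ((F.U0 : Set M) ∪ (a '' (F.U0 : Set M))) = ⊤

end Cfsg.Agent.Lib.J4Five60
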