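import Cfsg.Agent.Lib.J4Type19.M22Checks

/-!
Generated data and kernel checks: an element of order five of M22 normalising the listed elementary
subgroup, and a permutation inducing an outer automorphism which fixes it.
-/

set_option autoImplicit false
set_option maxRecDepth 100000

namespace Cfsg.Agent.Lib.J4Five60

open Cfsg.Agent.Lib.Compute Cfsg.Agent.Lib.Compute.Mathieu Cfsg.Agent.Lib.J4Type19
open Cfsg.Agent.Lib.Fusion (memCode)

/-- The element of order five. -/
def qLit : ℕ × ℕ := (0x17130711090f0a0b020814150c050e1610120d0406030100, 0x17080c0d160614071209050b1011130e15030a04020f0100)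

/-- An element squaring it by conjugation. -/
def fLit : ℕ × ℕ := (0x170716140b020a080610050e130d150c09121101030f0400, 0x171509140b06050e020c0a0813110710160f0d0103120400)

/-- The permutation inducing the outer automorphism. -/
def sLit : ℕ × ℕ := (0x070902101103080a0c0f1316060b150e1412010d050417, 0x0b08060c0512130d07030e090f1510160a020111140417)

/-- Conjugation by the permutation, on codes. -/
noncomputable def sConj (c : ℕ) : ℕ := mc (mc sLit.1 c) sLit.2

/-- The listed subgroup followed by its image. -/
noncomputable def swapList : List ℕ :=
  Data.u0.map Prod.fst ++ (Data.u0.map Prod.fst).map sConj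

/-- Value of a word in the list. -/
noncomputable def swapVal (l : List ℕ) : ℕ :=
  List.rec (motive := fun _ => ℕ) c1 (fun j _ r => mc (swapList.getD j c1) r) l

/-- The generators of M22 as words. -/
def swapWords : List (List ℕ) := [[15, 20, 14, 19, 4], [27, 3, 31, 13, 19]]

theorem five_lits : ([qLit, fLit].all (pairCheck 8 24 m22Chain)) = true := by decide +kernel

theorem five_q : (Nat.beq (codePow qLit.1 5) c1 && !Nat.beq qLit.1 c1 &&
    normOK qLit (Data.u0.map Prod.fst) &&
    Nat.beq (mc fLit.1 qLit.1) (mc (codePow qLit.1 2) fLit.1)) = true := by decide +kernel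

theorem five_cent : ((transList (permOps 8 24) qLit.1 qLit.1 m22Chain (permOps 8 24).one []).all
    fun v => (List.range 5).any fun i => Nat.beq v (codePow qLit.1 i)) = true := by decide +kernel

theorem s_perm : permCheck 8 24 sLit.1 sLit.2 = true := by decide +kernel

theorem s_pack : packP 8 (getP 8 sLit.1) 24 = sLit.1 ∧ packP 8 (getP 8 sLit.2) 24 = sLit.2 := by
  decide +kernel

theorem s_fix : sConj qLit.1 = qLit.1 := by decide +kernel

theorem s_norm : (m22Gens.all fun g =>
    pairCheck 8 24 m22Chain (sConj g.1, sConj g.2)) = true := by decide +kernel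

theorem swap_words : swapWords.map swapVal = m22Gens.map Prod.fst := by decide +kernel

end Cfsg.Agent.Lib.J4Five60
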