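import Cfsg.Agent.Lib.J4Five60.Facts
import Cfsg.Agent.Lib.J4Five60.FiveM22Data

/-! # The facts about an element of order five, for M22 -/

set_option autoImplicit false
set_option maxRecDepth 20000

namespace Cfsg.Agent.Lib.J4Five60

open Cfsg Cfsg.Agent.Lib.J4Type19
open Cfsg.Agent.Lib.Compute Cfsg.Agent.Lib.Compute.Mathieu
open Cfsg.Agent.Lib.Fusion (memCode memCode_iff)

local notation "en" => m22Enc

/-- The permutation inducing the outer automorphism. -/
noncomputable def sPerm : Equiv.Perm Cfsg.GolayPt := permOfCode 8 ptEquiv sLit.1 sLit.2 s_perm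

theorem enc_sPerm : ptCoding.enc sPerm = sLit.1 := encP_permOfCode ptEquiv s_perm s_pack.1

theorem enc_sPerm_inv : ptCoding.enc sPerm⁻¹ = sLit.2 := encP_permOfCode_inv ptEquiv s_perm s_pack.2

theorem mc_enc (g h : Equiv.Perm Cfsg.GolayPt) :
    ptCoding.enc (g * h) = mc (ptCoding.enc g) (ptCoding.enc h) := by
  unfold mc
  rw [← permOps_mul]
  exact (ptCoding.mul_enc g h).symm

theorem enc_conj (x : Equiv.Perm Cfsg.GolayPt) :
    ptCoding.enc (sPerm * x * sPerm⁻¹) = sConj (ptCoding.enc x) := by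
  rw [mc_enc, mc_enc, enc_sPerm, enc_sPerm_inv]
  rfl

theorem sConj_lift {p : ℕ × ℕ} (hp : p ∈ m22Gens) : ∃ k : MG, m22Enc k = sConj p.1 := by
  have h := List.all_eq_true.1 s_norm p hp
  obtain ⟨k, hk, -⟩ := m22_lift (p := (sConj p.1, sConj p.2)) h
  dsimp only at hk
  exact ⟨k, hk⟩

theorem conj_mem {x : Equiv.Perm Cfsg.GolayPt} (hx : x ∈ m22Group) : sPerm * x * sPerm⁻¹ ∈ m22Group := by
  have hle : m22Group ≤ m22Group.comap (MulAut.conj sPerm).toMonoidHom := by
    unfold m22Group genGroup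
    refine (Subgroup.closure_le _).2 ?_
    rintro g ⟨p, hp, hg⟩
    obtain ⟨k, hk⟩ := sConj_lift hp
    have he : ptCoding.enc (sPerm * g * sPerm⁻¹) = ptCoding.enc (k : Equiv.Perm Cfsg.GolayPt) :=
      (enc_conj g).trans ((congrArg sConj hg).trans hk.symm)
    have hmem : sPerm * g * sPerm⁻¹ ∈ m22Group := by rw [ptCoding.inj he]; exact k.2
    exact Subgroup.mem_comap.2 hmem
  have h := hle hx
  rw [Subgroup.mem_comap] at h
  exact h

theorem exists_auto : ∃ a : MulAut MG, ∀ x : MG, en (a x) = sConj (en x) := by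
  let h : MG →* MG :=
    { toFun := fun x => ⟨sPerm * x.1 * sPerm⁻¹, conj_mem x.2⟩
      map_one' := Subtype.ext (show sPerm * 1 * sPerm⁻¹ = 1 by group)
      map_mul' := fun x y => Subtype.ext (show sPerm * (x.1 * y.1) * sPerm⁻¹ =
        sPerm * x.1 * sPerm⁻¹ * (sPerm * y.1 * sPerm⁻¹) by group) }
  have hinj : Function.Injective h := fun x y hxy =>
    Subtype.ext (mul_left_cancel (mul_right_cancel (congrArg Subtype.val hxy)))
  exact ⟨MulEquiv.ofBijective h (Finite.injective_iff_bijective.1 hinj), fun x => enc_conj x.1⟩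

theorem exists_fiveFacts_gen : ∃ F : MFacts MG, Nonempty (FiveFacts F) := by
  obtain ⟨F, hU0⟩ := exists_mFacts_u0
  obtain ⟨q, hq, hq'⟩ := m22_lift (List.all_eq_true.1 five_lits qLit (by simp))
  obtain ⟨f, hf, -⟩ := m22_lift (List.all_eq_true.1 five_lits fLit (by simp))
  have h5 := five_q
  simp only [Bool.and_eq_true] at h5
  obtain ⟨⟨⟨hq5, hq1⟩, hnq⟩, hfq⟩ := h5
  have hone : en 1 = c1 := m22Enc_one
  have hcent : ∀ m : MG, Commute m q → ∃ i : ℕ, m = q ^ i := by
    intro m hm
    have h := m22_mem_transList (x := q) (y := q) hm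
    rw [hq] at h
    obtain ⟨i, -, hi⟩ := List.any_eq_true.1 (List.all_eq_true.1 five_cent _ h)
    exact ⟨i, m22Enc_inj ((Nat.eq_of_beq_eq_true hi).trans (by rw [m22Enc_pow, hq]))⟩
  have hnq' : ∀ x ∈ F.U0, q * x * q⁻¹ ∈ F.U0 := fun x hx =>
    (hU0 _).2 (norm_of hq hq' hnq ((hU0 _).1 hx))
  obtain ⟨a, ha⟩ := exists_auto
  have haq : a q = q := m22Enc_inj (by rw [ha, hq, s_fix])
  have hgen : Subgroup.closure ((F.U0 : Set MG) ∪ (a '' (F.U0 : Set MG))) = ⊤ := by
    set K := Subgroup.closure ((F.U0 : Set MG) ∪ (a '' (F.U0 : Set MG))) with hK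
    have hlist : ∀ j, ∃ k ∈ K, en k = swapList.getD j c1 := by
      intro j
      rcases Nat.lt_or_ge j swapList.length with hj | hj
      · have hm : swapList.getD j c1 ∈ swapList := by
          rw [← List.getElem_eq_getD (h := hj)]; exact List.getElem_mem hj
        rcases List.mem_append.1 hm with h | h
        · obtain ⟨p, hp, hpe⟩ := List.mem_map.1 h
          obtain ⟨g, hg, -⟩ := lift_lit (p := p) (by simp [litList, hp])
          exact ⟨g, Subgroup.subset_closure (Or.inl ((hU0 g).2 (hg ▸ List.mem_map_of_mem hp))),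
            hg.trans hpe⟩
        · obtain ⟨c, hc, hce⟩ := List.mem_map.1 h
          obtain ⟨p, hp, hpe⟩ := List.mem_map.1 hc
          obtain ⟨g, hg, -⟩ := lift_lit (p := p) (by simp [litList, hp])
          exact ⟨a g, Subgroup.subset_closure (Or.inr ⟨g, (hU0 g).2 (hg ▸ List.mem_map_of_mem hp), rfl⟩),
            by rw [ha, hg, hpe, hce]⟩
      · exact ⟨1, one_mem _, by rw [List.getD_eq_default _ _ hj, hone]⟩
    have hval : ∀ l : List ℕ, ∃ k ∈ K, en k = swapVal l := by
      intro l
      induction l with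
      | nil => exact ⟨1, one_mem _, hone⟩
      | cons j l ih =>
        obtain ⟨k, hk, hke⟩ := ih
        obtain ⟨g, hg, hge⟩ := hlist j
        exact ⟨g * k, mul_mem hg hk, by rw [enc_mul, hge, hke]; rfl⟩
    refine Subgroup.map_injective (Subgroup.subtype_injective _) (le_antisymm (Subgroup.map_mono le_top) ?_)
    rw [← MonoidHom.range_eq_map, Subgroup.range_subtype]
    refine (Subgroup.closure_le _).2 ?_
    rintro g ⟨p, hp, hg⟩
    have hmem : p.1 ∈ swapWords.map swapVal := swap_words ▸ List.mem_map_of_mem hp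
    obtain ⟨l, -, hl⟩ := List.mem_map.1 hmem
    obtain ⟨k, hk, hke⟩ := hval l
    exact ⟨k, hk, ptCoding.inj ((hke.trans hl).trans hg.symm)⟩
  have hpow : ∀ i : ℕ, ∀ x ∈ F.U0, q ^ i * x * (q ^ i)⁻¹ ∈ F.U0 := by
    intro i
    induction i with
    | zero => intro x hx; simpa using hx
    | succ i ih =>
      intro x hx
      rw [show q ^ (i + 1) * x * (q ^ (i + 1))⁻¹ = q * (q ^ i * x * (q ^ i)⁻¹) * q⁻¹ by
        rw [pow_succ' q i]; group]
      exact hnq' _ (ih x hx)
  have hout : a ∉ Inn MG := by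
    rintro ⟨m, hm⟩
    have hmq : Commute m q := by
      have h : m * q * m⁻¹ = q := by
        rw [← MulAut.conj_apply, hm, haq]
      exact mul_inv_eq_iff_eq_mul.1 h
    obtain ⟨i, rfl⟩ := hcent m hmq
    have himg : a '' (F.U0 : Set MG) ⊆ F.U0 := by
      rintro - ⟨x, hx, rfl⟩
      rw [← hm, MulAut.conj_apply]
      exact hpow i x hx
    rw [Set.union_eq_self_of_subset_right himg, Subgroup.closure_eq] at hgen
    have h16 := F.card0
    rw [hgen, Subgroup.card_top, F.card] at h16
    omega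
  have hindex : (Inn MG).index = 2 := by
    have h : (Inn ↥Cfsg.Spor.M22).index = 2 := card_out_M22
    rwa [Fusion.Mathieu.eq_m22] at h
  refine ⟨F, ⟨{ q := q, q5 := ?_, q1 := ?_, cent := hcent, f := f, fq := ?_, nq := hnq'
                outer := ⟨a, hout, haq⟩, swap := ?_ }⟩⟩
  · exact m22Enc_inj (by rw [m22Enc_pow, hq, hone]; exact Nat.eq_of_beq_eq_true hq5)
  · exact ne_of_not_beq (by rw [hq, hone]; exact hq1)
  · refine mul_inv_eq_iff_eq_mul.2 (m22Enc_inj ?_)
    rw [enc_mul, enc_mul, m22Enc_pow, hf, hq]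
    exact Nat.eq_of_beq_eq_true hfq
  · intro b hb hbq
    have hmem : a⁻¹ * b ∈ Inn MG := by
      rw [Subgroup.mul_mem_iff_of_index_two hindex]
      simp [hout, hb]
    obtain ⟨m, hm⟩ := hmem
    have hb' : b = a * MulAut.conj m := by rw [hm, mul_inv_cancel_left]
    have hmq : Commute m q := by
      have h : MulAut.conj m q = q := by
        apply a.injective
        rw [← MulAut.mul_apply, ← hb', hbq, haq]
      exact mul_inv_eq_iff_eq_mul.1 h
    obtain ⟨i, rfl⟩ := hcent m hmq
    have himg : b '' (F.U0 : Set MG) = a '' (F.U0 : Set MG) := by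
      have hsur : MulAut.conj (q ^ i) '' (F.U0 : Set MG) = F.U0 := by
        refine Set.Subset.antisymm ?_ ?_
        · rintro - ⟨x, hx, rfl⟩
          exact hpow i x hx
        · intro x hx
          refine ⟨(q ^ i)⁻¹ * x * q ^ i, ?_, by rw [MulAut.conj_apply]; group⟩
          have h5' : q ^ 5 = 1 := m22Enc_inj (by rw [m22Enc_pow, hq, hone]; exact Nat.eq_of_beq_eq_true hq5)
          have hinv : (q ^ i)⁻¹ = q ^ (4 * i) := by
            refine inv_eq_of_mul_eq_one_right ?_
            rw [← pow_add, show i + 4 * i = 5 * i by ring, pow_mul, h5', one_pow]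
          have := hpow (4 * i) x hx
          rw [← hinv, inv_inv] at this
          exact this
      calc b '' (F.U0 : Set MG) = a '' (MulAut.conj (q ^ i) '' (F.U0 : Set MG)) := by
            rw [hb', Set.image_image]; rfl
        _ = a '' (F.U0 : Set MG) := by rw [hsur]
    rw [himg]
    exact hgen

/-- Brick M: the facts about an element of order five of M22. -/
theorem exists_fiveFacts : ∃ F : MFacts ↥Cfsg.Spor.M22, Nonempty (FiveFacts F) := by
  rw [Fusion.Mathieu.eq_m22]
  exact exists_fiveFacts_gen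

end Cfsg.Agent.Lib.J4Five60
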