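import Cfsg.Agent.Lib.J4Fusion14.Pair

/-!
# In a group of type J4 the central involution is fused into `E`

Given a conjugate `u ≠ z` of `z` in `C = C_H(P)`: if no other conjugate lies in `E`, the intersection `I` of
`E` with its conjugate for `u` has order at most 4, so `C_E(u)/I` maps onto a Sylow 2-subgroup of M22 which is
normalized by the element of order three coming from `P`, with too few fixed points.
-/

set_option autoImplicit false

namespace Cfsg.Agent.Lib.J4Five60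

open Cfsg Cfsg.Agent.Lib.J4Type19 Cfsg.Agent.Lib.J4Fusion14

attribute [local instance] m22_finite

variable {G : Type*} [Group G] {z : G} {P : Subgroup G}

theorem mk_inv (D : HData z P) (f : ↥(cE z)) : mk f⁻¹ = mk f := by
  have : mk f⁻¹ + mk f = 0 := by rw [← mk_mul, inv_mul_cancel, mk_one]
  rw [eq_neg_of_add_eq_zero_left this, neg_eq_of_add_eq_zero_right (cV_two D.hJ _)]

theorem mk_conj_smul (c : ↥(cC z P)) {e : G} (he : e ∈ cE z) :
    mk ⟨(c : G) * e * (c : G)⁻¹, cE_conj c.2.1 he⟩ = c • mk ⟨e, he⟩ := rfl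

/-- An involution of `C` centralizes the whole preimage of its fixed space. -/
theorem commute_of_fix [Finite G] (D : HData z P) {c : ↥(cC z P)} (_h2 : (c : G) * c = 1) {e : ↥(cE z)}
    (he : mk e ∈ fixElt (V := cV z) c) : Commute (c : G) (e : G) := by
  have hfix : ∀ f : ↥(cE z), mk f ∈ fixElt (V := cV z) c →
      (c : G) * f * (c : G)⁻¹ = f ∨ (c : G) * f * (c : G)⁻¹ = f * z := fun f hf => (mk_eq D.hJ).1 (Eq.symm hf)
  rcases hfix e he with h | h
  · exact mul_inv_eq_iff_eq_mul.1 h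
  exfalso
  have hpc : D.p * (c : G) = (c : G) * D.p := D.comm_p c
  obtain ⟨e1, he1⟩ : ∃ f, f = cEAut D.p D.pH e := ⟨_, rfl⟩
  obtain ⟨e2, he2⟩ : ∃ f, f = cEAut D.p D.pH e1 := ⟨_, rfl⟩
  have hzc : ∀ h' : G, h' ∈ cH z → h' * z = z * h' := fun h' hh => Subgroup.mem_centralizer_singleton_iff.1 hh
  have step : ∀ f : ↥(cE z), (c : G) * f * (c : G)⁻¹ = f * z →
      (c : G) * (cEAut D.p D.pH f : G) * (c : G)⁻¹ = (cEAut D.p D.pH f : G) * z := by
    intro f hf
    show (c : G) * (D.p * f * D.p⁻¹) * (c : G)⁻¹ = D.p * f * D.p⁻¹ * z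
    calc (c : G) * (D.p * f * D.p⁻¹) * (c : G)⁻¹ = (c : G) * D.p * f * ((c : G) * D.p)⁻¹ := by group
      _ = D.p * (c : G) * f * (D.p * (c : G))⁻¹ := by rw [hpc]
      _ = D.p * ((c : G) * f * (c : G)⁻¹) * D.p⁻¹ := by group
      _ = D.p * f * (z * D.p⁻¹) := by rw [hf]; group
      _ = _ := by rw [← hzc _ (inv_mem D.pH)]; group
  have h1 : (c : G) * e1 * (c : G)⁻¹ = e1 * z := he1 ▸ step e h
  have h2' : (c : G) * e2 * (c : G)⁻¹ = e2 * z := he2 ▸ step e1 h1
  have hsum : mk (e * e1 * e2) = 0 := by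
    rw [mk_mul, mk_mul, he2, he1, ← D.smul_p_mk, ← D.smul_p_mk]
    exact D.toJMod.ω_sum _
  have hcz : (c : G) * ((e * e1 * e2 : ↥(cE z)) : G) * (c : G)⁻¹ = ((e * e1 * e2 : ↥(cE z)) : G) := by
    rcases (mk_eq_zero D.hJ).1 hsum with h0 | h0 <;> rw [h0]
    · simp
    · rw [hzc _ c.2.1, mul_inv_cancel_right]
  simp only [Subgroup.coe_mul] at hcz
  have hexp : (c : G) * ((e : G) * e1 * e2) * (c : G)⁻¹ = (e : G) * e1 * e2 * z := by
    calc (c : G) * ((e : G) * e1 * e2) * (c : G)⁻¹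
        = ((c : G) * e * (c : G)⁻¹) * ((c : G) * e1 * (c : G)⁻¹) * ((c : G) * e2 * (c : G)⁻¹) := by group
      _ = (e : G) * (z * e1) * (z * e2) * z := by rw [h, h1, h2']; group
      _ = (e : G) * (e1 * z) * (z * e2) * z := by rw [hzc _ (cE_le z e1.2)]
      _ = (e : G) * e1 * (z * z) * e2 * z := by group
      _ = _ := by rw [z_sq D.hJ]; group
  rw [hexp] at hcz
  exact z_ne D.hJ (mul_eq_left.1 hcz)

/-- The commutator of an element of `E` and an element centralizing `z`. -/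
def brk (u : G) (f : ↥(cE z)) (hu : u ∈ cH z) : ↥(cE z) :=
  ⟨(f : G) * u * (f : G)⁻¹ * u⁻¹, by
    rw [show (f : G) * u * (f : G)⁻¹ * u⁻¹ = (f : G) * (u * (f : G)⁻¹ * u⁻¹) by group]
    exact mul_mem f.2 (cE_conj hu (inv_mem f.2))⟩

theorem mk_brk (D : HData z P) (c : ↥(cC z P)) (f : ↥(cE z)) :
    mk (brk (c : G) f c.2.1) = c • mk f + mk f := by
  have e : brk (c : G) f c.2.1 = f * cEAut (c : G) c.2.1 f⁻¹ := Subtype.ext (by
    show (f : G) * (c : G) * (f : G)⁻¹ * (c : G)⁻¹ = (f : G) * ((c : G) * (f : G)⁻¹ * (c : G)⁻¹)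
    group)
  rw [e, mk_mul, ← smul_mk, mk_inv D, add_comm]

theorem brk_mul (u : G) (e f : ↥(cE z)) (hu : u ∈ cH z) :
    ((brk u (e * f) hu : ↥(cE z)) : G) = (e : G) * (brk u f hu : G) * (e : G)⁻¹ * (brk u e hu : G) := by
  show ((e * f : ↥(cE z)) : G) * u * ((e * f : ↥(cE z)) : G)⁻¹ * u⁻¹ =
    (e : G) * ((f : G) * u * (f : G)⁻¹ * u⁻¹) * (e : G)⁻¹ * ((e : G) * u * (e : G)⁻¹ * u⁻¹)
  rw [Subgroup.coe_mul]; group

/-- The elements over the commutator space of an involution of `C` square to one. -/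
theorem sq_of_rng [Finite G] (D : HData z P) {c : ↥(cC z P)} (h2 : (c : G) * c = 1) {e : ↥(cE z)}
    (he : mk e ∈ JMod.rng (V := cV z) c) : (e : G) * e = 1 := by
  obtain ⟨v, hv⟩ := he
  obtain ⟨f, rfl⟩ := mk_surjective v
  have hv' : c • mk f + mk f = mk e := hv
  rw [← mk_brk D] at hv'
  obtain ⟨w, hw⟩ : ∃ w, w = brk (c : G) f c.2.1 := ⟨_, rfl⟩
  rw [← hw] at hv'
  have hcc : c * c = 1 := Subtype.ext h2
  have hwfix : mk w ∈ fixElt (V := cV z) c := by
    show c • mk w = mk w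
    rw [hw, mk_brk D, smul_add, ← mul_smul, hcc, one_smul, add_comm]
  have hcomm := commute_of_fix D h2 hwfix
  have hinv : (c : G) * (w : G) * (c : G)⁻¹ = (w : G)⁻¹ := by
    have hci : (c : G)⁻¹ = c := inv_eq_of_mul_eq_one_right h2
    rw [hw]
    show (c : G) * ((f : G) * (c : G) * (f : G)⁻¹ * (c : G)⁻¹) * (c : G)⁻¹ =
      ((f : G) * (c : G) * (f : G)⁻¹ * (c : G)⁻¹)⁻¹
    simp only [mul_inv_rev, inv_inv, hci]
    rw [show (c : G) * ((f : G) * (c : G) * (f : G)⁻¹ * (c : G)) * (c : G) =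
      (c : G) * ((f : G) * (c : G) * (f : G)⁻¹) * ((c : G) * (c : G)) by group, h2]
    group
  rw [hcomm.eq, mul_inv_cancel_right] at hinv
  have hww : (w : G) * w = 1 := by
    conv_lhs => arg 2; rw [hinv]
    exact mul_inv_cancel _
  rcases (mk_eq D.hJ).1 hv' with h | h
  · rw [h, hww]
  · have hz : (w : G) * z = z * w := Subgroup.mem_centralizer_singleton_iff.1 (cE_le z w.2)
    rw [h, show (w : G) * z * (w * z) = (w : G) * (z * w) * z by group, ← hz,
      show (w : G) * (w * z) * z = (w : G) * w * (z * z) by group, hww, z_sq D.hJ, one_mul]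

/-- A conjugate of `z` in `C` other than `z` gives one in `E`. -/
theorem exists_conj_mem_cE [Finite G] (D : HData z P) {g : G} (hC : g * z * g⁻¹ ∈ cC z P)
    (hne : g * z * g⁻¹ ≠ z) : ∃ k : G, k * z * k⁻¹ ∈ cE z ∧ k * z * k⁻¹ ≠ z := by
  classical
  by_contra hno
  push Not at hno
  obtain ⟨F⟩ := exists_mFacts
  obtain ⟨L⟩ := D.toJMod.exists_lifts F
  have := D.toJMod.finiteV
  obtain ⟨c, hc⟩ : ∃ c : ↥(cC z P), (c : G) = g * z * g⁻¹ := ⟨⟨_, hC⟩, rfl⟩
  have h2 : (c : G) * c = 1 := by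
    rw [hc, show g * z * g⁻¹ * (g * z * g⁻¹) = g * (z * z) * g⁻¹ by group, z_sq D.hJ]; group
  have hcc : c * c = 1 := Subtype.ext h2
  have hπ : D.π c ≠ 1 := fun h => by
    rcases D.ker_two h hcc with h' | h'
    · rw [hc] at h'; exact z_ne D.hJ (by simpa using h')
    · exact hne (hc ▸ h')
  have hπ2 : D.toJMod.π c * D.toJMod.π c = 1 := by rw [← map_mul, hcc, map_one]
  have h4 : c ^ 4 = 1 := by rw [show (4 : ℕ) = 2 * 2 from rfl, pow_mul, pow_two c, hcc, one_pow]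
  have hfix := D.toJMod.card_fixElt L hπ2 hπ h4
  obtain ⟨hperp, hperp', hrng⟩ := D.toJMod.perp_fixElt L hπ2 hπ h4
  have hrf : ∀ v ∈ JMod.rng (V := cV z) c, v ∈ fixElt (V := cV z) c := by
    rintro _ ⟨v, rfl⟩
    show c • (c • v + v) = c • v + v
    rw [smul_add, ← mul_smul, hcc, one_smul, add_comm]
  -- the preimage of the fixed space
  obtain ⟨Ds, hDs⟩ : ∃ Ds, Ds = (pre (fixElt (V := cV z) c)).map (cE z).subtype := ⟨_, rfl⟩
  have cardDs : Nat.card ↥Ds = 512 := by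
    rw [hDs, Nat.card_congr (Subgroup.equivMapOfInjective _ _ (Subgroup.subtype_injective _)).symm.toEquiv,
      card_pre D.hJ, hfix]
    norm_num
  have memDs : ∀ d ∈ Ds, ∃ h : d ∈ cE z, mk ⟨d, h⟩ ∈ fixElt (V := cV z) c := by
    intro d hd
    rw [hDs] at hd
    obtain ⟨e, he, rfl⟩ := hd
    exact ⟨e.2, he⟩
  have toDs : ∀ e : ↥(cE z), mk e ∈ fixElt (V := cV z) c → (e : G) ∈ Ds :=
    fun e he => hDs ▸ ⟨e, he, rfl⟩
  have hcD : ∀ d ∈ Ds, Commute (g * z * g⁻¹) d := fun d hd => by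
    obtain ⟨h, hd'⟩ := memDs d hd
    exact hc ▸ commute_of_fix D h2 hd'
  have hσ : ∀ d ∈ Ds, g⁻¹ * d * g ∈ cH z := fun d hd => by
    refine Subgroup.mem_centralizer_singleton_iff.2 ?_
    have := (hcD d hd).eq
    calc g⁻¹ * d * g * z = g⁻¹ * (d * (g * z * g⁻¹)) * g := by group
      _ = g⁻¹ * (g * z * g⁻¹ * d) * g := by rw [this]
      _ = z * (g⁻¹ * d * g) := by group
  let ρ : ↥Ds →* ↥(cH z) :=
    { toFun := fun d => ⟨g⁻¹ * (d : G) * g, hσ d d.2⟩
      map_one' := Subtype.ext (by simp)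
      map_mul' := fun a b => Subtype.ext (by simp [mul_assoc]) }
  obtain ⟨θ, hθ⟩ : ∃ θ : ↥Ds →* MulAut M22t, θ = D.φ.comp ρ := ⟨_, rfl⟩
  have pow4 : ∀ d ∈ Ds, d ^ 4 = 1 := fun d hd => by
    obtain ⟨h, -⟩ := memDs d hd
    rw [show (4 : ℕ) = 2 * 2 from rfl, pow_mul, pow_two d]
    rcases sq_or D.hJ ⟨d, h⟩ with e | e <;> rw [e]
    · exact one_pow 2
    · rw [pow_two, z_sq D.hJ]
  have kerI : ∀ d : ↥Ds, θ d = 1 ↔ g⁻¹ * (d : G) * g ∈ cE z := by
    intro d
    rw [hθ]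
    refine ⟨fun h => ?_, fun h => D.φ_cE h⟩
    obtain ⟨e, he, q, hq, heq⟩ := (D.φ_eq _).1 h
    replace heq : g⁻¹ * (d : G) * g = e * q := heq
    have hqH : q ∈ cH z := by
      rw [show q = e⁻¹ * (g⁻¹ * (d : G) * g) by rw [heq]; group]
      exact mul_mem (inv_mem (cE_le z he)) (hσ d d.2)
    have hq3 : q ^ 3 = 1 := by
      rcases (D.mem_P q).1 hq with rfl | rfl | rfl
      · simp
      · exact D.p3
      · rw [← pow_two, ← pow_mul, show 2 * 3 = 3 * 2 from rfl, pow_mul, D.p3, one_pow]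
    have h4' : (e * q) ^ 4 = 1 := by
      rw [← heq, show g⁻¹ * (d : G) * g = g⁻¹ * (d : G) * g⁻¹⁻¹ by rw [inv_inv], conj_pow, pow4 _ d.2]
      group
    obtain ⟨e1, he1⟩ : ∃ e1, e1 = e * (q * e * q⁻¹) := ⟨_, rfl⟩
    have he1' : e1 ∈ cE z := he1 ▸ mul_mem he (cE_conj hqH he)
    have hq4 : q ∈ cE z := by
      have e4 : (e * q) ^ 4 = e1 * (q * q * e1 * (q * q)⁻¹) * q ^ 4 := by
        rw [he1]; simp only [pow_succ, pow_zero, one_mul]; group
      rw [h4', show q ^ 4 = q by rw [pow_succ, hq3, one_mul]] at e4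
      rw [show q = (e1 * (q * q * e1 * (q * q)⁻¹))⁻¹ by
        rw [eq_inv_iff_mul_eq_one, ← mul_eq_one_comm]; exact e4.symm]
      exact inv_mem (mul_mem he1' (cE_conj (mul_mem hqH hqH) he1'))
    have hqP : q ∈ Subgroup.centralizer (P : Set G) := by
      refine Subgroup.mem_centralizer_iff.2 fun x hx => ?_
      rcases (D.mem_P x).1 hx with rfl | rfl | rfl <;>
        rcases (D.mem_P q).1 hq with rfl | rfl | rfl <;> simp [mul_assoc]
    rw [heq]
    rcases mem_zpowers_z D.hJ ((centE D.hJ).le ⟨hq4, hqP⟩) with h' | h'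
    · rw [h', mul_one]; exact he
    · rw [h']; exact mul_mem he (z_mem D.hJ)
  have hzno : ¬ (g⁻¹ * z * g ∈ cE z) := fun h => by
    have := hno g⁻¹ (by rwa [inv_inv])
    rw [inv_inv] at this
    apply hne
    calc g * z * g⁻¹ = g * (g⁻¹ * z * g) * g⁻¹ := by rw [this]
      _ = z := by group
  have zDs : z ∈ Ds := toDs ⟨z, z_mem D.hJ⟩ (by
    rw [(mk_eq_zero D.hJ (e := ⟨z, z_mem D.hJ⟩)).2 (Or.inr rfl)]; exact zero_mem _)
  -- the image of `I` in the module
  let κ : ↥θ.ker →* Multiplicative (cV z) :=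
    { toFun := fun d => Multiplicative.ofAdd (mk ⟨((d : ↥Ds) : G), (memDs _ (d : ↥Ds).2).1⟩)
      map_one' := congrArg Multiplicative.ofAdd mk_one
      map_mul' := fun a b => congrArg Multiplicative.ofAdd (mk_mul ⟨_, (memDs _ (a : ↥Ds).2).1⟩ ⟨_, (memDs _ (b : ↥Ds).2).1⟩) }
  let Ib : AddSubgroup (cV z) := κ.range.toAddSubgroup'
  have memIb : ∀ v, v ∈ Ib ↔ ∃ (d : ↥Ds) (h : (d : G) ∈ cE z), θ d = 1 ∧ mk ⟨(d : G), h⟩ = v := by
    intro v
    constructor
    · rintro ⟨d, hd⟩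
      exact ⟨d, (memDs _ (d : ↥Ds).2).1, d.2, hd⟩
    · rintro ⟨d, h, hd, rfl⟩
      exact ⟨⟨d, hd⟩, rfl⟩
  have κinj : Function.Injective κ := by
    rw [injective_iff_map_eq_one]
    intro d hd
    have h0 : mk (⟨((d : ↥Ds) : G), (memDs _ (d : ↥Ds).2).1⟩ : ↥(cE z)) = 0 := hd
    rcases (mk_eq_zero D.hJ).1 h0 with h | h
    · exact Subtype.ext (Subtype.ext h)
    · exfalso
      have := (kerI (d : ↥Ds)).1 d.2
      rw [show ((d : ↥Ds) : G) = z from h] at this
      exact hzno this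
  have cardI : Nat.card ↥θ.ker = Nat.card ↥Ib :=
    Nat.card_congr (MonoidHom.ofInjective κinj).toEquiv
  have Ib_rng : ∀ v ∈ Ib, v ∈ JMod.rng (V := cV z) c := by
    intro v hv
    obtain ⟨d, hd, hd1, rfl⟩ := (memIb v).1 hv
    rw [hperp]
    intro s hs
    obtain ⟨f, rfl⟩ := mk_surjective s
    refine pair_eq_zero.2 ?_
    rcases comm_or D.hJ ⟨(d : G), hd⟩ f with h | h
    · exact Subtype.ext (by
        have := mul_inv_eq_one.1 h
        exact mul_inv_eq_iff_eq_mul.1 this)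
    · exfalso
      apply hzno
      have hdE := (kerI d).1 hd1
      have hfH := hσ _ (toDs f hs)
      have : g⁻¹ * z * g = (g⁻¹ * (d : G) * g) * ((g⁻¹ * (f : G) * g) * (g⁻¹ * (d : G) * g)⁻¹ * (g⁻¹ * (f : G) * g)⁻¹) := by
        calc g⁻¹ * z * g = g⁻¹ * ((d : G) * (f : G) * (d : G)⁻¹ * (f : G)⁻¹) * g := by
              rw [show (d : G) * (f : G) * (d : G)⁻¹ * (f : G)⁻¹ = z from h]
          _ = _ := by group
      rw [this]
      exact mul_mem hdE (cE_conj hfH (inv_mem hdE))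
  have Ib_ω : ∀ v ∈ Ib, D.toJMod.ω • v ∈ Ib := by
    intro v hv
    obtain ⟨d, hd, hd1, rfl⟩ := (memIb v).1 hv
    have hfd := (memDs _ d.2).2
    have hmem : D.p * (d : G) * D.p⁻¹ ∈ Ds :=
      toDs (cEAut D.p D.pH ⟨(d : G), hd⟩) (by
        rw [← D.smul_p_mk]; exact D.toJMod.fixElt_ω c _ hfd)
    refine (memIb _).2 ⟨⟨_, hmem⟩, cE_conj D.pH hd, (kerI _).2 ?_, rfl⟩
    show g⁻¹ * (D.p * (d : G) * D.p⁻¹) * g ∈ cE z
    have hp' : g⁻¹ * D.p * g ∈ cH z := by
      refine Subgroup.mem_centralizer_singleton_iff.2 ?_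
      have := D.comm_p ⟨_, hC⟩
      calc g⁻¹ * D.p * g * z = g⁻¹ * (D.p * (g * z * g⁻¹)) * g := by group
        _ = g⁻¹ * (g * z * g⁻¹ * D.p) * g := by rw [this]
        _ = z * (g⁻¹ * D.p * g) := by group
    rw [show g⁻¹ * (D.p * (d : G) * D.p⁻¹) * g =
      g⁻¹ * D.p * g * (g⁻¹ * (d : G) * g) * (g⁻¹ * D.p * g)⁻¹ by group]
    exact cE_conj hp' ((kerI d).1 hd1)
  -- it has order at most four
  have hkey : ∀ f : ↥(cE z), g⁻¹ * (brk (c : G) f c.2.1 : G) * g ∈ cE z → (brk (c : G) f c.2.1 : G) = 1 := by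
    intro f hf
    have h := mul_mem hf (z_mem D.hJ)
    have e : g⁻¹ * (brk (c : G) f c.2.1 : G) * g * z = g⁻¹ * (f : G) * g * z * (g⁻¹ * (f : G) * g)⁻¹ := by
      show g⁻¹ * ((f : G) * (c : G) * (f : G)⁻¹ * (c : G)⁻¹) * g * z = _
      rw [hc]; group
    rw [e] at h
    have hz' := hno _ h
    show (f : G) * (c : G) * (f : G)⁻¹ * (c : G)⁻¹ = 1
    rw [hc]
    calc (f : G) * (g * z * g⁻¹) * (f : G)⁻¹ * (g * z * g⁻¹)⁻¹
        = g * (g⁻¹ * (f : G) * g * z * (g⁻¹ * (f : G) * g)⁻¹) * z⁻¹ * g⁻¹ := by group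
      _ = 1 := by rw [hz']; group
  have hIb : Nat.card ↥Ib ≤ 4 := by
    by_contra hbig
    push Not at hbig
    have hpick : ∀ l : List (cV z), l.length ≤ 4 → ∃ w ∈ Ib, w ∉ l := by
      intro l hl
      by_contra hcon
      push Not at hcon
      have hle : Nat.card ↥Ib ≤ l.length := by
        refine le_trans ?_ (List.toFinset_card_le l)
        rw [← SetLike.coe_sort_coe, Nat.card_coe_set_eq, ← Set.ncard_coe_finset]
        exact Set.ncard_le_ncard (fun w hw => List.mem_toFinset.2 (hcon w hw)) (Finset.finite_toSet _)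
      omega
    obtain ⟨w1, hw1, hw1'⟩ := hpick [0] (by simp)
    obtain ⟨w2, hw2, hw2'⟩ := hpick [0, w1] (by simp)
    obtain ⟨w3, hw3, hw3'⟩ := hpick [0, w1, w2, w1 + w2] (by simp)
    simp only [List.mem_cons, List.not_mem_nil, or_false, not_or] at hw1' hw2' hw3'
    have lift : ∀ w ∈ Ib, w ≠ 0 → ∀ f : ↥(cE z), mk (brk (c : G) f c.2.1) = w →
        ∃ d : ↥Ds, θ d = 1 ∧ (d : G) = (brk (c : G) f c.2.1 : G) * z ∧
          ∃ h : (d : G) ∈ cE z, mk ⟨(d : G), h⟩ = w := by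
      intro w hw hw0 f hf
      obtain ⟨d, hd, hd1, hdw⟩ := (memIb w).1 hw
      refine ⟨d, hd1, ?_, hd, hdw⟩
      rcases (mk_eq D.hJ).1 (hf.trans hdw.symm) with h | h
      · exfalso
        have h1 := hkey f (by rw [← show (d : G) = _ from h]; exact (kerI d).1 hd1)
        apply hw0
        rw [← hdw]
        exact (mk_eq_zero D.hJ).2 (Or.inl ((show (d : G) = _ from h).trans h1))
      · exact h
    obtain ⟨v1, hv1⟩ := Ib_rng w1 hw1
    obtain ⟨e, rfl⟩ := mk_surjective v1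
    have he : mk (brk (c : G) e c.2.1) = w1 := (mk_brk D c e).trans hv1
    have one : ∀ w ∈ Ib, w ≠ 0 → w ≠ w1 → form D.hJ (mk e) w = 1 := by
      intro w hw hw0 hwne
      obtain ⟨v, hv⟩ := Ib_rng w hw
      obtain ⟨f, rfl⟩ := mk_surjective v
      have hf : mk (brk (c : G) f c.2.1) = w := (mk_brk D c f).trans hv
      obtain ⟨de, hde1, hde, -, -⟩ := lift w1 hw1 hw1' e he
      obtain ⟨df, hdf1, hdf, -, -⟩ := lift w hw hw0 f hf
      have hsum : mk (brk (c : G) (e * f) c.2.1) = w1 + w := by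
        rw [mk_brk D, mk_mul, smul_add, ← he, ← hf, mk_brk D, mk_brk D]; abel
      obtain ⟨dp, hdp1, hdp, hdpE, hdpw⟩ := lift (w1 + w) (add_mem hw1 hw)
        (fun h => hwne (by rw [add_eq_zero_iff_eq_neg, D.toJMod.neg_eq] at h; exact h.symm)) (e * f) hsum
      have hprod : de * df = dp := by
        have hk : de * df * dp⁻¹ = 1 := by
          have hm : θ (de * df * dp⁻¹) = 1 := by
            rw [map_mul, map_mul, map_inv, hde1, hdf1, hdp1]; simp
          have h0 : κ ⟨de * df * dp⁻¹, hm⟩ = 1 := by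
            show Multiplicative.ofAdd (mk (⟨((de * df * dp⁻¹ : ↥Ds) : G), _⟩ : ↥(cE z))) = 1
            have hE1 := (memDs _ de.2).1
            have hE2 := (memDs _ df.2).1
            rw [show (⟨((de * df * dp⁻¹ : ↥Ds) : G), (memDs _ (de * df * dp⁻¹).2).1⟩ : ↥(cE z)) =
              ⟨(de : G), hE1⟩ * ⟨(df : G), hE2⟩ * (⟨(dp : G), hdpE⟩ : ↥(cE z))⁻¹ from Subtype.ext rfl,
              mk_mul, mk_mul, mk_inv D, hdpw]
            have a1 : mk (⟨(de : G), hE1⟩ : ↥(cE z)) = w1 := by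
              rw [← he, mk_eq D.hJ]; right
              show (brk (c : G) e c.2.1 : G) = (de : G) * z
              rw [hde, mul_assoc, z_sq D.hJ, mul_one]
            have a2 : mk (⟨(df : G), hE2⟩ : ↥(cE z)) = w := by
              rw [← hf, mk_eq D.hJ]; right
              show (brk (c : G) f c.2.1 : G) = (df : G) * z
              rw [hdf, mul_assoc, z_sq D.hJ, mul_one]
            rw [a1, a2, cV_two D.hJ (w1 + w)]; rfl
          exact congrArg Subtype.val (κinj (h0.trans κ.map_one.symm))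
        exact mul_inv_eq_one.1 hk
      show form D.hJ (mk e) w = 1
      rw [← hf, form_mk]
      refine if_neg fun hcom => ?_
      have hcom' : Commute (e : G) (brk (c : G) f c.2.1 : G) := congrArg Subtype.val hcom.eq
      have hz1 : ∀ x : ↥(cE z), z * (x : G) = (x : G) * z := fun x =>
        (Subgroup.mem_centralizer_singleton_iff.1 (cE_le z x.2)).symm
      have hcomm2 : Commute (brk (c : G) e c.2.1 : G) (brk (c : G) f c.2.1 : G) := by
        have : form D.hJ (mk (brk (c : G) e c.2.1)) (mk (brk (c : G) f c.2.1)) = 0 := by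
          rw [he, hf]
          exact ((hperp ▸ Ib_rng w1 hw1 : w1 ∈ perpOf D.toJMod.β (fixElt c))) w (hrf _ (Ib_rng w hw))
        exact congrArg Subtype.val (pair_eq_zero.1 this).eq
      have hval := congrArg (Subtype.val : ↥Ds → G) hprod
      rw [Subgroup.coe_mul, hdp, hde, hdf, brk_mul, hcom'.eq, mul_inv_cancel_right,
        show (brk (c : G) e c.2.1 : G) * z * ((brk (c : G) f c.2.1 : G) * z) =
          (brk (c : G) e c.2.1 : G) * (z * (brk (c : G) f c.2.1 : G)) * z by group,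
        hz1, show (brk (c : G) e c.2.1 : G) * ((brk (c : G) f c.2.1 : G) * z) * z =
          (brk (c : G) e c.2.1 : G) * (brk (c : G) f c.2.1 : G) * (z * z) by group,
        z_sq D.hJ, mul_one, hcomm2.eq] at hval
      exact z_ne D.hJ (mul_eq_left.1 hval.symm)
    have e2 := one w2 hw2 hw2'.1 hw2'.2
    have e3 := one w3 hw3 hw3'.1 hw3'.2.1
    have e23 := one (w2 + w3) (add_mem hw2 hw3)
      (fun h => hw3'.2.2.1 (by rw [add_eq_zero_iff_eq_neg, D.toJMod.neg_eq] at h; exact h.symm))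
      (fun h => hw3'.2.2.2 (by
        rw [← h, add_right_comm, cV_two D.hJ w2, zero_add]))
    rw [map_add, e2, e3] at e23
    exact absurd e23 (by decide)
  -- so the image of `Ds` is a Sylow subgroup of M22 normalized by `y`
  have hrange : 128 ≤ Nat.card ↥θ.range := by
    have h := θ.ker.card_mul_index
    rw [Subgroup.index_ker, cardDs, cardI] at h
    nlinarith [hIb, h]
  obtain ⟨y, hy⟩ : ∃ y, y = g⁻¹ * D.p * g := ⟨_, rfl⟩
  have hyH : y ∈ cH z := by
    rw [hy]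
    refine Subgroup.mem_centralizer_singleton_iff.2 ?_
    have := D.comm_p ⟨_, hC⟩
    calc g⁻¹ * D.p * g * z = g⁻¹ * (D.p * (g * z * g⁻¹)) * g := by group
      _ = g⁻¹ * (g * z * g⁻¹ * D.p) * g := by rw [this]
      _ = z * (g⁻¹ * D.p * g) := by group
  have hy3 : y ^ 3 = 1 := by
    rw [hy, show g⁻¹ * D.p * g = g⁻¹ * D.p * g⁻¹⁻¹ by rw [inv_inv], conj_pow, D.p3]; group
  have hyi : D.Inner14 y := by
    by_contra h
    have h1 := inner14_mul_not D hyH hyH h h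
    have h2' := D.inner14_mul h1 h1
    rw [show y * y * (y * y) = y ^ 3 * y by simp [pow_succ, mul_assoc], hy3, one_mul] at h2'
    exact h h2'
  obtain ⟨m, hm⟩ := (D.inner14_iff ⟨y, hyH⟩).1 hyi
  have hcomm_inner : ∀ a ∈ Ds, ∀ b : G, ∀ hb : g⁻¹ * b * g ∈ cH z, ∀ hab : b * a * b⁻¹ * a⁻¹ ∈ Ds,
      θ ⟨_, hab⟩ ∈ Inn M22t := by
    intro a ha b hb hab
    rw [hθ]
    refine (D.inner14_iff _).1 ?_
    show D.Inner14 (g⁻¹ * (b * a * b⁻¹ * a⁻¹) * g)
    rw [show g⁻¹ * (b * a * b⁻¹ * a⁻¹) * g =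
      g⁻¹ * b * g * (g⁻¹ * a * g) * (g⁻¹ * b * g)⁻¹ * (g⁻¹ * a * g)⁻¹ by group]
    exact inner14_commutator D hb (hσ a ha)
  have hωfix : ∀ v ∈ fixElt (V := cV z) c, D.toJMod.ω • v ∈ fixElt (V := cV z) c := D.toJMod.fixElt_ω c
  have hzinn : θ ⟨z, zDs⟩ ∈ Inn M22t := by
    have hex : ∃ a b : ↥(cE z), mk a ∈ fixElt (V := cV z) c ∧ mk b ∈ fixElt (V := cV z) c ∧
        (b : G) * a * (b : G)⁻¹ * (a : G)⁻¹ = z := by
      by_contra hcon
      push Not at hcon
      have hsub : fixElt (V := cV z) c ≤ perpOf D.toJMod.β (fixElt c) := by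
        intro v hv s hs
        obtain ⟨a, rfl⟩ := mk_surjective v
        obtain ⟨b, rfl⟩ := mk_surjective s
        refine pair_eq_zero.2 ?_
        rcases comm_or D.hJ b a with h | h
        · exact (Subtype.ext (mul_inv_eq_iff_eq_mul.1 (mul_inv_eq_one.1 h)) : Commute b a).symm
        · exact absurd h (hcon a b hv hs)
      have := AddSubgroup.card_le_of_le hsub
      rw [← hperp, hrng, hfix] at this
      norm_num at this
    obtain ⟨a, b, ha, hb, hab⟩ := hex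
    have hmem : (b : G) * a * (b : G)⁻¹ * (a : G)⁻¹ ∈ Ds := by rw [hab]; exact zDs
    have := hcomm_inner (a : G) (toDs a ha) (b : G) (hσ _ (toDs b hb)) hmem
    rwa [show (⟨_, hmem⟩ : ↥Ds) = ⟨z, zDs⟩ from Subtype.ext hab] at this
  have hinner : ∀ d : ↥Ds, θ d ∈ Inn M22t := by
    intro d
    obtain ⟨hdE, hdf⟩ := memDs _ d.2
    obtain ⟨f, hf⟩ : ∃ f, f = cEAut D.p D.pH ⟨(d : G), hdE⟩ := ⟨_, rfl⟩
    have hff : mk f ∈ fixElt (V := cV z) c := by rw [hf, ← D.smul_p_mk]; exact hωfix _ hdf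
    obtain ⟨k, hk⟩ : ∃ k, k = cEAut D.p D.pH f * f⁻¹ := ⟨_, rfl⟩
    have hmk : mk k = mk ⟨(d : G), hdE⟩ := by
      rw [hk, mk_mul, mk_inv D, ← D.smul_p_mk, hf, ← D.smul_p_mk]
      have := D.toJMod.ω_sum (mk ⟨(d : G), hdE⟩)
      rw [add_eq_zero_iff_eq_neg, D.toJMod.neg_eq] at this
      calc D.toJMod.ω • D.toJMod.ω • mk (⟨(d : G), hdE⟩ : ↥(cE z)) + D.toJMod.ω • mk (⟨(d : G), hdE⟩ : ↥(cE z))
          = mk (⟨(d : G), hdE⟩ : ↥(cE z)) + D.toJMod.ω • mk (⟨(d : G), hdE⟩ : ↥(cE z))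
            + D.toJMod.ω • mk (⟨(d : G), hdE⟩ : ↥(cE z)) := by rw [this]; 
        _ = mk (⟨(d : G), hdE⟩ : ↥(cE z)) := by rw [add_assoc, cV_two D.hJ, add_zero]
    have hkD : (k : G) ∈ Ds := toDs k (hmk ▸ hdf)
    have hpD : g⁻¹ * D.p * g ∈ cH z := hy ▸ hyH
    have hki : θ ⟨(k : G), hkD⟩ ∈ Inn M22t := by
      have e : D.p * (f : G) * D.p⁻¹ * (f : G)⁻¹ = (k : G) := by rw [hk]; rfl
      have hmem : D.p * (f : G) * D.p⁻¹ * (f : G)⁻¹ ∈ Ds := by rw [e]; exact hkD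
      have := hcomm_inner (f : G) (toDs f hff) D.p hpD hmem
      rwa [show (⟨_, hmem⟩ : ↥Ds) = ⟨(k : G), hkD⟩ from Subtype.ext e] at this
    rcases (mk_eq D.hJ).1 hmk with h | h
    · rwa [show d = ⟨(k : G), hkD⟩ from Subtype.ext h]
    · rw [show d = ⟨(k : G), hkD⟩ * ⟨z, zDs⟩ from Subtype.ext h, map_mul]
      exact mul_mem hki hzinn
  obtain ⟨S, hS⟩ : ∃ S, S = θ.range.comap (MulAut.conj : M22t →* MulAut M22t) := ⟨_, rfl⟩
  have hconj : ∀ d : ↥Ds, ∃ s ∈ S, MulAut.conj s = θ d := fun d => by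
    obtain ⟨s, hs⟩ := hinner d
    exact ⟨s, hS ▸ ⟨d, hs.symm⟩, hs⟩
  have hScard : Nat.card ↥S = Nat.card ↥θ.range := by
    rw [← Nat.card_congr (Subgroup.equivMapOfInjective S _ m22_conj_injective).symm.toEquiv]
    refine congrArg (fun H : Subgroup (MulAut M22t) => Nat.card H) ?_
    rw [hS]
    refine Subgroup.map_comap_eq_self ?_
    rintro _ ⟨d, rfl⟩
    exact hinner d
  have hSp : IsPGroup 2 S := by
    have hD2 : IsPGroup 2 ↥Ds := IsPGroup.of_card (n := 9) (by rw [cardDs]; norm_num)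
    have hR2 : IsPGroup 2 ↥θ.range := hD2.of_surjective θ.rangeRestrict θ.rangeRestrict_surjective
    obtain ⟨n, hn⟩ := hR2.exists_card_eq
    exact IsPGroup.of_card (n := n) (hScard.trans hn)
  have hS128 : Nat.card ↥S = 2 ^ (Nat.card M22t).factorization 2 := by
    obtain ⟨n, hn⟩ := hSp.exists_card_eq
    have hdvd : Nat.card ↥S ∣ Nat.card M22t := S.card_subgroup_dvd_card
    rw [m22_card, hn] at hdvd
    have h7 : n ≤ 7 := by
      by_contra h
      push Not at h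
      exact absurd ((pow_dvd_pow 2 (show 8 ≤ n by omega)).trans hdvd) (by norm_num)
    have h7' : 7 ≤ n := (Nat.pow_le_pow_iff_right (by norm_num : 1 < 2)).1 (by
      rw [← hn, hScard]; simpa using hrange)
    rw [hn, m22_card, show (443520 : ℕ) = 2 ^ 7 * 3465 by norm_num, Nat.factorization_mul (by norm_num) (by norm_num),
      Nat.Prime.factorization_pow Nat.prime_two]
    simp [Nat.factorization_eq_zero_of_not_dvd (by norm_num : ¬ 2 ∣ 3465), show n = 7 by omega]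
  -- a good subgroup inside `S`
  obtain ⟨U, hUgood, hUS⟩ : ∃ U : Subgroup M22t, D.toJMod.Good U ∧ U ≤ S := by
    have : Fact (Nat.Prime 2) := ⟨Nat.prime_two⟩
    obtain ⟨T, hT⟩ := (IsPGroup.of_card (p := 2) (n := 4) (by rw [F.card0]; norm_num : Nat.card ↥F.U0 = 2 ^ 4)).exists_le_sylow
    obtain ⟨a, ha⟩ := MulAction.exists_smul_eq M22t T (Sylow.ofCard S hS128)
    obtain ⟨a', rfl⟩ := D.πsurj a
    refine ⟨_, D.toJMod.good_map L (D.toJMod.good_U0 L) a', ?_⟩
    rintro _ ⟨x, hx, rfl⟩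
    have : D.π a' * x * (D.π a')⁻¹ ∈ ((D.π a' • T : Sylow 2 M22t) : Subgroup M22t) :=
      Subgroup.smul_mem_pointwise_smul x (MulAut.conj (D.π a')) (T : Subgroup M22t) (hT hx)
    rw [ha] at this
    exact this
  have hmS : ∀ d : ↥Ds, ∀ s : M22t, MulAut.conj s = θ d →
      ∃ h : D.p * (d : G) * D.p⁻¹ ∈ Ds, MulAut.conj (m * s * m⁻¹) = θ ⟨_, h⟩ := by
    intro d s hs
    obtain ⟨hdE, hdf⟩ := memDs _ d.2
    have hmem : D.p * (d : G) * D.p⁻¹ ∈ Ds :=
      toDs (cEAut D.p D.pH ⟨(d : G), hdE⟩) (by rw [← D.smul_p_mk]; exact hωfix _ hdf)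
    refine ⟨hmem, ?_⟩
    rw [map_mul, map_mul, map_inv, hs, hm, hθ]
    show D.φ _ * D.φ (ρ d) * (D.φ _)⁻¹ = D.φ (ρ _)
    rw [← map_inv, ← map_mul, ← map_mul]
    congr 1
    refine Subtype.ext ?_
    show y * (g⁻¹ * (d : G) * g) * y⁻¹ = g⁻¹ * (D.p * (d : G) * D.p⁻¹) * g
    rw [hy]; group
  have hminv : ∀ s ∈ S, m * s * m⁻¹ ∈ S := by
    intro s hs
    rw [hS] at hs ⊢
    obtain ⟨d, hd⟩ := hs
    obtain ⟨h, hh⟩ := hmS d s hd.symm
    exact ⟨_, hh.symm⟩
  have hUm : ∀ u ∈ U, m * u * m⁻¹ ∈ U := by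
    intro u hu
    obtain ⟨m', rfl⟩ := D.πsurj m
    have := D.toJMod.good_unique L hUgood (D.toJMod.good_map L hUgood m') hSp hUS
      (by rintro _ ⟨x, hx, rfl⟩; exact hminv x (hUS hx))
    rw [this]
    exact ⟨u, hu, rfl⟩
  obtain ⟨s0, hs0S, hs0⟩ := hconj ⟨z, zDs⟩
  have hs0sq : s0 * s0 = 1 := m22_conj_injective (by
    rw [map_mul, hs0, map_one, ← map_mul, show (⟨z, zDs⟩ : ↥Ds) * ⟨z, zDs⟩ = 1 from Subtype.ext (z_sq D.hJ),
      map_one])
  have hs0c : ∀ s ∈ S, s * s0 = s0 * s := by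
    intro s hs
    rw [hS] at hs
    obtain ⟨d, hd⟩ := hs
    apply m22_conj_injective
    rw [map_mul, map_mul, hs0, ← hd, ← map_mul, ← map_mul]
    congr 1
    exact Subtype.ext (Subgroup.mem_centralizer_singleton_iff.1 (cE_le z (memDs _ d.2).1))
  have hfixed : ∀ s ∈ S, m * s * m⁻¹ = s → s = 1 ∨ s = s0 := by
    intro s hs hms
    rw [hS] at hs
    obtain ⟨d, hd⟩ := hs
    obtain ⟨h, hh⟩ := hmS d s hd.symm
    rw [hms] at hh
    have hk : θ (⟨_, h⟩ * d⁻¹) = 1 := by rw [map_mul, map_inv, ← hh, hd]; exact mul_inv_cancel _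
    obtain ⟨hdE, hdf⟩ := memDs _ d.2
    have hv : D.toJMod.ω • mk (⟨(d : G), hdE⟩ : ↥(cE z)) + mk (⟨(d : G), hdE⟩ : ↥(cE z)) ∈ Ib := by
      refine (memIb _).2 ⟨_, mul_mem (cE_conj D.pH hdE) (inv_mem hdE), hk, ?_⟩
      rw [show (⟨((⟨_, h⟩ * d⁻¹ : ↥Ds) : G), mul_mem (cE_conj D.pH hdE) (inv_mem hdE)⟩ : ↥(cE z)) =
        cEAut D.p D.pH ⟨(d : G), hdE⟩ * (⟨(d : G), hdE⟩ : ↥(cE z))⁻¹ from Subtype.ext rfl, mk_mul, mk_inv D,
        ← D.smul_p_mk]
    have hv' := Ib_ω _ hv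
    have hvI : mk (⟨(d : G), hdE⟩ : ↥(cE z)) ∈ Ib := by
      convert hv' using 1
      have := D.toJMod.ω_sum (mk (⟨(d : G), hdE⟩ : ↥(cE z)))
      rw [add_assoc, add_eq_zero_iff_eq_neg, D.toJMod.neg_eq] at this
      rw [smul_add, add_comm]; exact this
    obtain ⟨i, hiE, hi1, hi⟩ := (memIb _).1 hvI
    rcases (mk_eq D.hJ).1 hi with e | e
    · left
      apply m22_conj_injective
      rw [← hd, map_one, show d = i from Subtype.ext e, hi1]
    · right
      apply m22_conj_injective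
      rw [← hd, hs0, show d = i * ⟨z, zDs⟩ from Subtype.ext e, map_mul, hi1, one_mul]
  have hs0U : s0 ∈ U := by
    obtain ⟨a, haP, haU⟩ := D.toJMod.good_conj L hUgood hSp hUS
    obtain ⟨t, ht⟩ : ∃ t, t = a * s0 * a⁻¹ := ⟨_, rfl⟩
    have htt : t * t = 1 := by
      rw [ht, show a * s0 * a⁻¹ * (a * s0 * a⁻¹) = a * (s0 * s0) * a⁻¹ by group, hs0sq]; group
    have hU0S : ∀ x ∈ F.U0, a⁻¹ * x * a ∈ S := by
      intro x hx
      rw [← haU] at hx
      obtain ⟨w, hw, rfl⟩ := hx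
      simpa [mul_assoc] using hUS hw
    have htc : ∀ x ∈ F.U0, x * t = t * x := by
      intro x hx
      rw [ht]
      calc x * (a * s0 * a⁻¹) = a * (a⁻¹ * x * a * s0) * a⁻¹ := by group
        _ = a * (s0 * (a⁻¹ * x * a)) * a⁻¹ := by rw [hs0c _ (hU0S x hx)]
        _ = a * s0 * a⁻¹ * x := by group
    have hP0 : ∀ x ∈ F.U0, x ∈ F.P0 := fun x hx => by
      have := haP _ (hU0S x hx)
      simpa [mul_assoc] using this
    have hinvt : t⁻¹ = t := inv_eq_of_mul_eq_one_right htt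
    let A : Subgroup M22t :=
      { carrier := {x | x ∈ F.U0 ∨ x * t ∈ F.U0}
        one_mem' := Or.inl (one_mem _)
        mul_mem' := by
          rintro x x' (hx | hx) (hx' | hx')
          · exact Or.inl (mul_mem hx hx')
          · right; rw [mul_assoc]; exact mul_mem hx hx'
          · right
            rw [show x * x' * t = x * (x' * t) by group, htc _ hx', show x * (t * x') = x * t * x' by group]
            exact mul_mem hx hx'
          · left
            have e := htc _ hx'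
            rw [show x * x' = x * t * (x' * t) by
              rw [mul_assoc x t, ← e, show x' * t * t = x' * (t * t) by group, htt, mul_one]]
            exact mul_mem hx hx'
        inv_mem' := by
          rintro x (hx | hx)
          · exact Or.inl (inv_mem hx)
          · right
            have := inv_mem hx
            rw [mul_inv_rev, hinvt] at this
            rw [show x⁻¹ * t = t * (t * x⁻¹) * t by rw [← mul_assoc t t, htt, one_mul],
              ← htc _ this, mul_assoc _ t t, htt, mul_one]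
            exact this }
    have hAsq : ∀ x ∈ A, x * x = 1 := by
      rintro x (hx | hx)
      · exact F.sq0 x hx
      · have h := F.sq0 _ hx
        rw [show x * t * (x * t) = x * (t * (x * t)) by group, ← htc _ hx, mul_assoc x t t, htt, mul_one] at h
        exact h
    have hAP : A ≤ F.P0 := by
      rintro x (hx | hx)
      · exact hP0 x hx
      · have h1 := mul_mem (hP0 _ hx) (haP _ hs0S)
        rwa [← ht, mul_assoc, htt, mul_one] at h1
    have hle : F.U0 ≤ A := fun x hx => Or.inl hx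
    have hAc := (F.small A hAP hAsq).1
    have heq : F.U0 = A := Subgroup.eq_of_le_of_card_ge hle (by rw [F.card0]; exact hAc)
    have htU : t ∈ F.U0 := heq ▸ (Or.inr (by rw [htt]; exact one_mem _) : t ∈ A)
    rw [← haU] at htU
    obtain ⟨w, hw, hwt⟩ := htU
    have : w = s0 := (MulAut.conj a).injective (hwt.trans ht)
    exact this ▸ hw
  -- count the fixed points of `m` on `U`
  have hm3 : m ^ 3 = 1 := m22_conj_injective (by
    rw [map_pow, hm, map_one, ← map_pow, show (⟨y, hyH⟩ : ↥(cH z)) ^ 3 = 1 from Subtype.ext hy3, map_one])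
  let σ : Function.End ↥U := fun u => ⟨m * (u : M22t) * m⁻¹, hUm u u.2⟩
  have hσ3 : σ ^ (3 ^ 1) = 1 := by
    funext u
    refine Subtype.ext ?_
    show m * (m * (m * (u : M22t) * m⁻¹) * m⁻¹) * m⁻¹ = u
    rw [show m * (m * (m * (u : M22t) * m⁻¹) * m⁻¹) * m⁻¹ = m ^ 3 * u * (m ^ 3)⁻¹ by
      simp [pow_succ, mul_assoc], hm3]
    group
  have hf : Fact (Nat.Prime 3) := ⟨Nat.prime_three⟩
  have := Fintype.ofFinite ↥U
  have hcount := Equiv.Perm.card_fixedPoints_modEq hσ3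
  have h16 : Fintype.card ↥U = 16 := by rw [← Nat.card_eq_fintype_card, hUgood.1]
  have hs01 : s0 ≠ 1 := by
    intro h
    have : θ ⟨z, zDs⟩ = 1 := by rw [← hs0, h, map_one]
    exact hzno ((kerI _).1 this)
  have hms0 : m * s0 * m⁻¹ = s0 := by
    obtain ⟨h, hh⟩ := hmS ⟨z, zDs⟩ s0 hs0
    apply m22_conj_injective
    rw [hh, hs0]
    congr 1
    refine Subtype.ext ?_
    show D.p * z * D.p⁻¹ = z
    rw [show D.p * z = z * D.p from Subgroup.mem_centralizer_singleton_iff.1 D.pH, mul_inv_cancel_right]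
  have h2fix : Fintype.card (Function.fixedPoints σ) = 2 := by
    have hset : Function.fixedPoints σ = {(⟨1, one_mem U⟩ : ↥U), ⟨s0, hs0U⟩} := by
      ext u
      constructor
      · intro hu
        rcases hfixed _ (hUS u.2) (congrArg Subtype.val hu) with h | h
        · exact Or.inl (Subtype.ext h)
        · exact Or.inr (Subtype.ext h)
      · rintro (rfl | rfl)
        · exact Subtype.ext (by show m * 1 * m⁻¹ = 1; group)
        · exact Subtype.ext hms0
    rw [← Nat.card_eq_fintype_card, Nat.card_coe_set_eq, hset, Set.ncard_pair]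
    exact fun h => hs01 (congrArg Subtype.val h).symm
  rw [h16, h2fix] at hcount
  exact absurd hcount (by decide)

end Cfsg.Agent.Lib.J4Five60
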