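import Cfsg.Agent.Lib.J4Five60.Spec
import Cfsg.Agent.Lib.J4Fusion14.FrameBase
import Cfsg.Agent.Lib.ExtraTwo.Basic

/-!
# The centralizer in `H` of an element of order five

The element fixes a space of order 16 of the module; the hypotheses `EndHyp` on its centralizer in `H`.
-/

set_option autoImplicit false

namespace Cfsg.Agent.Lib.J4Five60

open Cfsg Cfsg.Agent.Lib.J4Type19 Cfsg.Agent.Lib.J4Fusion14

attribute [local instance] m22_finite

section Module

variable {C V M : Type*} [Group C] [AddCommGroup V] [DistribMulAction C V] [Group M] (J : JMod C V M)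

/-- `q + q⁻¹`. -/
def trace5 (q : C) : V →+ V := DistribSMul.toAddMonoidHom V q + DistribSMul.toAddMonoidHom V (q ^ 4)

/-- Where `q + q⁻¹` is the scalar `ω ^ j`. -/
def spaceT (q : C) (j : ℕ) : AddSubgroup V where
  carrier := {v | q • v + q ^ 4 • v = J.ω ^ j • v}
  zero_mem' := by simp
  add_mem' := fun {u v} (hu : _ = _) (hv : _ = _) => by
    show q • (u + v) + q ^ 4 • (u + v) = J.ω ^ j • (u + v)
    rw [smul_add, smul_add, smul_add, ← hu, ← hv]
    abel
  neg_mem' := fun {v} (hv : _ = _) => by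
    show q • (-v) + q ^ 4 • (-v) = J.ω ^ j • (-v)
    rw [smul_neg, smul_neg, smul_neg, ← hv, neg_add]

include J in
theorem fixElt_five {q g : C} (q5 : q ^ 5 = 1) (hg : g * q * g⁻¹ = q ^ 2) (hne : fixElt (V := V) q ≠ ⊤) :
    Nat.card ↥(fixElt (V := V) q) = 2 ^ 4 := by
  classical
  have := J.finiteV
  have hf5 : Fact (Nat.Prime 5) := ⟨Nat.prime_five⟩
  have hmod : ∀ (n m : ℕ) (v : V), n % 5 = m % 5 → q ^ n • v = q ^ m • v := fun n m v h => by
    rw [pow_eq_pow_mod n q5, h, ← pow_eq_pow_mod m q5]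
  have hqq : ∀ (n m : ℕ) (v : V), q ^ n • q ^ m • v = q ^ (n + m) • v := fun n m v => by rw [pow_add, mul_smul]
  obtain ⟨A, hA⟩ : ∃ A : V →+ V, A = trace5 q := ⟨_, rfl⟩
  have hAv : ∀ v, A v = q ^ 1 • v + q ^ 4 • v := fun v => by rw [hA, pow_one]; rfl
  have hωA : ∀ (n : ℕ) v, A (J.ω ^ n • v) = J.ω ^ n • A v := fun n v => by
    rw [hAv, hAv, smul_add, J.ωpow_comm, J.ωpow_comm]
  have hAA : ∀ v, A (A v) = q ^ 2 • v + q ^ 3 • v := fun v => by
    rw [hAv (A v), hAv v]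
    simp only [smul_add, hqq]
    rw [hmod (1 + 4) 0 v (by norm_num), hmod (4 + 4) 3 v (by norm_num),
      show (1 + 1 : ℕ) = 2 from rfl]
    calc q ^ 2 • v + q ^ 0 • v + (q ^ 0 • v + q ^ 3 • v) = q ^ 2 • v + q ^ 3 • v + (q ^ 0 • v + q ^ 0 • v) := by abel
      _ = _ := by rw [J.two, add_zero]
  have memT : ∀ j v, v ∈ spaceT J q j ↔ A v = J.ω ^ j • v := fun j v => by
    rw [hAv, pow_one]; rfl
  obtain ⟨N, hN⟩ : ∃ N : V → V, N = fun v => v + A v + A (A v) := ⟨_, rfl⟩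
  have hNv : ∀ v, N v = v + A v + A (A v) := fun v => by rw [hN]
  have hNfix : ∀ v, N v ∈ fixElt (V := V) q := fun v => by
    show q • N v = N v
    rw [hNv, hAA, hAv]
    simp only [smul_add, ← mul_smul, ← pow_succ']
    rw [hmod (4 + 1) 0 v (by norm_num), pow_zero, one_smul, pow_one, show (1 + 1 : ℕ) = 2 from rfl,
      show (2 + 1 : ℕ) = 3 from rfl, show (3 + 1 : ℕ) = 4 from rfl]
    abel
  have hfix0 : ∀ v ∈ fixElt (V := V) q, A v = 0 := fun v hv => by
    have hv' : q • v = v := hv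
    rw [hAv, pow_one, show q ^ 4 • v = v by simp only [pow_succ, pow_zero, one_mul, mul_smul, hv'], hv', J.two]
  have hNid : ∀ v ∈ fixElt (V := V) q, N v = v := fun v hv => by
    rw [hNv, hfix0 v hv, map_zero, add_zero, add_zero]
  have hNT : ∀ j v, v ∈ spaceT J q j → j % 3 ≠ 0 → N v = 0 := fun j v hv hj => by
    have h := (memT j v).1 hv
    rw [hNv, h, hωA, h, J.ωpow_add]
    have h3 := J.ω_sum v
    rcases (by omega : j % 3 = 1 ∨ j % 3 = 2) with e | e
    · rw [J.ωpow_congr (n := j) (m := 1) (by omega), J.ωpow_congr (n := j + j) (m := 2) (by omega), pow_one, pow_two,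
        mul_smul, h3]
    · rw [J.ωpow_congr (n := j) (m := 2) (by omega), J.ωpow_congr (n := j + j) (m := 1) (by omega), pow_one, pow_two,
        mul_smul, add_right_comm, h3]
  have hNadd : ∀ u v, N (u + v) = N u + N v := fun u v => by
    simp only [hNv, map_add]; abel
  let Φ : (↥(fixElt (V := V) q) × ↥(spaceT J q 1) × ↥(spaceT J q 2)) → V := fun p =>
    (p.1 : V) + p.2.1 + p.2.2
  have hω12 : ∀ u : V, J.ω ^ 1 • u = J.ω ^ 2 • u → u = 0 := fun u h => J.ωfix u (by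
    have h' := congrArg (fun x => J.ω ^ 2 • x) h
    simp only [J.ωpow_add] at h'
    rw [J.ωpow_congr (n := 2 + 1) (m := 0) (by norm_num), J.ωpow_congr (n := 2 + 2) (m := 1) (by norm_num), pow_zero,
      one_smul, pow_one] at h'
    exact h'.symm)
  have hΦ : Function.Bijective Φ := by
    constructor
    · intro p p' h
      have h' : (p.1 : V) + p.2.1 + p.2.2 = (p'.1 : V) + p'.2.1 + p'.2.2 := h
      have e0 := congrArg N h'
      simp only [hNadd, hNid _ p.1.2, hNid _ p'.1.2, hNT 1 _ p.2.1.2 (by norm_num), hNT 2 _ p.2.2.2 (by norm_num),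
        hNT 1 _ p'.2.1.2 (by norm_num), hNT 2 _ p'.2.2.2 (by norm_num), add_zero] at e0
      rw [e0, add_assoc, add_assoc, add_left_cancel_iff] at h'
      have hd : ((p.2.1 : V) - p'.2.1) = (p'.2.2 : V) - p.2.2 := by
        rw [sub_eq_sub_iff_add_eq_add, h', add_comm]
      have h1 := (memT 1 _).1 (sub_mem p.2.1.2 p'.2.1.2)
      have h2 := (memT 2 _).1 (sub_mem p'.2.2.2 p.2.2.2)
      rw [← hd, h1] at h2
      have h0 := hω12 _ h2
      rw [h0, eq_comm, sub_eq_zero] at hd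
      exact Prod.ext (Subtype.ext e0) (Prod.ext (Subtype.ext (sub_eq_zero.1 h0)) (Subtype.ext hd.symm))
    · intro v
      obtain ⟨w, hw⟩ : ∃ w, w = v + N v := ⟨_, rfl⟩
      have hw0 : N w = 0 := by rw [hw, hNadd, hNid _ (hNfix v), J.two]
      have hAAw : A (A w) = w + A w := by
        have h := hw0
        rw [hNv, add_eq_zero_iff_eq_neg, J.neg_eq] at h
        exact h.symm
      have hsum : ∀ u : V, J.ω • J.ω • u + J.ω • u = u := fun u => by
        have h := J.ω_sum u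
        rw [add_assoc, add_eq_zero_iff_eq_neg, J.neg_eq, add_comm] at h
        exact h.symm
      have hmem : ∀ j, j = 1 ∨ j = 2 → A w + J.ω ^ (2 * j) • w ∈ spaceT J q j := fun j hj => by
        rw [memT, map_add, hωA, hAAw, smul_add, J.ωpow_add, J.ωpow_congr (n := j + 2 * j) (m := 0) (by omega),
          pow_zero, one_smul]
        have hs := hsum (A w)
        rcases hj with rfl | rfl
        · rw [J.ωpow_congr (n := 2 * 1) (m := 2) (by norm_num), pow_one, pow_two, mul_smul]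
          calc w + A w + J.ω • J.ω • A w = w + (J.ω • J.ω • A w + J.ω • A w) + J.ω • J.ω • A w := by rw [hs]
            _ = J.ω • A w + w + (J.ω • J.ω • A w + J.ω • J.ω • A w) := by abel
            _ = _ := by rw [J.two, add_zero]
        · rw [J.ωpow_congr (n := 2 * 2) (m := 1) (by norm_num), pow_one, pow_two, mul_smul]
          calc w + A w + J.ω • A w = w + (J.ω • J.ω • A w + J.ω • A w) + J.ω • A w := by rw [hs]
            _ = J.ω • J.ω • A w + w + (J.ω • A w + J.ω • A w) := by abel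
            _ = _ := by rw [J.two, add_zero]
      refine ⟨(⟨N v, hNfix v⟩, ⟨_, hmem 1 (Or.inl rfl)⟩, ⟨_, hmem 2 (Or.inr rfl)⟩), ?_⟩
      show N v + (A w + J.ω ^ (2 * 1) • w) + (A w + J.ω ^ (2 * 2) • w) = v
      rw [J.ωpow_congr (n := 2 * 2) (m := 1) (by norm_num), mul_one, pow_two, mul_smul, pow_one]
      calc N v + (A w + J.ω • J.ω • w) + (A w + J.ω • w)
          = N v + (J.ω • J.ω • w + J.ω • w) + (A w + A w) := by abel
        _ = v + (N v + N v) := by rw [hsum, J.two, add_zero, hw]; abel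
        _ = v := by rw [J.two, add_zero]
  have hcard := Nat.card_eq_of_bijective Φ hΦ
  rw [Nat.card_prod, Nat.card_prod, J.cardV] at hcard
  -- the element `g` exchanges the two moved parts
  have hq3g : q * g = g * q ^ 3 := by
    have h : g * q ^ 3 * g⁻¹ = q := by
      rw [← conj_pow, hg, ← pow_mul, pow_eq_pow_mod _ q5, show 2 * 3 % 5 = 1 from rfl, pow_one]
    rw [← mul_inv_eq_iff_eq_mul.1 h]
  have hswap : ∀ j v, v ∈ spaceT J q j → g • v ∈ spaceT J q (2 * j) := fun j v hv => by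
    have h := (memT j v).1 hv
    have hq4g : q ^ 4 * g = g * q ^ 2 := by
      have h' : g * q ^ 2 * g⁻¹ = q ^ 4 := by rw [← conj_pow, hg, ← pow_mul]
      rw [← mul_inv_eq_iff_eq_mul.1 h']
    rw [memT, hAv, pow_one, ← mul_smul, ← mul_smul, hq3g, hq4g, mul_smul, mul_smul, ← smul_add, add_comm, ← hAA, h,
      hωA, h, J.ωpow_add, ← J.ωpow_comm, two_mul]
  have hle12 : Nat.card ↥(spaceT J q 1) ≤ Nat.card ↥(spaceT J q 2) :=
    Nat.card_le_card_of_injective (fun v => (⟨g • (v : V), hswap 1 v v.2⟩ : ↥(spaceT J q 2))) fun u v h =>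
      Subtype.ext (smul_left_cancel g (congrArg Subtype.val h :))
  have hle21 : Nat.card ↥(spaceT J q 2) ≤ Nat.card ↥(spaceT J q 1) := by
    refine Nat.card_le_card_of_injective (fun v => (⟨g • (v : V), ?_⟩ : ↥(spaceT J q 1))) fun u v h =>
      Subtype.ext (smul_left_cancel g (congrArg Subtype.val h :))
    have := hswap 2 v v.2
    rw [memT, J.ωpow_congr (n := 2 * 2) (m := 1) (by norm_num), ← memT] at this
    exact this
  have hωT : ∀ v ∈ spaceT J q 1, J.ω • v ∈ spaceT J q 1 := fun v hv => by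
    have h := (memT 1 v).1 hv
    rw [pow_one] at h
    rw [memT, pow_one]
    have := hωA 1 v
    rw [pow_one, h] at this
    exact this
  obtain ⟨b, hb6, hb⟩ := J.card_pow _ hωT
  obtain ⟨e, he6, he⟩ := J.card_pow (fixElt (V := V) q) (J.fixElt_ω q)
  -- `q` fixes no non-zero vector of a moved part
  have hqT : ∀ v ∈ spaceT J q 1, q • v ∈ spaceT J q 1 := fun v hv => by
    rw [memT, hAv, ← (memT 1 v).1 hv |> fun h => show q • (q ^ 1 • v + q ^ 4 • v) = J.ω ^ 1 • q • v by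
      rw [← hAv, h, J.ωpow_comm]]
    simp only [smul_add, ← mul_smul, ← pow_succ, ← pow_succ']
  let σ : Function.End ↥(spaceT J q 1) := fun v => ⟨q • (v : V), hqT v v.2⟩
  have hσ : σ ^ (5 ^ 1) = 1 := by
    funext v
    refine Subtype.ext ?_
    show q • q • q • q • q • (v : V) = v
    simp only [← mul_smul]
    rw [show q * (q * (q * (q * q))) = q ^ 5 by simp [pow_succ, mul_assoc], q5, one_smul]
  have := Fintype.ofFinite ↥(spaceT J q 1)
  have h5 := Equiv.Perm.card_fixedPoints_modEq hσ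
  have hfix1 : Fintype.card (Function.fixedPoints σ) = 1 := by
    rw [Fintype.card_eq_one_iff]
    refine ⟨⟨0, Subtype.ext (smul_zero q)⟩, fun v => Subtype.ext (Subtype.ext ?_)⟩
    have h0 := hfix0 _ (congrArg Subtype.val v.2 : q • ((v : ↥(spaceT J q 1)) : V) = _)
    have h1 := (memT 1 _).1 (v : ↥(spaceT J q 1)).2
    rw [h0, eq_comm, smul_eq_zero_iff_eq] at h1
    exact h1
  rw [hfix1, ← Nat.card_eq_fintype_card, hb] at h5
  have hb5 : 4 ^ b % 5 = 1 := h5
  rw [show Nat.card ↥(spaceT J q 2) = 4 ^ b by omega, hb, he, ← pow_add, ← pow_add,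
    show (2 : ℕ) ^ 12 = 4 ^ 6 by norm_num] at hcard
  have hsum := Nat.pow_right_injective (by norm_num : 2 ≤ 4) hcard
  rw [he]
  interval_cases b
  · exfalso
    refine hne (AddSubgroup.eq_top_of_card_eq _ ?_)
    rw [he, J.cardV, show e = 6 by omega]; norm_num
  · exact absurd hb5 (by norm_num)
  · rw [show e = 2 by omega]; norm_num
  all_goals omega

end Module

variable {G : Type*} [Group G] [Finite G] {z : G} {P : Subgroup G} (D : HData z P)

/-- A lift of `f` sends `q` to its square. -/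
theorem exists_square_lift {F : MFacts M22t} (FF : FiveFacts F) {q : ↥(cC z P)} (hq : D.π q = FF.q)
    (q5 : q ^ 5 = 1) : ∃ g : ↥(cC z P), g * q * g⁻¹ = q ^ 2 := by
  obtain ⟨g, hg⟩ := D.πsurj FF.f
  refine ⟨g, ?_⟩
  obtain ⟨k, hk⟩ : ∃ k, k = g * q * g⁻¹ * (q ^ 2)⁻¹ := ⟨_, rfl⟩
  have hk1 : D.π k = 1 := by
    rw [hk, map_mul, map_mul, map_mul, map_inv, map_inv, map_pow, hg, hq, FF.fq, mul_inv_cancel]
  have e : k * q ^ 2 = g * q * g⁻¹ := by rw [hk]; group
  have h := (D.toJMod.ker_comm k hk1 (q ^ 2)).mul_pow 5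
  rw [e, conj_pow, q5, mul_one, mul_inv_cancel, ← pow_mul, show 2 * 5 = 5 * 2 from rfl, pow_mul, q5, one_pow,
    mul_one] at h
  have h6 := D.toJMod.ker_pow k hk1
  rw [pow_succ, ← h, one_mul] at h6
  rw [← e, h6, one_mul]

theorem fix_ne_top {F : MFacts M22t} (FF : FiveFacts F) {q : ↥(cC z P)} (hq : D.π q = FF.q) :
    fixElt (V := cV z) q ≠ ⊤ := by
  intro htop
  apply FF.q1
  rw [← hq, D.ker_iff]
  have hqE : (q : G) ∈ cE z := self_cent D.hJ ⟨q.2.1, Subgroup.mem_centralizer_iff.2 fun e he =>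
    ((fixElt_iff D q ⟨e, he⟩).1 (htop ▸ AddSubgroup.mem_top _)).eq⟩
  rcases mem_zpowers_z D.hJ ((centE D.hJ).le ⟨hqE, q.2.2⟩) with h | h
  · exact ⟨0, Or.inl (by rw [h, pow_zero])⟩
  · exact ⟨0, Or.inr (by rw [h, pow_zero, mul_one])⟩

variable {F : MFacts M22t} (L : Lifts D.toJMod F) (FF : FiveFacts F) (q : ↥(cC z P))

include L in
theorem card_fix_five (hq : D.π q = FF.q) (q5 : q ^ 5 = 1) : Nat.card ↥(fixElt (V := cV z) q) = 2 ^ 4 := by
  obtain ⟨g, hg⟩ := exists_square_lift D FF hq q5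
  exact fixElt_five D.toJMod q5 hg (fix_ne_top D FF hq)

include L in
theorem exists_endHyp (hq : D.π q = FF.q) (q5 : q ^ 5 = 1)
    (hN : Subgroup.normalizer (P : Set G) ≤ cH z)
    (hfused : ∃ g ∈ Subgroup.centralizer (Subgroup.zpowers (q : G) : Set G), g * z * g⁻¹ ∈ cE z ∧ g * z * g⁻¹ ≠ z)
    (height : ∃ x ∈ cH z ⊓ Subgroup.centralizer (Subgroup.zpowers (q : G) : Set G), x ^ 8 = 1 ∧ x ^ 4 ≠ 1) :
    Nonempty (EndHyp (Subgroup.zpowers (q : G)) z) := by
  classical
  have := D.toJMod.finiteV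
  obtain ⟨f, hf⟩ := exists_square_lift D FF hq q5
  have hfix := card_fix_five D L FF q hq q5
  have hπ1 : D.π q ≠ 1 := by rw [hq]; exact FF.q1
  have hqG5 : (q : G) ^ 5 = 1 := congrArg Subtype.val q5
  have hqG1 : (q : G) ≠ 1 := fun h => hπ1 (by rw [show q = 1 from Subtype.ext h, map_one])
  have hqo : orderOf FF.q = 5 := orderOf_eq_prime (hp := ⟨Nat.prime_five⟩) FF.q5 FF.q1
  have hcz : ∀ y : G, y ∈ Subgroup.centralizer (Subgroup.zpowers (q : G) : Set G) ↔ Commute y (q : G) := by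
    intro y
    refine ⟨fun h => (Subgroup.mem_centralizer_iff.1 h _ (Subgroup.mem_zpowers _)).symm, fun h => ?_⟩
    refine Subgroup.mem_centralizer_iff.2 fun x hx => ?_
    obtain ⟨n, rfl⟩ := Subgroup.mem_zpowers_iff.1 hx
    exact (h.symm.zpow_left n).eq
  have hzq : Commute z (q : G) := D.comm_z q
  have hpq : Commute D.p (q : G) := D.comm_p q
  -- the extraspecial group
  obtain ⟨Q0, hQ0⟩ : ∃ Q0, Q0 = cE z ⊓ Subgroup.centralizer (Subgroup.zpowers (q : G) : Set G) := ⟨_, rfl⟩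
  have hQ0m : ∀ e, e ∈ Q0 ↔ e ∈ cE z ∧ Commute e (q : G) := fun e => by rw [hQ0, Subgroup.mem_inf, hcz]
  have hQ0c : Nat.card ↥Q0 = 32 := by
    rw [hQ0, card_cent_pre D (fixElt (V := cV z) q) _ fun e => ?_, hfix]
    · norm_num
    rw [fixElt_iff D q e]
    exact ⟨fun h y hy => by obtain ⟨n, rfl⟩ := Subgroup.mem_zpowers_iff.1 hy; exact h.symm.zpow_left n,
      fun h => (h _ (Subgroup.mem_zpowers _)).symm⟩
  have hnd : ∀ x ∈ Q0, (∀ y ∈ Q0, Commute x y) → x = 1 ∨ x = z := by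
    intro x hx hall
    obtain ⟨hxE, hxq⟩ := (hQ0m x).1 hx
    have hv : q • mk (⟨x, hxE⟩ : ↥(cE z)) = mk ⟨x, hxE⟩ := smul_eq_of_commute q ⟨x, hxE⟩ hxq.symm
    refine (mk_eq_zero D.hJ (e := ⟨x, hxE⟩)).1 ?_
    have hperp : mk (⟨x, hxE⟩ : ↥(cE z)) ∈ perpOf D.toJMod.β ⊤ := fun u _ => by
      have hi : ∀ n : ℕ, D.toJMod.β (mk ⟨x, hxE⟩) (q ^ n • u) = D.toJMod.β (mk ⟨x, hxE⟩) u := by
        intro n
        induction n with
        | zero => rw [pow_zero, one_smul]
        | succ n ih =>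
          rw [pow_succ', mul_smul]
          conv_lhs => rw [← hv]
          rw [D.toJMod.inv, ih]
      obtain ⟨S, hS⟩ : ∃ S, S = q ^ 0 • u + q ^ 1 • u + q ^ 2 • u + q ^ 3 • u + q ^ 4 • u := ⟨_, rfl⟩
      have hSf : S ∈ fixElt (V := cV z) q := by
        show q • S = S
        rw [hS]
        simp only [smul_add, ← mul_smul, ← pow_succ']
        rw [show (0 + 1 : ℕ) = 1 from rfl, show (4 + 1 : ℕ) = 5 from rfl, q5, ← pow_zero q]
        abel
      obtain ⟨y, hy⟩ := mk_surjective S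
      have hS0 : D.toJMod.β (mk ⟨x, hxE⟩) S = 0 := by
        rw [← hy] at hSf ⊢
        exact pair_eq_zero.2 (Subtype.ext (hall y ((hQ0m _).2 ⟨y.2, (fixElt_iff D q y).1 hSf⟩)).eq)
      rw [hS] at hS0
      simp only [map_add, hi] at hS0
      exact (by decide : ∀ r : ZMod 2, r + r + r + r + r = 0 → r = 0) _ hS0
    have hbot : perpOf D.toJMod.β (⊤ : AddSubgroup (cV z)) = ⊥ := by
      refine AddSubgroup.eq_bot_of_card_eq _ ?_
      have h := D.toJMod.perp ⊤
      rw [AddSubgroup.card_top, D.toJMod.cardV] at h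
      exact (mul_eq_left₀ (by norm_num)).1 h
    rwa [hbot, AddSubgroup.mem_bot] at hperp
  have hgen : ExtraTwo.IsCentralGen (cE z) z :=
    { extra := hE D.hJ
      order := Cfsg.Agent.Lib.J4Type19.hz D.hJ
      mem := ⟨⟨z, z_mem D.hJ⟩, z_center D.hJ, rfl⟩
      all := by rintro _ ⟨e, he, rfl⟩; exact (center_iff D.hJ).1 he }
  have hna : ∃ a ∈ Q0, ∃ b ∈ Q0, ¬ Commute a b := by
    by_contra hno
    push Not at hno
    have hsub : (Q0 : Set G) ⊆ ({1, z} : Finset G) := fun x hx => by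
      simpa using hnd x hx (hno x hx)
    have h := Set.ncard_le_ncard hsub (Finset.finite_toSet _)
    rw [Set.ncard_coe_finset, ← Nat.card_coe_set_eq] at h
    have h2 : ({1, z} : Finset G).card ≤ 2 := Finset.card_le_two
    have : Nat.card ↥(Q0 : Set G) = 32 := hQ0c
    omega
  obtain ⟨hQ0x, hzQ0, -⟩ := ExtraTwo.isExtraspecial_of_le hgen (R := Q0) (hQ0 ▸ inf_le_left) hnd hna
  -- an outer element centralising `q` and inverting `p`
  obtain ⟨a, ha, haq⟩ := FF.outer
  have hidx : (Inn M22t).index = 2 := Compute.Mathieu.card_out_M22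
  obtain ⟨m, hm⟩ : ∃ m, MulAut.conj m = (D.φ D.t)⁻¹ * a := by
    have : (D.φ D.t)⁻¹ * a ∈ Inn M22t :=
      (Subgroup.mul_mem_iff_of_index_two hidx).2 (iff_of_false (fun h => D.φt (by simpa using inv_mem h)) ha)
    obtain ⟨m, hm⟩ := this
    exact ⟨m, hm⟩
  obtain ⟨c, rfl⟩ := D.πsurj m
  obtain ⟨t, ht⟩ : ∃ t, t = (D.t : G) * (c : G) := ⟨_, rfl⟩
  have htH : t ∈ cH z := ht ▸ mul_mem D.t.2 c.2.1
  have hφt : D.φ ⟨t, htH⟩ = a := by
    rw [show (⟨t, htH⟩ : ↥(cH z)) = D.t * ⟨(c : G), c.2.1⟩ from Subtype.ext ht, map_mul, ← D.π_eq, hm,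
      mul_inv_cancel_left]
  have htp : t * D.p * t⁻¹ = D.p⁻¹ := by
    rw [ht, show (D.t : G) * c * D.p * ((D.t : G) * c)⁻¹ = (D.t : G) * ((c : G) * D.p * (c : G)⁻¹) * (D.t : G)⁻¹ by
      group, ← D.comm_p c, mul_inv_cancel_right, D.tp]
  have htP : ∀ x ∈ P, t⁻¹ * x * t ∈ P := by
    intro x hx
    have htp' : t⁻¹ * D.p * t = D.p⁻¹ := by
      have h := congrArg (fun y => (t⁻¹ * y * t)⁻¹) htp
      rw [show (t⁻¹ * (t * D.p * t⁻¹) * t)⁻¹ = D.p⁻¹ by group,
        show (t⁻¹ * D.p⁻¹ * t)⁻¹ = t⁻¹ * D.p * t by group] at h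
      exact h.symm
    rcases (D.mem_P x).1 hx with rfl | rfl | rfl
    · rw [mul_one, inv_mul_cancel]; exact one_mem _
    · rw [htp']; exact inv_mem D.p_mem
    · rw [show t⁻¹ * (D.p * D.p) * t = (t⁻¹ * D.p * t) * (t⁻¹ * D.p * t) by group, htp']
      exact mul_mem (inv_mem D.p_mem) (inv_mem D.p_mem)
  have hsC : t * (q : G) * t⁻¹ ∈ cC z P := by
    refine ⟨(cH z).mul_mem ((cH z).mul_mem htH q.2.1) ((cH z).inv_mem htH), Subgroup.mem_centralizer_iff.2 fun x hx => ?_⟩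
    have h := Subgroup.mem_centralizer_iff.1 q.2.2 _ (htP x hx)
    calc x * (t * (q : G) * t⁻¹) = t * (t⁻¹ * x * t * (q : G)) * t⁻¹ := by group
      _ = t * ((q : G) * (t⁻¹ * x * t)) * t⁻¹ := by rw [h]
      _ = t * (q : G) * t⁻¹ * x := by group
  have htq : Commute t (q : G) := by
    have hπ : D.π ⟨_, hsC⟩ = D.π q := by
      apply m22_conj_injective
      rw [D.π_eq, show (⟨_, hsC.1⟩ : ↥(cH z)) = ⟨t, htH⟩ * ⟨(q : G), q.2.1⟩ * ⟨t, htH⟩⁻¹ from Subtype.ext rfl,
        map_mul, map_mul, map_inv, hφt, ← D.π_eq, hq]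
      refine MulEquiv.ext fun y => ?_
      show a (FF.q * a⁻¹ y * FF.q⁻¹) = FF.q * y * FF.q⁻¹
      rw [map_mul, map_mul, map_inv, haq, MulAut.apply_inv_self]
    obtain ⟨k, hk⟩ : ∃ k, k = (⟨_, hsC⟩ : ↥(cC z P)) * q⁻¹ := ⟨_, rfl⟩
    have hk1 : D.π k = 1 := by rw [hk, map_mul, map_inv, hπ, mul_inv_cancel]
    have hk5 := (D.toJMod.ker_comm k hk1 q).mul_pow 5
    rw [show k * q = ⟨_, hsC⟩ by rw [hk, inv_mul_cancel_right], q5, mul_one,
      show (⟨_, hsC⟩ : ↥(cC z P)) ^ 5 = 1 from Subtype.ext (by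
        rw [SubgroupClass.coe_pow]; show (t * (q : G) * t⁻¹) ^ 5 = 1; rw [conj_pow, hqG5]; group)] at hk5
    have h6 := D.toJMod.ker_pow k hk1
    rw [pow_succ, ← hk5, one_mul] at h6
    rw [h6, eq_comm, mul_inv_eq_one] at hk
    exact mul_inv_eq_iff_eq_mul.1 (congrArg Subtype.val hk)
  -- the centralizer in `C`
  have hker6 : Nat.card ↥D.π.ker = 6 := by
    have h := D.π.ker.card_mul_index
    rw [Subgroup.index_ker, MonoidHom.range_eq_top.2 D.πsurj, Subgroup.card_top, m22_card, D.card_C] at h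
    omega
  have hcp : Nat.card ↥(Subgroup.centralizer (Subgroup.zpowers (q : G) : Set G) ⊓
      Subgroup.centralizer ({D.p} : Set G)) = 30 := by
    obtain ⟨K, hK⟩ : ∃ K, K = Subgroup.centralizer ({q} : Set ↥(cC z P)) := ⟨_, rfl⟩
    have heq : Subgroup.centralizer (Subgroup.zpowers (q : G) : Set G) ⊓ Subgroup.centralizer ({D.p} : Set G)
        = K.map (cC z P).subtype := by
      ext y
      constructor
      · rintro ⟨hyq, hyp⟩
        have hyp' : y * D.p = D.p * y := Subgroup.mem_centralizer_singleton_iff.1 hyp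
        have hyP : y ∈ Subgroup.centralizer (P : Set G) := by
          refine Subgroup.mem_centralizer_iff.2 fun x hx => ?_
          rcases (D.mem_P x).1 hx with rfl | rfl | rfl
          · simp
          · exact hyp'.symm
          · rw [mul_assoc, ← hyp', ← mul_assoc, ← hyp', mul_assoc]
        have hyH : y ∈ cH z := hN (Subgroup.centralizer_le_normalizer _ hyP)
        refine ⟨⟨y, hyH, hyP⟩, hK ▸ Subgroup.mem_centralizer_singleton_iff.2 (Subtype.ext ?_), rfl⟩
        exact ((hcz y).1 hyq).eq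
      · rintro ⟨y, hy, rfl⟩
        rw [hK] at hy
        exact ⟨(hcz _).2 (congrArg Subtype.val (Subgroup.mem_centralizer_singleton_iff.1 hy)),
          Subgroup.mem_centralizer_singleton_iff.2 (D.comm_p y).symm⟩
    rw [heq, Subgroup.card_map_of_injective (cC z P).subtype_injective]
    have hrange : K.map D.π = Subgroup.zpowers FF.q := by
      refine le_antisymm ?_ (Subgroup.zpowers_le.2 ?_)
      · rintro _ ⟨y, hy, rfl⟩
        rw [hK] at hy
        have h := congrArg D.π (Subgroup.mem_centralizer_singleton_iff.1 hy)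
        rw [map_mul, map_mul, hq] at h
        obtain ⟨i, hi⟩ := FF.cent (D.π y) h
        rw [hi]; exact pow_mem (Subgroup.mem_zpowers _) i
      · exact ⟨q, hK ▸ Subgroup.mem_centralizer_singleton_iff.2 rfl, hq⟩
    have hkK : (D.π.comp K.subtype).ker = D.π.ker.subgroupOf K := rfl
    have hle : D.π.ker ≤ K := fun k hk => hK ▸ Subgroup.mem_centralizer_singleton_iff.2
      (D.toJMod.ker_comm k hk q).eq
    have h := (D.π.comp K.subtype).ker.card_mul_index
    rw [Subgroup.index_ker, MonoidHom.range_comp, Subgroup.range_subtype, hrange, Nat.card_zpowers, hqo, hkK,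
      Nat.card_congr (Subgroup.subgroupOfEquivOfLe hle).toEquiv, hker6] at h
    omega
  -- the centralizer in `H`
  obtain ⟨Lc, hLc⟩ : ∃ Lc, Lc = cH z ⊓ Subgroup.centralizer (Subgroup.zpowers (q : G) : Set G) := ⟨_, rfl⟩
  have hLm : ∀ y, y ∈ Lc ↔ y ∈ cH z ∧ Commute y (q : G) := fun y => by rw [hLc, Subgroup.mem_inf, hcz]
  have hLle : Lc ≤ cH z := hLc ▸ inf_le_left
  have hqL : (q : G) ∈ Lc := (hLm _).2 ⟨q.2.1, Commute.refl _⟩
  have hcard960 : Nat.card ↥Lc = 960 := by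
    obtain ⟨ψ, hψ⟩ : ∃ ψ : ↥Lc →* MulAut M22t, ψ = D.φ.comp (Subgroup.inclusion hLle) := ⟨_, rfl⟩
    have hψy : ∀ y : ↥Lc, ψ y = D.φ ⟨(y : G), hLle y.2⟩ := fun y => by rw [hψ]; rfl
    have hψq : ψ ⟨(q : G), hqL⟩ = MulAut.conj FF.q := by rw [hψy, ← hq, D.π_eq]
    have hR : ψ.range ⊓ Inn M22t = (Subgroup.zpowers FF.q).map MulAut.conj := by
      refine le_antisymm ?_ ?_
      · rintro _ ⟨⟨y, rfl⟩, m, hm⟩
        refine ⟨m, ?_, hm⟩
        have h1 : ψ (y * ⟨(q : G), hqL⟩) = ψ (⟨(q : G), hqL⟩ * y) :=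
          congrArg ψ (Subtype.ext ((hLm _).1 y.2).2.eq)
        rw [map_mul, map_mul, hψq, ← hm, ← map_mul, ← map_mul] at h1
        obtain ⟨i, hi⟩ := FF.cent m (m22_conj_injective h1)
        rw [hi]; exact pow_mem (Subgroup.mem_zpowers _) i
      · rw [MonoidHom.map_zpowers, Subgroup.zpowers_le]
        exact ⟨⟨⟨(q : G), hqL⟩, hψq⟩, FF.q, rfl⟩
    have hR5 : Nat.card ↥(ψ.range ⊓ Inn M22t) = 5 := by
      rw [hR, Subgroup.card_map_of_injective m22_conj_injective, Nat.card_zpowers, hqo]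
    have hR2 : (Inn M22t).relIndex ψ.range = 2 := by
      have hn : (Inn M22t).Normal := Subgroup.normal_of_index_eq_two hidx
      have hd := Subgroup.relIndex_dvd_index_of_normal (Inn M22t) ψ.range
      rw [hidx] at hd
      rcases (Nat.dvd_prime Nat.prime_two).1 hd with h | h
      · refine absurd (Subgroup.relIndex_eq_one.1 h ⟨⟨t, (hLm _).2 ⟨htH, htq⟩⟩, ?_⟩) ha
        rw [hψy, hφt]
      · exact h
    have hrange : Nat.card ↥ψ.range = 10 := by
      have h := ((Inn M22t).subgroupOf ψ.range).card_mul_index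
      rw [show ((Inn M22t).subgroupOf ψ.range).index = 2 from hR2,
        show (Inn M22t).subgroupOf ψ.range = (ψ.range ⊓ Inn M22t).subgroupOf ψ.range from
          (Subgroup.inf_subgroupOf_left ..).symm,
        Nat.card_congr (Subgroup.subgroupOfEquivOfLe inf_le_left).toEquiv, hR5] at h
      omega
    have hker : Nat.card ↥ψ.ker = 96 := by
      have hPq : ∀ x ∈ P, Commute x (q : G) := fun x hx => Subgroup.mem_centralizer_iff.1 q.2.2 x hx
      have hPH : ∀ x ∈ P, x ∈ cH z := fun x hx => by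
        rcases (D.mem_P x).1 hx with rfl | rfl | rfl
        exacts [one_mem _, D.pH, mul_mem D.pH D.pH]
      let β : ↥Q0 × ↥P → ↥ψ.ker := fun x => ⟨⟨(x.1 : G) * (x.2 : G), (hLm _).2
          ⟨mul_mem (cE_le z ((hQ0m _).1 x.1.2).1) (hPH _ x.2.2), ((hQ0m _).1 x.1.2).2.mul_left (hPq _ x.2.2)⟩⟩, by
        rw [MonoidHom.mem_ker, hψy]
        exact (D.φ_eq _).2 ⟨_, ((hQ0m _).1 x.1.2).1, _, x.2.2, rfl⟩⟩
      have hβ : Function.Bijective β := by
        constructor
        · intro x x' h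
          have h' : (x.1 : G) * (x.2 : G) = (x'.1 : G) * (x'.2 : G) :=
            congrArg (fun y : ↥ψ.ker => ((y : ↥Lc) : G)) h
          have hd : (x.2 : G) * (x'.2 : G)⁻¹ = (x.1 : G)⁻¹ * (x'.1 : G) := by
            rw [mul_inv_eq_iff_eq_mul, mul_assoc, ← h', inv_mul_cancel_left]
          have hdE : (x.2 : G) * (x'.2 : G)⁻¹ ∈ cE z :=
            hd ▸ mul_mem (inv_mem ((hQ0m _).1 x.1.2).1) ((hQ0m _).1 x'.1.2).1
          have hdP : (x.2 : G) * (x'.2 : G)⁻¹ ∈ P := mul_mem x.2.2 (inv_mem x'.2.2)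
          have h1 : orderOf ((x.2 : G) * (x'.2 : G)⁻¹) ∣ 2 ^ 13 := by
            rw [← cardE D.hJ]; exact Subgroup.orderOf_dvd_natCard _ hdE
          have h2 : orderOf ((x.2 : G) * (x'.2 : G)⁻¹) ∣ 3 := cardP D.hJ ▸ Subgroup.orderOf_dvd_natCard _ hdP
          have h3 := Nat.dvd_gcd h1 h2
          rw [show Nat.gcd (2 ^ 13) 3 = 1 by norm_num, Nat.dvd_one, orderOf_eq_one_iff, mul_inv_eq_one] at h3
          rw [h3] at h'
          exact Prod.ext (Subtype.ext (mul_right_cancel h')) (Subtype.ext h3)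
        · rintro ⟨⟨y, hy⟩, hk⟩
          rw [MonoidHom.mem_ker, hψy] at hk
          obtain ⟨e, he, x, hx, hxy⟩ := (D.φ_eq _).1 hk
          have hyq := ((hLm _).1 hy).2
          have hxy' : y = e * x := hxy
          rw [hxy'] at hyq
          have heq : Commute e (q : G) := by
            have := hyq.mul_left (hPq x hx).inv_left
            rwa [mul_inv_cancel_right] at this
          exact ⟨(⟨e, (hQ0m _).2 ⟨he, heq⟩⟩, ⟨x, hx⟩), Subtype.ext (Subtype.ext hxy'.symm)⟩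
      rw [← Nat.card_eq_of_bijective β hβ, Nat.card_prod, hQ0c, cardP D.hJ]
    have h := ψ.ker.card_mul_index
    rw [Subgroup.index_ker, hker, hrange] at h
    omega
  obtain ⟨g, hg, hgE, hgne⟩ := hfused
  refine ⟨{ q := (q : G), q5 := hqG5, q1 := hqG1, hQ := rfl, hz := Cfsg.Agent.Lib.J4Type19.hz D.hJ,
            z_cent := (hcz z).2 hzq, Q0 := Q0, Q0_extra := hQ0x, card_Q0 := hQ0c, z_mem := hzQ0,
            p := D.p, t := t, p3 := D.p3, p1 := D.pne, tp := htp, card_cp := hcp,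
            f := (f : G), fq := congrArg Subtype.val hf,
            Q0_le := fun e he => ⟨cE_le z ((hQ0m e).1 he).1, (hcz e).2 ((hQ0m e).1 he).2⟩,
            Q0_norm := ?_, card_L := hLc ▸ hcard960,
            p_mem := ⟨D.pH, (hcz _).2 hpq⟩, t_mem := ⟨htH, (hcz _).2 htq⟩,
            fpf := ?_, fused := ⟨g, hg, (hQ0m _).2 ⟨hgE, ?_⟩, hgne⟩, eight := height }⟩
  · rintro l ⟨hlH, hlq⟩ e he
    obtain ⟨heE, heq⟩ := (hQ0m e).1 he
    refine (hQ0m _).2 ⟨cE_conj hlH heE, ?_⟩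
    have hl := (hcz l).1 hlq
    exact (hl.mul_left heq).mul_left hl.inv_left
  · intro e he hpe
    refine mem_zpowers_z D.hJ ((centE D.hJ).le ⟨((hQ0m e).1 he).1, Subgroup.mem_centralizer_iff.2 fun x hx => ?_⟩)
    rcases (D.mem_P x).1 hx with rfl | rfl | rfl
    · simp
    · exact hpe
    · rw [mul_assoc, hpe, ← mul_assoc, hpe, mul_assoc]
  · have hgq := (hcz g).1 hg
    exact (hgq.mul_left hzq).mul_left hgq.inv_left

end Cfsg.Agent.Lib.J4Five60
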