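import Cfsg.Agent.Lib.J4Five60.Transport
import Cfsg.Agent.Lib.J4Five60.ConjRng

/-!
# Reduction to one element of order five of `C`, and the fusion inside its centralizer
-/

set_option autoImplicit false

namespace Cfsg.Agent.Lib.J4Five60

open Cfsg Cfsg.Agent.Lib.J4Type19 Cfsg.Agent.Lib.J4Fusion14

attribute [local instance] m22_finite

variable {G : Type*} [Group G] {z : G} {P : Subgroup G}

theorem not_twentyfive_dvd [Finite G] (D : HData z P) : ¬ 25 ∣ Nat.card ↥(cH z) := by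
  intro h25
  have : Fact (Nat.Prime 5) := ⟨by norm_num⟩
  have hA : Nat.card (MulAut M22t) = 887040 := by
    rw [← Subgroup.card_mul_index (Inn M22t),
      ← Nat.card_congr (MonoidHom.ofInjective (f := (MulAut.conj : M22t →* MulAut M22t)) m22_conj_injective).toEquiv,
      m22_card, show (Inn M22t).index = 2 from Compute.Mathieu.card_out_M22]
  have hker : ¬ 5 ∣ Nat.card ↥D.φ.ker := by
    intro h5
    obtain ⟨x, hx⟩ := exists_prime_orderOf_dvd_card' 5 h5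
    have hx5 : ((x : ↥(cH z)) : G) ^ 5 = 1 := by
      have := congrArg (fun t : ↥D.φ.ker => ((t : ↥(cH z)) : G)) (pow_orderOf_eq_one x)
      rw [hx] at this
      simpa using this
    obtain ⟨e, he, q, hq, heq⟩ := (D.φ_eq _).1 (MonoidHom.mem_ker.1 x.2)
    have hqH : q ∈ cH z := by
      rw [show q = e⁻¹ * ((x : ↥(cH z)) : G) by rw [heq]; group]
      exact mul_mem (inv_mem (cE_le z he)) (x : ↥(cH z)).2
    have hq3 : q * q * q = 1 := by
      rcases (D.mem_P q).1 hq with rfl | rfl | rfl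
      · simp
      · rw [← D.p3]; simp [pow_succ, mul_assoc]
      · rw [show D.p * D.p * (D.p * D.p) * (D.p * D.p) = (D.p ^ 3) ^ 2 by simp [pow_succ, mul_assoc], D.p3,
          one_pow]
    have h3 : ((x : ↥(cH z)) : G) ^ 3 ∈ cE z := by
      rw [heq, show (e * q) ^ 3 = e * (q * e * q⁻¹) * (q * q * e * (q * q)⁻¹) * (q * q * q) by
        simp only [pow_succ, pow_zero, one_mul]; group, hq3, mul_one]
      exact mul_mem (mul_mem he (cE_conj hqH he)) (cE_conj (mul_mem hqH hqH) he)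
    have a1 : orderOf (((x : ↥(cH z)) : G) ^ 3) ∣ 2 ^ 13 :=
      cardE D.hJ ▸ Subgroup.orderOf_dvd_natCard _ h3
    have a2 : orderOf (((x : ↥(cH z)) : G) ^ 3) ∣ 5 :=
      orderOf_dvd_of_pow_eq_one (by rw [← pow_mul, mul_comm, pow_mul, hx5, one_pow])
    have h1 := Nat.dvd_gcd a1 a2
    rw [show Nat.gcd (2 ^ 13) 5 = 1 by norm_num, Nat.dvd_one, orderOf_eq_one_iff] at h1
    have hx1 : ((x : ↥(cH z)) : G) = 1 := by
      calc ((x : ↥(cH z)) : G) = (((x : ↥(cH z)) : G) ^ 3) ^ 2 * ((((x : ↥(cH z)) : G) ^ 5))⁻¹ := by group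
        _ = 1 := by rw [h1, hx5]; group
    have : x = 1 := Subtype.ext (Subtype.ext hx1)
    rw [this, orderOf_one] at hx
    norm_num at hx
  have h := D.φ.ker.card_mul_index
  rw [Subgroup.index_ker] at h
  have hr : Nat.card ↥D.φ.range ∣ 887040 := hA ▸ D.φ.range.card_subgroup_dvd_card
  rw [← h] at h25
  have hc : Nat.Coprime (Nat.card ↥D.φ.ker) (5 ^ 2) :=
    Nat.Coprime.pow_right 2 ((Nat.Prime.coprime_iff_not_dvd (by norm_num)).2 hker).symm
  exact absurd ((hc.symm.dvd_of_dvd_mul_left (by rwa [show (5 : ℕ) ^ 2 = 25 by norm_num])).trans hr) (by norm_num)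

/-- The subgroups of order five of `H` are conjugate. -/
theorem five_conj [Finite G] (D : HData z P) {a b : G} (ha : a ∈ cH z) (hb : b ∈ cH z) (ha5 : a ^ 5 = 1)
    (ha1 : a ≠ 1) (hb5 : b ^ 5 = 1) (hb1 : b ≠ 1) : ∃ h ∈ cH z, ∃ i : ℕ, h * a * h⁻¹ = b ^ i := by
  have : Fact (Nat.Prime 5) := ⟨by norm_num⟩
  have h5 : ∀ x : ↥(cH z), x ^ 5 = 1 → x ≠ 1 →
      Nat.card ↥(Subgroup.zpowers x) = 5 ^ (Nat.card ↥(cH z)).factorization 5 := by
    intro x hx hx1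
    have hc : Nat.card ↥(Subgroup.zpowers x) = 5 := by
      rw [Nat.card_zpowers, orderOf_eq_prime hx hx1]
    have hd : 5 ∣ Nat.card ↥(cH z) := hc ▸ (Subgroup.zpowers x).card_subgroup_dvd_card
    rw [hc, show (Nat.card ↥(cH z)).factorization 5 = 1 from ?_, pow_one]
    have h1 := (Nat.Prime.dvd_iff_one_le_factorization (show Nat.Prime 5 by norm_num) Nat.card_pos.ne').1 hd
    have h2 : ¬ 2 ≤ (Nat.card ↥(cH z)).factorization 5 := fun h2 =>
      not_twentyfive_dvd D ((Nat.Prime.pow_dvd_iff_le_factorization (show Nat.Prime 5 by norm_num) Nat.card_pos.ne').2 h2 :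
        5 ^ 2 ∣ Nat.card ↥(cH z))
    omega
  have e1 := h5 ⟨a, ha⟩ (Subtype.ext ha5) (fun h => ha1 (congrArg Subtype.val h))
  have e2 := h5 ⟨b, hb⟩ (Subtype.ext hb5) (fun h => hb1 (congrArg Subtype.val h))
  obtain ⟨h, hh⟩ := MulAction.exists_smul_eq ↥(cH z) (Sylow.ofCard _ e1) (Sylow.ofCard _ e2)
  have hmem : h * ⟨a, ha⟩ * h⁻¹ ∈ Subgroup.zpowers (⟨b, hb⟩ : ↥(cH z)) := by
    have := Subgroup.smul_mem_pointwise_smul (⟨a, ha⟩ : ↥(cH z)) (MulAut.conj h)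
      ((Sylow.ofCard _ e1 : Sylow 5 ↥(cH z)) : Subgroup ↥(cH z)) (Subgroup.mem_zpowers _)
    rw [← Sylow.coe_subgroup_smul] at this
    change _ ∈ ((h • Sylow.ofCard _ e1 : Sylow 5 ↥(cH z)) : Subgroup ↥(cH z)) at this
    rw [hh] at this
    exact this
  obtain ⟨i, hi⟩ := ((isOfFinOrder_of_finite _).mem_powers_iff_mem_zpowers.2 hmem : _ ∈ Submonoid.powers _)
  exact ⟨(h : G), h.2, i, congrArg Subtype.val hi.symm⟩

theorem eq_zpowers [Finite G] {Q : Subgroup G} (hQ : Nat.card ↥Q = 5) :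
    ∃ a : G, a ^ 5 = 1 ∧ a ≠ 1 ∧ Q = Subgroup.zpowers a := by
  have : Fact (Nat.Prime 5) := ⟨by norm_num⟩
  obtain ⟨a, ha⟩ := exists_prime_orderOf_dvd_card' 5 (G := ↥Q) (by rw [hQ])
  have ha' : orderOf (a : G) = 5 := by rw [Subgroup.orderOf_coe]; exact ha
  refine ⟨a, by rw [← ha', pow_orderOf_eq_one], fun h => ?_, ?_⟩
  · rw [h, orderOf_one] at ha'; norm_num at ha'
  · exact (Subgroup.eq_of_le_of_card_ge (Subgroup.zpowers_le.2 a.2) (by rw [Nat.card_zpowers, ha', hQ])).symm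

/-- The hypotheses at five for one element of order five give them for all subgroups of order five of `H`. -/
theorem endHyp_of [Finite G] (D : HData z P) {q : G} (hq : q ∈ cH z) (q5 : q ^ 5 = 1) (q1 : q ≠ 1)
    (h : Nonempty (EndHyp (Subgroup.zpowers q) z)) (Q : Subgroup G) (hQ : Nat.card ↥Q = 5)
    (hQz : Q ≤ cH z) : Nonempty (EndHyp Q z) := by
  obtain ⟨a, ha5, ha1, rfl⟩ := eq_zpowers hQ
  obtain ⟨k, hk, i, hki⟩ := five_conj D hq (hQz (Subgroup.mem_zpowers a)) q5 q1 ha5 ha1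
  obtain ⟨h⟩ := h
  have hfix : MulAut.conj k z = z := by
    rw [MulAut.conj_apply, Subgroup.mem_centralizer_singleton_iff.1 hk, mul_inv_cancel_right]
  have heq : (Subgroup.zpowers q).map (MulAut.conj k).toMonoidHom = Subgroup.zpowers a := by
    have hc : Nat.card ↥((Subgroup.zpowers q).map (MulAut.conj k).toMonoidHom) = 5 := by
      have : Fact (Nat.Prime 5) := ⟨by norm_num⟩
      rw [Subgroup.card_map_of_injective (MulAut.conj k).injective, Nat.card_zpowers, orderOf_eq_prime q5 q1]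
    refine Subgroup.eq_of_le_of_card_ge ?_ (le_of_eq (hQ.trans hc.symm))
    rw [MonoidHom.map_zpowers, Subgroup.zpowers_le]
    show k * q * k⁻¹ ∈ _
    rw [hki]
    exact pow_mem (Subgroup.mem_zpowers a) i
  exact ⟨heq ▸ h.map (MulAut.conj k) hfix⟩

/-- `z` is fused inside the centralizer of the element of order five. -/
theorem exists_fused [Finite G] (D : HData z P) {F : MFacts M22t} (FF : FiveFacts F) {q : ↥(cC z P)}
    (hq : D.π q = FF.q) (q5 : q ^ 5 = 1) (hcov : Covering D)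
    (hmain : ∃ g, g * z * g⁻¹ ∈ cC z P ∧ g * z * g⁻¹ ≠ z) :
    ∃ g ∈ Subgroup.centralizer (Subgroup.zpowers (q : G) : Set G),
      g * z * g⁻¹ ∈ cE z ∧ g * z * g⁻¹ ≠ z := by
  obtain ⟨g₀, hg₀, hne₀⟩ := hmain
  obtain ⟨k, hk, hkne⟩ := exists_conj_mem_cE D hg₀ hne₀
  obtain ⟨c, hc2, hc1, hc4, hv⟩ := conj_mem_rng D hk hkne
  obtain ⟨d, hd5, hd1, hdv⟩ := hcov c hc2 hc1 hc4 _ hv
  obtain ⟨s, hs⟩ : ∃ s, s = k * z * k⁻¹ := ⟨_, rfl⟩
  have hd5' : (d : G) ^ 5 = 1 := congrArg Subtype.val hd5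
  have hds : (d : G) * s * (d : G)⁻¹ = s := by
    rw [smul_mk, mk_eq D.hJ] at hdv
    rcases hdv with h | h
    · rw [hs]; exact h.symm
    · exfalso
      have hdz : (d : G) * z * (d : G)⁻¹ = z := by
        rw [Subgroup.mem_centralizer_singleton_iff.1 d.2.1, mul_inv_cancel_right]
      have hs' : s = (d : G) * s * (d : G)⁻¹ * z := by rw [hs]; exact h
      have hsz : (d : G) * s * (d : G)⁻¹ = s * z := by
        conv_rhs => rw [hs']
        rw [mul_assoc _ z z, z_sq D.hJ, mul_one]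
      have step : ∀ n : ℕ, (d : G) ^ n * s * ((d : G) ^ n)⁻¹ = s * z ^ n := by
        intro n
        induction n with
        | zero => simp
        | succ n ih =>
          rw [show (d : G) ^ (n + 1) * s * ((d : G) ^ (n + 1))⁻¹ =
            (d : G) * ((d : G) ^ n * s * ((d : G) ^ n)⁻¹) * (d : G)⁻¹ by rw [pow_succ']; group, ih,
            show (d : G) * (s * z ^ n) * (d : G)⁻¹ = ((d : G) * s * (d : G)⁻¹) * ((d : G) * z ^ n * (d : G)⁻¹) by group,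
            hsz, ← conj_pow, hdz, mul_assoc, ← pow_succ']
      have h5 := step 5
      rw [hd5', show z ^ 5 = z by rw [show (5 : ℕ) = 2 * 2 + 1 from rfl, pow_succ, pow_mul, pow_two z, z_sq D.hJ, one_pow, one_mul]] at h5
      simp only [inv_one, mul_one, one_mul] at h5
      exact z_ne D.hJ (mul_eq_left.1 h5.symm)
  have hd1' : (d : G) ≠ 1 := fun h => hd1 (Subtype.ext h)
  have hq5' : (q : G) ^ 5 = 1 := congrArg Subtype.val q5
  have hq1' : (q : G) ≠ 1 := fun h => FF.q1 (by rw [← hq, show q = 1 from Subtype.ext h, map_one])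
  obtain ⟨h, hh, i, hhi⟩ := five_conj D d.2.1 q.2.1 hd5' hd1' hq5' hq1'
  obtain ⟨k₁, hk₁⟩ : ∃ k₁, k₁ = h * k := ⟨_, rfl⟩
  have hs₁ : k₁ * z * k₁⁻¹ = h * s * h⁻¹ := by rw [hk₁, hs]; group
  have hzh : h * z * h⁻¹ = z := by rw [Subgroup.mem_centralizer_singleton_iff.1 hh, mul_inv_cancel_right]
  have hs₁E : k₁ * z * k₁⁻¹ ∈ cE z := hs₁ ▸ cE_conj hh (hs ▸ hk)
  have hs₁ne : k₁ * z * k₁⁻¹ ≠ z := by
    rw [hs₁]
    intro e
    rw [← hzh] at e
    exact hkne (hs ▸ mul_left_cancel (mul_right_cancel e))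
  have hcomm_i : Commute ((q : G) ^ i) (k₁ * z * k₁⁻¹) := by
    rw [hs₁, ← hhi]
    show h * (d : G) * h⁻¹ * (h * s * h⁻¹) = h * s * h⁻¹ * (h * (d : G) * h⁻¹)
    rw [mul_inv_eq_iff_eq_mul] at hds
    calc h * (d : G) * h⁻¹ * (h * s * h⁻¹) = h * ((d : G) * s) * h⁻¹ := by group
      _ = h * (s * (d : G)) * h⁻¹ := by rw [hds]
      _ = _ := by group
  have hi5 : i % 5 ≠ 0 := fun e => by
    rw [← Nat.div_add_mod i 5, e, add_zero, pow_mul, hq5', one_pow] at hhi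
    exact hd1' (conj_eq_one_iff.1 hhi)
  -- the element `q` itself centralizes it
  have hcomm : Commute (q : G) (k₁ * z * k₁⁻¹) := by
    obtain ⟨j, hj⟩ : ∃ j, i * j % 5 = 1 := by
      rcases (by omega : i % 5 = 1 ∨ i % 5 = 2 ∨ i % 5 = 3 ∨ i % 5 = 4) with e | e | e | e
      exacts [⟨1, by omega⟩, ⟨3, by omega⟩, ⟨2, by omega⟩, ⟨4, by omega⟩]
    have := hcomm_i.pow_left j
    rwa [← pow_mul, ← Nat.div_add_mod (i * j) 5, hj, pow_add, pow_mul, hq5', one_pow, one_mul, pow_one] at this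
  have hσ : k₁⁻¹ * (q : G) * k₁ ∈ cH z := by
    refine Subgroup.mem_centralizer_singleton_iff.2 ?_
    calc k₁⁻¹ * (q : G) * k₁ * z = k₁⁻¹ * ((q : G) * (k₁ * z * k₁⁻¹)) * k₁ := by group
      _ = k₁⁻¹ * (k₁ * z * k₁⁻¹ * (q : G)) * k₁ := by rw [hcomm.eq]
      _ = z * (k₁⁻¹ * (q : G) * k₁) := by group
  have hσ5 : (k₁⁻¹ * (q : G) * k₁) ^ 5 = 1 := by
    rw [show k₁⁻¹ * (q : G) * k₁ = k₁⁻¹ * (q : G) * k₁⁻¹⁻¹ by rw [inv_inv], conj_pow, hq5']; group
  have hσ1 : k₁⁻¹ * (q : G) * k₁ ≠ 1 := fun e => hq1' (by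
    calc (q : G) = k₁ * (k₁⁻¹ * (q : G) * k₁) * k₁⁻¹ := by group
      _ = 1 := by rw [e]; group)
  obtain ⟨h₂, hh₂, j, hj⟩ := five_conj D hσ q.2.1 hσ5 hσ1 hq5' hq1'
  -- correct by the normalizer of `q` in `C`
  obtain ⟨f, hf⟩ := D.πsurj FF.f
  have hfq : (f : G) * (q : G) * (f : G)⁻¹ = (q : G) ^ 2 := by
    obtain ⟨m, hm⟩ : ∃ m, m = (q ^ 2)⁻¹ * (f * q * f⁻¹) := ⟨_, rfl⟩
    have hmk : D.π m = 1 := by
      rw [hm, map_mul, map_inv, map_pow, map_mul, map_mul, map_inv, hf, hq, FF.fq, inv_mul_cancel]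
    have hc := D.toJMod.ker_comm m hmk q
    have h6 := D.toJMod.ker_pow m hmk
    have hfm : f * q * f⁻¹ = q ^ 2 * m := by rw [hm, mul_inv_cancel_left]
    have h5m : m ^ 5 = 1 := by
      have := congrArg (fun t => t ^ 5) hfm
      simp only [conj_pow, q5, (hc.symm.pow_left 2).mul_pow, ← pow_mul] at this
      rw [show 2 * 5 = 5 * 2 from rfl, pow_mul, q5, one_pow, one_mul, mul_one, mul_inv_cancel] at this
      exact this.symm
    have hm1 : m = 1 := by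
      calc m = m ^ 6 * (m ^ 5)⁻¹ := by group
        _ = 1 := by rw [h6, h5m]; group
    rw [hm1, mul_one] at hfm
    exact congrArg Subtype.val hfm
  have hfpow : ∀ a : ℕ, (f : G) ^ a * (q : G) * ((f : G) ^ a)⁻¹ = (q : G) ^ (2 ^ a) := by
    intro a
    induction a with
    | zero => simp
    | succ a ih =>
      rw [show (f : G) ^ (a + 1) * (q : G) * ((f : G) ^ (a + 1))⁻¹ =
        (f : G) * ((f : G) ^ a * (q : G) * ((f : G) ^ a)⁻¹) * (f : G)⁻¹ by rw [pow_succ']; group, ih,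
        ← conj_pow, hfq, ← pow_mul]
      ring_nf
  have hj5 : j % 5 ≠ 0 := fun e => by
    rw [← Nat.div_add_mod j 5, e, add_zero, pow_mul, hq5', one_pow] at hj
    exact hσ1 (conj_eq_one_iff.1 hj)
  obtain ⟨a, ha⟩ : ∃ a : ℕ, (f : G) ^ a * (q : G) * ((f : G) ^ a)⁻¹ = (q : G) ^ j := by
    obtain ⟨a, ha⟩ : ∃ a : ℕ, 2 ^ a % 5 = j % 5 := by
      rcases (by omega : j % 5 = 1 ∨ j % 5 = 2 ∨ j % 5 = 3 ∨ j % 5 = 4) with e | e | e | e
      exacts [⟨0, by omega⟩, ⟨1, by omega⟩, ⟨3, by omega⟩, ⟨2, by omega⟩]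
    refine ⟨a, ?_⟩
    rw [hfpow, ← Nat.div_add_mod (2 ^ a) 5, ha]
    conv_rhs => rw [← Nat.div_add_mod j 5]
    simp only [pow_add, pow_mul, hq5', one_pow]
  have hfH : (f : G) ^ a ∈ cH z := pow_mem f.2.1 a
  obtain ⟨g, hg⟩ : ∃ g, g = k₁ * h₂⁻¹ * (f : G) ^ a := ⟨_, rfl⟩
  have hgz : g * z * g⁻¹ = k₁ * z * k₁⁻¹ := by
    have e1 : h₂⁻¹ * (f : G) ^ a * z = z * (h₂⁻¹ * (f : G) ^ a) :=
      Subgroup.mem_centralizer_singleton_iff.1 (mul_mem (inv_mem hh₂) hfH)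
    calc g * z * g⁻¹ = k₁ * (h₂⁻¹ * (f : G) ^ a * z) * (h₂⁻¹ * (f : G) ^ a)⁻¹ * k₁⁻¹ := by rw [hg]; group
      _ = k₁ * z * k₁⁻¹ := by rw [e1]; group
  have hgq : g * (q : G) * g⁻¹ = (q : G) := by
    calc g * (q : G) * g⁻¹ = k₁ * (h₂⁻¹ * ((f : G) ^ a * (q : G) * ((f : G) ^ a)⁻¹) * h₂) * k₁⁻¹ := by
          rw [hg]; group
      _ = k₁ * (h₂⁻¹ * (h₂ * (k₁⁻¹ * (q : G) * k₁) * h₂⁻¹) * h₂) * k₁⁻¹ := by rw [ha, hj]
      _ = (q : G) := by group
  refine ⟨g, Subgroup.mem_centralizer_iff.2 fun x hx => ?_, hgz ▸ hs₁E, hgz ▸ hs₁ne⟩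
  obtain ⟨n, rfl⟩ := Subgroup.mem_zpowers_iff.1 hx
  exact ((show Commute g (q : G) from mul_inv_eq_iff_eq_mul.1 hgq).zpow_right n).eq.symm

end Cfsg.Agent.Lib.J4Five60
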