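import Cfsg.Agent.Lib.J4Five60.Facts

/-!
# The interfaces for the local structure at five in a group of type J4
-/

set_option autoImplicit false

namespace Cfsg.Agent.Lib.J4Five60

open Cfsg Cfsg.Agent.Lib.J4Type19

variable {G : Type*} [Group G]

/-- A vector in the commutator space of an involution is fixed by an element of order five. -/
def Covering {z : G} {P : Subgroup G} (D : HData z P) : Prop :=
  ∀ c : ↥(cC z P), D.π c * D.π c = 1 → D.π c ≠ 1 → c ^ 4 = 1 → ∀ v ∈ JMod.rng (V := cV z) c,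
    ∃ d : ↥(cC z P), d ^ 5 = 1 ∧ d ≠ 1 ∧ d • v = v

/-- What is needed about the centralizer of a subgroup of order five. -/
structure EndHyp (Q : Subgroup G) (z : G) : Type _ where
  q : G
  q5 : q ^ 5 = 1
  q1 : q ≠ 1
  hQ : Q = Subgroup.zpowers q
  hz : orderOf z = 2
  z_cent : z ∈ Subgroup.centralizer (Q : Set G)
  Q0 : Subgroup G
  Q0_le : Q0 ≤ Subgroup.centralizer ({z} : Set G) ⊓ Subgroup.centralizer (Q : Set G)
  Q0_norm : ∀ l ∈ Subgroup.centralizer ({z} : Set G) ⊓ Subgroup.centralizer (Q : Set G),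
    ∀ e ∈ Q0, l * e * l⁻¹ ∈ Q0
  Q0_extra : IsExtraspecial 2 ↥Q0
  card_Q0 : Nat.card ↥Q0 = 32
  z_mem : z ∈ Q0
  card_L : Nat.card ↥(Subgroup.centralizer ({z} : Set G) ⊓ Subgroup.centralizer (Q : Set G)) = 960
  p : G
  t : G
  p_mem : p ∈ Subgroup.centralizer ({z} : Set G) ⊓ Subgroup.centralizer (Q : Set G)
  t_mem : t ∈ Subgroup.centralizer ({z} : Set G) ⊓ Subgroup.centralizer (Q : Set G)
  p3 : p ^ 3 = 1
  p1 : p ≠ 1
  fpf : ∀ e ∈ Q0, p * e = e * p → e = 1 ∨ e = z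
  tp : t * p * t⁻¹ = p⁻¹
  card_cp : Nat.card ↥(Subgroup.centralizer (Q : Set G) ⊓ Subgroup.centralizer ({p} : Set G)) = 30
  fused : ∃ g ∈ Subgroup.centralizer (Q : Set G), g * z * g⁻¹ ∈ Q0 ∧ g * z * g⁻¹ ≠ z
  eight : ∃ x ∈ Subgroup.centralizer ({z} : Set G) ⊓ Subgroup.centralizer (Q : Set G), x ^ 8 = 1 ∧ x ^ 4 ≠ 1
  f : G
  fq : f * q * f⁻¹ = q ^ 2

/-- The local structure at five. -/
def FiveStructure (Q : Subgroup G) : Prop :=
  ¬ (25 ∣ Nat.card G) ∧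
    (∃ J : Subgroup G, Cfsg.IsInternalDirectProduct Q J (Subgroup.centralizer (Q : Set G)) ∧
      ∃ (E : Subgroup ↥J) (_ : E.Normal), Cfsg.IsElementaryAbelian 2 E ∧ Nat.card ↥E = 8 ∧
        Nonempty (↥J ⧸ E ≃* Matrix.SpecialLinearGroup (Fin 3) (ZMod 2)) ∧ ∀ K : Subgroup ↥J, ¬ E.IsComplement' K) ∧
    (∃ R : Subgroup G, Q ≤ R ∧ R ≤ Subgroup.normalizer (Q : Set G) ∧ Nat.card ↥R = 20 ∧
      R ⊓ Subgroup.centralizer (Q : Set G) = Q) ∧
    Nat.card ↥(Subgroup.normalizer (Q : Set G)) = 2 ^ 8 * 3 * 5 * 7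

end Cfsg.Agent.Lib.J4Five60
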