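import Cfsg.Agent.Lib.J4Five60.Spec

/-!
# Transport of the hypotheses at five
-/

set_option autoImplicit false

namespace Cfsg.Agent.Lib.J4Five60

open Cfsg

variable {G : Type*} [Group G]

theorem map_centralizer_eq (σ : G ≃* G) (S : Subgroup G) :
    (Subgroup.centralizer (S : Set G)).map σ.toMonoidHom = Subgroup.centralizer (S.map σ.toMonoidHom : Set G) := by
  ext x
  constructor
  · rintro ⟨y, hy, rfl⟩
    refine Subgroup.mem_centralizer_iff.2 ?_
    rintro _ ⟨s, hs, rfl⟩
    rw [← map_mul, ← map_mul, Subgroup.mem_centralizer_iff.1 hy s hs]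
  · intro hx
    refine ⟨σ.symm x, Subgroup.mem_centralizer_iff.2 fun s hs => ?_, σ.apply_symm_apply x⟩
    have := Subgroup.mem_centralizer_iff.1 hx (σ s) ⟨s, hs, rfl⟩
    apply σ.injective
    rw [map_mul, map_mul, σ.apply_symm_apply]
    exact this

theorem map_centralizer_one (σ : G ≃* G) {z : G} (hz : σ z = z) :
    (Subgroup.centralizer ({z} : Set G)).map σ.toMonoidHom = Subgroup.centralizer ({z} : Set G) := by
  ext x
  constructor
  · rintro ⟨y, hy, rfl⟩
    refine Subgroup.mem_centralizer_singleton_iff.2 ?_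
    have := congrArg σ (Subgroup.mem_centralizer_singleton_iff.1 hy)
    rw [map_mul, map_mul, hz] at this
    exact this
  · intro hx
    refine ⟨σ.symm x, Subgroup.mem_centralizer_singleton_iff.2 ?_, σ.apply_symm_apply x⟩
    apply σ.injective
    rw [map_mul, map_mul, σ.apply_symm_apply, hz]
    exact Subgroup.mem_centralizer_singleton_iff.1 hx

theorem extraspecial_of_equiv {A B : Type*} [Group A] [Group B] (e : A ≃* B) (h : IsExtraspecial 2 A) :
    IsExtraspecial 2 B := by
  obtain ⟨⟨hp, hfr, hcm⟩, hcard⟩ := h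
  have hc : (Subgroup.center A).map e.toMonoidHom = Subgroup.center B := by
    ext y
    obtain ⟨x, rfl⟩ := e.surjective y
    simp only [Subgroup.mem_map, MulEquiv.coe_toMonoidHom, Subgroup.mem_center_iff]
    constructor
    · rintro ⟨a, ha, hax⟩ w
      obtain ⟨v, rfl⟩ := e.surjective w
      rw [← hax, ← map_mul, ← map_mul, ha v]
    · exact fun hy => ⟨x, fun v => e.injective (by rw [map_mul, map_mul, hy (e v)]), rfl⟩
  have hf : (frattini A).map e.toMonoidHom = frattini B := by
    refine le_antisymm (Subgroup.map_le_iff_le_comap.2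
      (frattini_le_comap_frattini_of_surjective (φ := e.toMonoidHom) e.surjective)) fun y hy => ?_
    exact ⟨e.symm y, frattini_le_comap_frattini_of_surjective (φ := e.symm.toMonoidHom)
      e.symm.surjective hy, e.apply_symm_apply y⟩
  refine ⟨⟨hp.of_equiv e, by rw [← hf, ← hc, hfr], ?_⟩, ?_⟩
  · rw [← hc, ← hcm, commutator_def, commutator_def, Subgroup.map_commutator,
      Subgroup.map_top_of_surjective e.toMonoidHom e.surjective]
  · rw [← hc, Subgroup.card_map_of_injective e.injective, hcard]

/-- The hypotheses at five are invariant under automorphisms fixing `z`. -/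
def EndHyp.map {Q : Subgroup G} {z : G} (h : EndHyp Q z) (σ : G ≃* G) (hz : σ z = z) :
    EndHyp (Q.map σ.toMonoidHom) z :=
  have hL : (Subgroup.centralizer ({z} : Set G) ⊓ Subgroup.centralizer (Q : Set G)).map σ.toMonoidHom =
      Subgroup.centralizer ({z} : Set G) ⊓ Subgroup.centralizer (Q.map σ.toMonoidHom : Set G) := by
    rw [Subgroup.map_inf _ _ _ σ.injective, map_centralizer_one σ hz, map_centralizer_eq]
  have memL : ∀ {x : G}, x ∈ Subgroup.centralizer ({z} : Set G) ⊓ Subgroup.centralizer (Q : Set G) →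
      σ x ∈ Subgroup.centralizer ({z} : Set G) ⊓ Subgroup.centralizer (Q.map σ.toMonoidHom : Set G) :=
    fun hx => hL ▸ ⟨_, hx, rfl⟩
  { q := σ h.q
    q5 := by rw [← map_pow, h.q5, map_one]
    q1 := fun e => h.q1 (σ.injective (e.trans (map_one σ).symm))
    hQ := (congrArg (Subgroup.map σ.toMonoidHom) h.hQ).trans (MonoidHom.map_zpowers σ.toMonoidHom h.q)
    hz := h.hz
    z_cent := by
      rw [← map_centralizer_eq]
      exact ⟨z, h.z_cent, hz⟩
    Q0 := h.Q0.map σ.toMonoidHom
    Q0_le := hL ▸ Subgroup.map_mono h.Q0_le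
    Q0_norm := by
      intro l hl e he
      rw [← hL] at hl
      obtain ⟨l', hl', rfl⟩ := hl
      obtain ⟨e', he', rfl⟩ := he
      exact ⟨l' * e' * l'⁻¹, h.Q0_norm l' hl' e' he', by simp⟩
    Q0_extra := extraspecial_of_equiv (Subgroup.equivMapOfInjective h.Q0 _ σ.injective) h.Q0_extra
    card_Q0 := by
      rw [← Nat.card_congr (Subgroup.equivMapOfInjective h.Q0 σ.toMonoidHom σ.injective).toEquiv, h.card_Q0]
    z_mem := ⟨z, h.z_mem, hz⟩
    card_L := by
      rw [← hL, ← Nat.card_congr (Subgroup.equivMapOfInjective _ σ.toMonoidHom σ.injective).toEquiv, h.card_L]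
    p := σ h.p
    t := σ h.t
    p_mem := memL h.p_mem
    t_mem := memL h.t_mem
    p3 := by rw [← map_pow, h.p3, map_one]
    p1 := fun e => h.p1 (σ.injective (e.trans (map_one σ).symm))
    fpf := by
      rintro _ ⟨e, he, rfl⟩ hc
      have hc' : σ (h.p * e) = σ (e * h.p) := by rw [map_mul, map_mul]; exact hc
      rcases h.fpf e he (σ.injective hc') with rfl | rfl
      · exact Or.inl (map_one σ)
      · exact Or.inr hz
    tp := by rw [← map_inv σ, ← map_mul, ← map_mul, h.tp, map_inv]
    card_cp := by
      have e : (Subgroup.centralizer (Q : Set G) ⊓ Subgroup.centralizer ({h.p} : Set G)).map σ.toMonoidHom =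
          Subgroup.centralizer (Q.map σ.toMonoidHom : Set G) ⊓ Subgroup.centralizer ({σ h.p} : Set G) := by
        rw [Subgroup.map_inf _ _ _ σ.injective, map_centralizer_eq]
        congr 1
        ext x
        constructor
        · rintro ⟨y, hy, rfl⟩
          exact Subgroup.mem_centralizer_singleton_iff.2
            ((map_mul σ y h.p).symm.trans ((congrArg σ (Subgroup.mem_centralizer_singleton_iff.1 hy)).trans
              (map_mul σ h.p y)))
        · intro hx
          refine ⟨σ.symm x, Subgroup.mem_centralizer_singleton_iff.2 ?_, σ.apply_symm_apply x⟩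
          apply σ.injective
          rw [map_mul, map_mul, σ.apply_symm_apply]
          exact Subgroup.mem_centralizer_singleton_iff.1 hx
      rw [← e, ← Nat.card_congr (Subgroup.equivMapOfInjective _ σ.toMonoidHom σ.injective).toEquiv, h.card_cp]
    fused := by
      obtain ⟨g, hg, hgQ, hne⟩ := h.fused
      refine ⟨σ g, map_centralizer_eq σ Q ▸ ⟨g, hg, rfl⟩, ⟨_, hgQ, by simp [hz]⟩, fun e => hne (σ.injective ?_)⟩
      rw [map_mul, map_mul, map_inv, hz]
      exact e
    eight := by
      obtain ⟨x, hx, h8, h4⟩ := h.eight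
      exact ⟨σ x, memL hx, by rw [← map_pow, h8, map_one],
        fun e => h4 (σ.injective (by rw [map_pow, map_one]; exact e))⟩
    f := σ h.f
    fq := by rw [← map_inv σ, ← map_mul, ← map_mul, h.fq, map_pow] }

end Cfsg.Agent.Lib.J4Five60
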